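import Mathlib

/-!
The numbers just below q(q⁶ + q³ + 1)(q⁴ + 1) dividing the order of E₆(q).
-/

set_option autoImplicit false
set_option linter.unusedVariables false

namespace Cfsg.Agent.Small.MinusculeDegree.E6

/-- The bound. -/
def bound (q : ℕ) : ℕ := q ^ 11 + q ^ 8 + q ^ 7 + q ^ 5 + q ^ 4 + q

/-- The order up to the centre. -/
def ord (q : ℕ) : ℕ :=
  q ^ 36 * ((q ^ 2 - 1) * (q ^ 5 - 1) * (q ^ 6 - 1) * (q ^ 8 - 1) * (q ^ 9 - 1) * (q ^ 12 - 1))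

theorem cast_ord (q : ℕ) (hq : 1 ≤ q) :
    (((q ^ 2 - 1) * (q ^ 5 - 1) * (q ^ 6 - 1) * (q ^ 8 - 1) * (q ^ 9 - 1) * (q ^ 12 - 1) : ℕ) : ℤ) =
      ((q : ℤ) ^ 2 - 1) * ((q : ℤ) ^ 5 - 1) * ((q : ℤ) ^ 6 - 1) * ((q : ℤ) ^ 8 - 1) * ((q : ℤ) ^ 9 - 1) *
        ((q : ℤ) ^ 12 - 1) := by
  have h : ∀ e : ℕ, ((q ^ e - 1 : ℕ) : ℤ) = (q : ℤ) ^ e - 1 := fun e => by
    rw [Nat.cast_sub (Nat.one_le_pow _ _ hq), Nat.cast_pow, Nat.cast_one]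
  simp only [Nat.cast_mul, h]

theorem large1 (q : ℤ) (hq : 3600 ≤ q)
    (h : q ^ 11 + q ^ 8 + q ^ 7 + q ^ 5 + q ^ 4 + q - 1 ∣
      1 * ((q ^ 2 - 1) * (q ^ 5 - 1) * (q ^ 6 - 1) * (q ^ 8 - 1) * (q ^ 9 - 1) * (q ^ 12 - 1))) : False := by
  obtain ⟨m, hm⟩ := h
  have hR : q ^ 11 + q ^ 8 + q ^ 7 + q ^ 5 + q ^ 4 + q - 1 ∣
      26 - 12 * q ^ 1 - 18 * q ^ 2 - 6 * q ^ 3 - 36 * q ^ 4 - 33 * q ^ 5 - 5 * q ^ 6 - 5 * q ^ 7 - 7 * q ^ 8 +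
      19 * q ^ 9 + 27 * q ^ 10 :=
    ⟨1 * (-27 - 15 * q ^ 1 + 4 * q ^ 2 + 10 * q ^ 3 + 19 * q ^ 4 + 11 * q ^ 5 + 6 * q ^ 6 - 3 * q ^ 7 - 9 * q ^ 8 -
      8 * q ^ 9 - 5 * q ^ 10 - 2 * q ^ 11 + 2 * q ^ 12 + 6 * q ^ 13 + 3 * q ^ 14 + 3 * q ^ 15 - q ^ 16 - q ^ 17
      - 3 * q ^ 18 - 3 * q ^ 19 + q ^ 22 + 2 * q ^ 23 + 2 * q ^ 24 - q ^ 27 - q ^ 28 - q ^ 29 + q ^ 31) - m, by
      linear_combination -hm⟩

  have p2 : 3600 * q ≤ q ^ 2 := by rw [pow_two]; exact mul_le_mul_of_nonneg_right hq (by omega)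
  have p3 : 3600 * q ^ 2 ≤ q ^ 3 := by
    rw [pow_succ' q 2]; exact mul_le_mul_of_nonneg_right hq (pow_nonneg (by omega) _)
  have p4 : 3600 * q ^ 3 ≤ q ^ 4 := by
    rw [pow_succ' q 3]; exact mul_le_mul_of_nonneg_right hq (pow_nonneg (by omega) _)
  have p5 : 3600 * q ^ 4 ≤ q ^ 5 := by
    rw [pow_succ' q 4]; exact mul_le_mul_of_nonneg_right hq (pow_nonneg (by omega) _)
  have p6 : 3600 * q ^ 5 ≤ q ^ 6 := by
    rw [pow_succ' q 5]; exact mul_le_mul_of_nonneg_right hq (pow_nonneg (by omega) _)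
  have p7 : 3600 * q ^ 6 ≤ q ^ 7 := by
    rw [pow_succ' q 6]; exact mul_le_mul_of_nonneg_right hq (pow_nonneg (by omega) _)
  have p8 : 3600 * q ^ 7 ≤ q ^ 8 := by
    rw [pow_succ' q 7]; exact mul_le_mul_of_nonneg_right hq (pow_nonneg (by omega) _)
  have p9 : 3600 * q ^ 8 ≤ q ^ 9 := by
    rw [pow_succ' q 8]; exact mul_le_mul_of_nonneg_right hq (pow_nonneg (by omega) _)
  have p10 : 3600 * q ^ 9 ≤ q ^ 10 := by
    rw [pow_succ' q 9]; exact mul_le_mul_of_nonneg_right hq (pow_nonneg (by omega) _)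
  have p11 : 3600 * q ^ 10 ≤ q ^ 11 := by
    rw [pow_succ' q 10]; exact mul_le_mul_of_nonneg_right hq (pow_nonneg (by omega) _)
  have hpos : (0 : ℤ) < 26 - 12 * q ^ 1 - 18 * q ^ 2 - 6 * q ^ 3 - 36 * q ^ 4 - 33 * q ^ 5 - 5 * q ^ 6 - 5 * q ^ 7 - 7 * q ^ 8 +
      19 * q ^ 9 + 27 * q ^ 10 := by linarith
  have hle := Int.le_of_dvd hpos hR
  linarith

theorem large2 (q : ℤ) (hq : 3600 ≤ q)
    (h : q ^ 11 + q ^ 8 + q ^ 7 + q ^ 5 + q ^ 4 + q - 2 ∣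
      2 * ((q ^ 2 - 1) * (q ^ 5 - 1) * (q ^ 6 - 1) * (q ^ 8 - 1) * (q ^ 9 - 1) * (q ^ 12 - 1))) : False := by
  obtain ⟨m, hm⟩ := h
  have hR : q ^ 11 + q ^ 8 + q ^ 7 + q ^ 5 + q ^ 4 + q - 2 ∣
      230 - 48 * q ^ 1 - 148 * q ^ 2 - 66 * q ^ 3 - 222 * q ^ 4 - 128 * q ^ 5 + 42 * q ^ 6 + 50 * q ^ 7 + 52 * q
      ^ 8 + 160 * q ^ 9 + 166 * q ^ 10 :=
    ⟨2 * (-58 - 17 * q ^ 1 + 29 * q ^ 2 + 31 * q ^ 3 + 42 * q ^ 4 + 16 * q ^ 5 + 4 * q ^ 6 - 10 * q ^ 7 - 19 * q ^ 8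
      - 14 * q ^ 9 - 9 * q ^ 10 - q ^ 11 + 6 * q ^ 12 + 11 * q ^ 13 + 5 * q ^ 14 + 4 * q ^ 15 - 3 * q ^ 16 - 3 *
      q ^ 17 - 4 * q ^ 18 - 3 * q ^ 19 + q ^ 20 + q ^ 22 + 2 * q ^ 23 + 2 * q ^ 24 - q ^ 27 - q ^ 28 - q ^ 29 +
      q ^ 31) - m, by
      linear_combination -hm⟩

  have p2 : 3600 * q ≤ q ^ 2 := by rw [pow_two]; exact mul_le_mul_of_nonneg_right hq (by omega)
  have p3 : 3600 * q ^ 2 ≤ q ^ 3 := by
    rw [pow_succ' q 2]; exact mul_le_mul_of_nonneg_right hq (pow_nonneg (by omega) _)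
  have p4 : 3600 * q ^ 3 ≤ q ^ 4 := by
    rw [pow_succ' q 3]; exact mul_le_mul_of_nonneg_right hq (pow_nonneg (by omega) _)
  have p5 : 3600 * q ^ 4 ≤ q ^ 5 := by
    rw [pow_succ' q 4]; exact mul_le_mul_of_nonneg_right hq (pow_nonneg (by omega) _)
  have p6 : 3600 * q ^ 5 ≤ q ^ 6 := by
    rw [pow_succ' q 5]; exact mul_le_mul_of_nonneg_right hq (pow_nonneg (by omega) _)
  have p7 : 3600 * q ^ 6 ≤ q ^ 7 := by
    rw [pow_succ' q 6]; exact mul_le_mul_of_nonneg_right hq (pow_nonneg (by omega) _)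
  have p8 : 3600 * q ^ 7 ≤ q ^ 8 := by
    rw [pow_succ' q 7]; exact mul_le_mul_of_nonneg_right hq (pow_nonneg (by omega) _)
  have p9 : 3600 * q ^ 8 ≤ q ^ 9 := by
    rw [pow_succ' q 8]; exact mul_le_mul_of_nonneg_right hq (pow_nonneg (by omega) _)
  have p10 : 3600 * q ^ 9 ≤ q ^ 10 := by
    rw [pow_succ' q 9]; exact mul_le_mul_of_nonneg_right hq (pow_nonneg (by omega) _)
  have p11 : 3600 * q ^ 10 ≤ q ^ 11 := by
    rw [pow_succ' q 10]; exact mul_le_mul_of_nonneg_right hq (pow_nonneg (by omega) _)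
  have hpos : (0 : ℤ) < 230 - 48 * q ^ 1 - 148 * q ^ 2 - 66 * q ^ 3 - 222 * q ^ 4 - 128 * q ^ 5 + 42 * q ^ 6 + 50 * q ^ 7 + 52 * q
      ^ 8 + 160 * q ^ 9 + 166 * q ^ 10 := by linarith
  have hle := Int.le_of_dvd hpos hR
  linarith

theorem large3 (q : ℤ) (hq : 3600 ≤ q)
    (h : q ^ 11 + q ^ 8 + q ^ 7 + q ^ 5 + q ^ 4 + q - 3 ∣
      3 * ((q ^ 2 - 1) * (q ^ 5 - 1) * (q ^ 6 - 1) * (q ^ 8 - 1) * (q ^ 9 - 1) * (q ^ 12 - 1))) : False := by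
  obtain ⟨m, hm⟩ := h
  have hR : q ^ 11 + q ^ 8 + q ^ 7 + q ^ 5 + q ^ 4 + q - 3 ∣
      834 - 216 * q ^ 1 - 684 * q ^ 2 - 336 * q ^ 3 - 714 * q ^ 4 - 225 * q ^ 5 + 285 * q ^ 6 + 285 * q ^ 7 +
      297 * q ^ 8 + 531 * q ^ 9 + 501 * q ^ 10 :=
    ⟨3 * (-93 - 7 * q ^ 1 + 74 * q ^ 2 + 62 * q ^ 3 + 69 * q ^ 4 + 15 * q ^ 5 - 4 * q ^ 6 - 19 * q ^ 7 - 29 * q ^ 8
      - 18 * q ^ 9 - 13 * q ^ 10 + 10 * q ^ 12 + 16 * q ^ 13 + 7 * q ^ 14 + 5 * q ^ 15 - 5 * q ^ 16 - 5 * q ^ 17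
      - 5 * q ^ 18 - 3 * q ^ 19 + 2 * q ^ 20 + q ^ 22 + 2 * q ^ 23 + 2 * q ^ 24 - q ^ 27 - q ^ 28 - q ^ 29 + q ^
      31) - m, by
      linear_combination -hm⟩

  have p2 : 3600 * q ≤ q ^ 2 := by rw [pow_two]; exact mul_le_mul_of_nonneg_right hq (by omega)
  have p3 : 3600 * q ^ 2 ≤ q ^ 3 := by
    rw [pow_succ' q 2]; exact mul_le_mul_of_nonneg_right hq (pow_nonneg (by omega) _)
  have p4 : 3600 * q ^ 3 ≤ q ^ 4 := by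
    rw [pow_succ' q 3]; exact mul_le_mul_of_nonneg_right hq (pow_nonneg (by omega) _)
  have p5 : 3600 * q ^ 4 ≤ q ^ 5 := by
    rw [pow_succ' q 4]; exact mul_le_mul_of_nonneg_right hq (pow_nonneg (by omega) _)
  have p6 : 3600 * q ^ 5 ≤ q ^ 6 := by
    rw [pow_succ' q 5]; exact mul_le_mul_of_nonneg_right hq (pow_nonneg (by omega) _)
  have p7 : 3600 * q ^ 6 ≤ q ^ 7 := by
    rw [pow_succ' q 6]; exact mul_le_mul_of_nonneg_right hq (pow_nonneg (by omega) _)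
  have p8 : 3600 * q ^ 7 ≤ q ^ 8 := by
    rw [pow_succ' q 7]; exact mul_le_mul_of_nonneg_right hq (pow_nonneg (by omega) _)
  have p9 : 3600 * q ^ 8 ≤ q ^ 9 := by
    rw [pow_succ' q 8]; exact mul_le_mul_of_nonneg_right hq (pow_nonneg (by omega) _)
  have p10 : 3600 * q ^ 9 ≤ q ^ 10 := by
    rw [pow_succ' q 9]; exact mul_le_mul_of_nonneg_right hq (pow_nonneg (by omega) _)
  have p11 : 3600 * q ^ 10 ≤ q ^ 11 := by
    rw [pow_succ' q 10]; exact mul_le_mul_of_nonneg_right hq (pow_nonneg (by omega) _)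
  have hpos : (0 : ℤ) < 834 - 216 * q ^ 1 - 684 * q ^ 2 - 336 * q ^ 3 - 714 * q ^ 4 - 225 * q ^ 5 + 285 * q ^ 6 + 285 * q ^ 7 +
      297 * q ^ 8 + 531 * q ^ 9 + 501 * q ^ 10 := by linarith
  have hle := Int.le_of_dvd hpos hR
  linarith

theorem large4 (q : ℤ) (hq : 3600 ≤ q)
    (h : q ^ 11 + q ^ 8 + q ^ 7 + q ^ 5 + q ^ 4 + q - 4 ∣
      4 * ((q ^ 2 - 1) * (q ^ 5 - 1) * (q ^ 6 - 1) * (q ^ 8 - 1) * (q ^ 9 - 1) * (q ^ 12 - 1))) : False := by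
  obtain ⟨m, hm⟩ := h
  have hR : q ^ 11 + q ^ 8 + q ^ 7 + q ^ 5 + q ^ 4 + q - 4 ∣
      2108 - 768 * q ^ 1 - 2160 * q ^ 2 - 1092 * q ^ 3 - 1716 * q ^ 4 - 192 * q ^ 5 + 940 * q ^ 6 + 844 * q ^ 7
      + 848 * q ^ 8 + 1216 * q ^ 9 + 1116 * q ^ 10 :=
    ⟨4 * (-132 + 15 * q ^ 1 + 139 * q ^ 2 + 103 * q ^ 3 + 100 * q ^ 4 + 8 * q ^ 5 - 18 * q ^ 6 - 30 * q ^ 7 - 39 * q
      ^ 8 - 20 * q ^ 9 - 17 * q ^ 10 + q ^ 11 + 14 * q ^ 12 + 21 * q ^ 13 + 9 * q ^ 14 + 6 * q ^ 15 - 7 * q ^ 16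
      - 7 * q ^ 17 - 6 * q ^ 18 - 3 * q ^ 19 + 3 * q ^ 20 + q ^ 22 + 2 * q ^ 23 + 2 * q ^ 24 - q ^ 27 - q ^ 28 -
      q ^ 29 + q ^ 31) - m, by
      linear_combination -hm⟩

  have p2 : 3600 * q ≤ q ^ 2 := by rw [pow_two]; exact mul_le_mul_of_nonneg_right hq (by omega)
  have p3 : 3600 * q ^ 2 ≤ q ^ 3 := by
    rw [pow_succ' q 2]; exact mul_le_mul_of_nonneg_right hq (pow_nonneg (by omega) _)
  have p4 : 3600 * q ^ 3 ≤ q ^ 4 := by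
    rw [pow_succ' q 3]; exact mul_le_mul_of_nonneg_right hq (pow_nonneg (by omega) _)
  have p5 : 3600 * q ^ 4 ≤ q ^ 5 := by
    rw [pow_succ' q 4]; exact mul_le_mul_of_nonneg_right hq (pow_nonneg (by omega) _)
  have p6 : 3600 * q ^ 5 ≤ q ^ 6 := by
    rw [pow_succ' q 5]; exact mul_le_mul_of_nonneg_right hq (pow_nonneg (by omega) _)
  have p7 : 3600 * q ^ 6 ≤ q ^ 7 := by
    rw [pow_succ' q 6]; exact mul_le_mul_of_nonneg_right hq (pow_nonneg (by omega) _)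
  have p8 : 3600 * q ^ 7 ≤ q ^ 8 := by
    rw [pow_succ' q 7]; exact mul_le_mul_of_nonneg_right hq (pow_nonneg (by omega) _)
  have p9 : 3600 * q ^ 8 ≤ q ^ 9 := by
    rw [pow_succ' q 8]; exact mul_le_mul_of_nonneg_right hq (pow_nonneg (by omega) _)
  have p10 : 3600 * q ^ 9 ≤ q ^ 10 := by
    rw [pow_succ' q 9]; exact mul_le_mul_of_nonneg_right hq (pow_nonneg (by omega) _)
  have p11 : 3600 * q ^ 10 ≤ q ^ 11 := by
    rw [pow_succ' q 10]; exact mul_le_mul_of_nonneg_right hq (pow_nonneg (by omega) _)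
  have hpos : (0 : ℤ) < 2108 - 768 * q ^ 1 - 2160 * q ^ 2 - 1092 * q ^ 3 - 1716 * q ^ 4 - 192 * q ^ 5 + 940 * q ^ 6 + 844 * q ^ 7
      + 848 * q ^ 8 + 1216 * q ^ 9 + 1116 * q ^ 10 := by linarith
  have hle := Int.le_of_dvd hpos hR
  linarith

theorem large5 (q : ℤ) (hq : 3600 ≤ q)
    (h : q ^ 11 + q ^ 8 + q ^ 7 + q ^ 5 + q ^ 4 + q - 5 ∣
      5 * ((q ^ 2 - 1) * (q ^ 5 - 1) * (q ^ 6 - 1) * (q ^ 8 - 1) * (q ^ 9 - 1) * (q ^ 12 - 1))) : False := by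
  obtain ⟨m, hm⟩ := h
  have hR : q ^ 11 + q ^ 8 + q ^ 7 + q ^ 5 + q ^ 4 + q - 5 ∣
      4370 - 2100 * q ^ 1 - 5350 * q ^ 2 - 2730 * q ^ 3 - 3480 * q ^ 4 + 175 * q ^ 5 + 2295 * q ^ 6 + 1895 * q ^
      7 + 1825 * q ^ 8 + 2275 * q ^ 9 + 2095 * q ^ 10 :=
    ⟨5 * (-175 + 49 * q ^ 1 + 224 * q ^ 2 + 154 * q ^ 3 + 135 * q ^ 4 - 5 * q ^ 5 - 38 * q ^ 6 - 43 * q ^ 7 - 49 * q
      ^ 8 - 20 * q ^ 9 - 21 * q ^ 10 + 2 * q ^ 11 + 18 * q ^ 12 + 26 * q ^ 13 + 11 * q ^ 14 + 7 * q ^ 15 - 9 * q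
      ^ 16 - 9 * q ^ 17 - 7 * q ^ 18 - 3 * q ^ 19 + 4 * q ^ 20 + q ^ 22 + 2 * q ^ 23 + 2 * q ^ 24 - q ^ 27 - q ^
      28 - q ^ 29 + q ^ 31) - m, by
      linear_combination -hm⟩

  have p2 : 3600 * q ≤ q ^ 2 := by rw [pow_two]; exact mul_le_mul_of_nonneg_right hq (by omega)
  have p3 : 3600 * q ^ 2 ≤ q ^ 3 := by
    rw [pow_succ' q 2]; exact mul_le_mul_of_nonneg_right hq (pow_nonneg (by omega) _)
  have p4 : 3600 * q ^ 3 ≤ q ^ 4 := by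
    rw [pow_succ' q 3]; exact mul_le_mul_of_nonneg_right hq (pow_nonneg (by omega) _)
  have p5 : 3600 * q ^ 4 ≤ q ^ 5 := by
    rw [pow_succ' q 4]; exact mul_le_mul_of_nonneg_right hq (pow_nonneg (by omega) _)
  have p6 : 3600 * q ^ 5 ≤ q ^ 6 := by
    rw [pow_succ' q 5]; exact mul_le_mul_of_nonneg_right hq (pow_nonneg (by omega) _)
  have p7 : 3600 * q ^ 6 ≤ q ^ 7 := by
    rw [pow_succ' q 6]; exact mul_le_mul_of_nonneg_right hq (pow_nonneg (by omega) _)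
  have p8 : 3600 * q ^ 7 ≤ q ^ 8 := by
    rw [pow_succ' q 7]; exact mul_le_mul_of_nonneg_right hq (pow_nonneg (by omega) _)
  have p9 : 3600 * q ^ 8 ≤ q ^ 9 := by
    rw [pow_succ' q 8]; exact mul_le_mul_of_nonneg_right hq (pow_nonneg (by omega) _)
  have p10 : 3600 * q ^ 9 ≤ q ^ 10 := by
    rw [pow_succ' q 9]; exact mul_le_mul_of_nonneg_right hq (pow_nonneg (by omega) _)
  have p11 : 3600 * q ^ 10 ≤ q ^ 11 := by
    rw [pow_succ' q 10]; exact mul_le_mul_of_nonneg_right hq (pow_nonneg (by omega) _)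
  have hpos : (0 : ℤ) < 4370 - 2100 * q ^ 1 - 5350 * q ^ 2 - 2730 * q ^ 3 - 3480 * q ^ 4 + 175 * q ^ 5 + 2295 * q ^ 6 + 1895 * q ^
      7 + 1825 * q ^ 8 + 2275 * q ^ 9 + 2095 * q ^ 10 := by linarith
  have hle := Int.le_of_dvd hpos hR
  linarith

theorem large6 (q : ℤ) (hq : 3600 ≤ q)
    (h : q ^ 11 + q ^ 8 + q ^ 7 + q ^ 5 + q ^ 4 + q - 6 ∣
      6 * ((q ^ 2 - 1) * (q ^ 5 - 1) * (q ^ 6 - 1) * (q ^ 8 - 1) * (q ^ 9 - 1) * (q ^ 12 - 1))) : False := by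
  obtain ⟨m, hm⟩ := h
  have hR : q ^ 11 + q ^ 8 + q ^ 7 + q ^ 5 + q ^ 4 + q - 6 ∣
      7986 - 4752 * q ^ 1 - 11268 * q ^ 2 - 5766 * q ^ 3 - 6306 * q ^ 4 + 1152 * q ^ 5 + 4710 * q ^ 6 + 3630 * q
      ^ 7 + 3348 * q ^ 8 + 3744 * q ^ 9 + 3522 * q ^ 10 :=
    ⟨6 * (-222 + 95 * q ^ 1 + 329 * q ^ 2 + 215 * q ^ 3 + 174 * q ^ 4 - 24 * q ^ 5 - 64 * q ^ 6 - 58 * q ^ 7 - 59 *
      q ^ 8 - 18 * q ^ 9 - 25 * q ^ 10 + 3 * q ^ 11 + 22 * q ^ 12 + 31 * q ^ 13 + 13 * q ^ 14 + 8 * q ^ 15 - 11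
      * q ^ 16 - 11 * q ^ 17 - 8 * q ^ 18 - 3 * q ^ 19 + 5 * q ^ 20 + q ^ 22 + 2 * q ^ 23 + 2 * q ^ 24 - q ^ 27
      - q ^ 28 - q ^ 29 + q ^ 31) - m, by
      linear_combination -hm⟩

  have p2 : 3600 * q ≤ q ^ 2 := by rw [pow_two]; exact mul_le_mul_of_nonneg_right hq (by omega)
  have p3 : 3600 * q ^ 2 ≤ q ^ 3 := by
    rw [pow_succ' q 2]; exact mul_le_mul_of_nonneg_right hq (pow_nonneg (by omega) _)
  have p4 : 3600 * q ^ 3 ≤ q ^ 4 := by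
    rw [pow_succ' q 3]; exact mul_le_mul_of_nonneg_right hq (pow_nonneg (by omega) _)
  have p5 : 3600 * q ^ 4 ≤ q ^ 5 := by
    rw [pow_succ' q 4]; exact mul_le_mul_of_nonneg_right hq (pow_nonneg (by omega) _)
  have p6 : 3600 * q ^ 5 ≤ q ^ 6 := by
    rw [pow_succ' q 5]; exact mul_le_mul_of_nonneg_right hq (pow_nonneg (by omega) _)
  have p7 : 3600 * q ^ 6 ≤ q ^ 7 := by
    rw [pow_succ' q 6]; exact mul_le_mul_of_nonneg_right hq (pow_nonneg (by omega) _)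
  have p8 : 3600 * q ^ 7 ≤ q ^ 8 := by
    rw [pow_succ' q 7]; exact mul_le_mul_of_nonneg_right hq (pow_nonneg (by omega) _)
  have p9 : 3600 * q ^ 8 ≤ q ^ 9 := by
    rw [pow_succ' q 8]; exact mul_le_mul_of_nonneg_right hq (pow_nonneg (by omega) _)
  have p10 : 3600 * q ^ 9 ≤ q ^ 10 := by
    rw [pow_succ' q 9]; exact mul_le_mul_of_nonneg_right hq (pow_nonneg (by omega) _)
  have p11 : 3600 * q ^ 10 ≤ q ^ 11 := by
    rw [pow_succ' q 10]; exact mul_le_mul_of_nonneg_right hq (pow_nonneg (by omega) _)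
  have hpos : (0 : ℤ) < 7986 - 4752 * q ^ 1 - 11268 * q ^ 2 - 5766 * q ^ 3 - 6306 * q ^ 4 + 1152 * q ^ 5 + 4710 * q ^ 6 + 3630 * q
      ^ 7 + 3348 * q ^ 8 + 3744 * q ^ 9 + 3522 * q ^ 10 := by linarith
  have hle := Int.le_of_dvd hpos hR
  linarith

/-- The small cases. -/
def small : Bool :=
  (List.range 3600).all fun q => decide (q < 2) || [1, 2, 3, 4, 5, 6].all fun k =>
    decide (q = 2 ∧ k = 2) || decide (q = 4 ∧ k = 4) || !(ord q % (bound q - k) == 0)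

theorem small_ok : small = true := by decide +kernel

theorem two_ok : (List.range 24).all (fun i => decide (2480 = bound 2 - (i + 1)) ||
    !(ord 2 % (bound 2 - (i + 1)) == 0)) = true := by decide +kernel

theorem bound_eq (q : ℕ) : q * (q ^ 6 + q ^ 3 + 1) * (q ^ 4 + 1) = bound q := by rw [bound]; ring

theorem not_dvd {q p a : ℕ} (hp : p.Prime) (ha : q = p ^ a) (hq : 2 ≤ q) {k : ℕ} (hk1 : 1 ≤ k) (hk6 : k ≤ 6)
    (hne : ¬ ((q = 2 ∧ k = 2) ∨ (q = 4 ∧ k = 4))) : ¬ bound q - k ∣ ord q := by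
  intro h
  by_cases hs : q < 3600
  · have h1 := small_ok
    simp only [small, List.all_eq_true, Bool.or_eq_true, decide_eq_true_eq, Bool.not_eq_true', beq_eq_false_iff_ne,
      List.mem_range] at h1
    rcases (h1 q hs).resolve_left (by omega) k (by simp; omega) with (h2 | h2) | h2
    · exact hne (Or.inl h2)
    · exact hne (Or.inr h2)
    · exact h2 (Nat.mod_eq_zero_of_dvd h)
  set P := (q ^ 2 - 1) * (q ^ 5 - 1) * (q ^ 6 - 1) * (q ^ 8 - 1) * (q ^ 9 - 1) * (q ^ 12 - 1) with hP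
  have hT : q ∣ bound q :=
    ⟨q ^ 10 + q ^ 7 + q ^ 6 + q ^ 4 + q ^ 3 + 1, by rw [bound]; ring⟩
  have hkT : k ≤ bound q := by
    have : q ≤ bound q := Nat.le_add_left _ _
    omega
  set e := bound q - k with he
  have hg : Nat.gcd e (q ^ 36) ∣ k := by
    have hgp : Nat.gcd e (q ^ 36) ∣ p ^ (a * 36) := by rw [pow_mul, ← ha]; exact Nat.gcd_dvd_right _ _
    obtain ⟨i, -, hi⟩ := (Nat.dvd_prime_pow hp).1 hgp
    have hie : p ^ i ∣ e := hi ▸ Nat.gcd_dvd_left _ _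
    have key : ∀ d, d ∣ e → d ∣ bound q → d ∣ k := fun d h1 h2 => by
      have h3 := Nat.dvd_sub h2 h1
      rwa [show bound q - e = k by omega] at h3
    rw [hi]
    refine key _ hie ?_
    rcases Nat.lt_or_ge i a with hlt | hge
    · exact (pow_dvd_pow p hlt.le).trans (ha ▸ hT)
    · have hqk : q ∣ k := key q ((ha ▸ pow_dvd_pow p hge).trans hie) hT
      have := Nat.le_of_dvd (by omega) hqk
      omega
  have hkP : e ∣ k * P := by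
    have h1 : e ∣ Nat.gcd (e * P) (q ^ 36 * P) := Nat.dvd_gcd (Dvd.intro P rfl) h
    rw [Nat.gcd_mul_right] at h1
    exact h1.trans (Nat.mul_dvd_mul_right hg _)
  have hz := Int.natCast_dvd_natCast.2 hkP
  rw [Nat.cast_mul, hP, cast_ord q (by omega), he, Nat.cast_sub hkT, bound] at hz
  push_cast at hz
  have hqz : (3600 : ℤ) ≤ q := by exact_mod_cast (by omega : 3600 ≤ q)
  interval_cases k
  · exact large1 _ hqz (by simpa using hz)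
  · exact large2 _ hqz (by simpa using hz)
  · exact large3 _ hqz (by simpa using hz)
  · exact large4 _ hqz (by simpa using hz)
  · exact large5 _ hqz (by simpa using hz)
  · exact large6 _ hqz (by simpa using hz)

end Cfsg.Agent.Small.MinusculeDegree.E6
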