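import Cfsg.Agent.Lib.Small.MinusculeDegree.Chain

/-!
The level of a Heisenberg radical: an abelian half containing the centre `o`, moved by the other half.
-/

set_option autoImplicit false
set_option linter.unusedSectionVars false

namespace Cfsg.Agent.Small.MinusculeDegree

open Cfsg.Lie Cfsg.Agent.Lie Finset
open Cfsg.Agent.Small.D4Degree (wp wm card_ne wp_idem)
open scoped MatrixGroups

/-- The moves onto `o` commuting with `s`. -/
def commMoves (D : ChevalleyDatum) (A L : List ℕ) (o : Fin A.length) (s : ℕ) : List (Fin A.length × ℕ) :=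
  (adj D A L o).filter fun p => decide (p.2 ≠ s) && decide (s ≠ D.neg p.2) && decide (D.commTerms p.2 s = [])

/-- The moves onto `o` reach every other position; those not commuting with `s` are seen by `s`. -/
def okCenter (D : ChevalleyDatum) (A L : List ℕ) (o : Fin A.length) (s a b : ℕ) : Bool :=
  okComm D A && L.all (okAct D A) && okFib D A L a o && decide (s ∈ L) && !movedAt D A s o &&
    ((List.finRange A.length).all fun t => decide (t = o) || ((adj D A L o).map Prod.fst).contains t) &&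
    decide ((commMoves D A L o s).length = b) &&
    (adj D A L o).all fun p => (decide (p.2 ≠ s) && decide (s ≠ D.neg p.2) && decide (D.commTerms p.2 s = [])) ||
      (List.finRange A.length).any fun i => (tgt D A s i).any fun p' => decide (p'.1 = p.1)

variable {D : ChevalleyDatum} {hF : Facts D} {F : Type*} [Field F] [Fintype F] {M : Type*} [AddCommGroup M]
  [Module ℂ M] [FiniteDimensional ℂ M] {ρ : ↥(D.group F) →* Module.End ℂ M} {A L L' : List ℕ}
  {E : Module.End ℂ M} {ψ : AddChar F ℂ} {a b s : ℕ} {o : Fin A.length}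

/-- A root element moving a weight has trace zero on it. -/
theorem trace_moved (hf : Frame hF ρ A L E) (hψ : ψ ≠ 1) {α : ℕ} (hα : α ∈ L) {v : F} (hv : v ≠ 0)
    {i k : Fin A.length} {z : ℤ} (hi : tgt D A α i = some (k, z)) {y : Fin A.length → F} (hy : y k ≠ 0) :
    LinearMap.trace ℂ M (op ρ (hF.xg α v) * P hF ρ A ψ E y) = 0 := by
  have hmv : tau (D := D) A α (-v) y ≠ y := by
    intro e
    have h := congrFun e i
    rw [tau_of_some hi, add_eq_left] at h
    exact mul_ne_zero (mul_ne_zero (neg_ne_zero.2 hv) (z_ne (hf.act α hα) hi)) hy h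
  have hP := op_P_tau (ψ := ψ) hf hα v (tau (D := D) A α (-v) y)
  rw [tau_add (hf.act α hα), add_neg_cancel, tau_zero] at hP
  conv_lhs => rw [show P hF ρ A ψ E y = P hF ρ A ψ E y * P hF ρ A ψ E y from (wp_idem (R_mul hf) _).symm,
    ← mul_assoc, hP, LinearMap.trace_mul_comm, ← mul_assoc, P_orth hf hψ (Ne.symm hmv), zero_mul, map_zero]

theorem center_fibre [DecidableEq F] (hf : Frame hF ρ A L E) (hok : okCenter D A L o s a b = true) {c : F}
    (hc : c ≠ 0) {B : Type*} [AddCommMonoid B] (f : (Fin A.length → F) → B) (l : List (Fin A.length × ℕ))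
    (hl : ∀ p ∈ l, p ∈ adj D A L o) (hnd : l.Nodup) (hinv : ∀ p ∈ l, ∀ v y, f (tau (D := D) A p.2 v y) = f y) :
    ∑ y ∈ zs D L o c (fun _ => True) l, f y = (Fintype.card F ^ l.length) • f (Pi.single o c) := by
  classical
  simp only [okCenter, Bool.and_eq_true, List.all_eq_true, Bool.or_eq_true, decide_eq_true_eq,
    List.contains_iff_mem] at hok
  obtain ⟨⟨⟨⟨⟨⟨-, hfib⟩, -⟩, -⟩, hall⟩, -⟩, -⟩ := hok
  rw [sum_zs hf.act hfib hc (fun _ => True) f l hl hnd (fun _ _ _ _ => Iff.rfl) hinv]
  congr 1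
  refine Finset.sum_eq_single _ (fun y hy hne => absurd (funext fun t => ?_) hne) fun h => absurd ?_ h
  · obtain ⟨-, hyo, -, hy0⟩ := Finset.mem_filter.1 hy
    by_cases hto : t = o
    · subst hto; rw [Pi.single_eq_same]; exact hyo
    · obtain ⟨p, hp, rfl⟩ := List.mem_map.1 ((hall t (List.mem_finRange t)).resolve_left hto)
      rw [Pi.single_eq_of_ne hto]
      exact hy0 p hp List.not_mem_nil
  · exact Finset.mem_filter.2 ⟨Finset.mem_univ _, Pi.single_eq_same _ _, trivial,
      fun p hp _ => Pi.single_eq_of_ne ((fib_spec hfib).2.2 p hp).1 _⟩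

theorem center_spec (hok : okCenter D A L o s a b = true) :
    okFib D A L a o = true ∧ s ∈ L ∧ movedAt D A s o = false ∧ (commMoves D A L o s).length = b := by
  simp only [okCenter, Bool.and_eq_true, decide_eq_true_eq, Bool.not_eq_true'] at hok
  obtain ⟨⟨⟨⟨⟨⟨-, h1⟩, h2⟩, h3⟩, -⟩, h4⟩, -⟩ := hok
  exact ⟨h1, h2, h3, h4⟩

/-- The weights with a given coordinate at the centre. -/
theorem center_mult [DecidableEq F] (hf : Frame hF ρ A L E) (hok : okCenter D A L o s a b = true) (hψ : ψ ≠ 1)
    {N : ℂ} (hdef : ∀ v : F, v ≠ 0 → LinearMap.trace ℂ M (op ρ (hF.xg A[o.val] v) * E) =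
      LinearMap.trace ℂ M E - (Fintype.card F : ℂ) * N) {c : F} (hc : c ≠ 0) :
    N = ((Fintype.card F ^ a * mu hF ρ A ψ E (Pi.single o c) : ℕ) : ℂ) := by
  classical
  have hfib := (center_spec hok).1
  rw [← sum_fibre hf hψ hdef hc]
  congr 1
  have h := center_fibre hf hok hc (mu hF ρ A ψ E) (adj D A L o) (fun p hp => hp) (adj_nodup hfib)
    (fun p hp v y => mu_tau hf (adj_spec hp).1 v y)
  rw [(fib_spec hfib).1, smul_eq_mul] at h
  rw [← h]
  refine Finset.sum_congr ?_ fun _ _ => rfl
  ext y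
  simp only [zs, Finset.mem_filter, Finset.mem_univ, true_and]
  exact ⟨fun h => ⟨h, fun p hp hn => absurd hp hn⟩, fun h => h.1⟩

/-- The fixed space of the centre is the sum of the weights vanishing there. -/
theorem center_fixed [DecidableEq F] (hf : Frame hF ρ A L E) (hψ : ψ ≠ 1)
    (hf' : Frame hF ρ [A[o.val]] L' E) :
    P hF ρ [A[o.val]] ψ E 0 = ∑ y ∈ univ.filter (fun y : Fin A.length → F => y o = 0), P hF ρ A ψ E y := by
  classical
  have hq := card_ne F
  have hone : ∀ x : Fin [A[o.val]].length → F, R hF ρ [A[o.val]] E x = R hF ρ A E (Pi.single o (x ⟨0, by simp⟩)) :=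
    fun x => by rw [R, R, eta_single, eta]; congr 2; simp [List.finRange_succ]
  have hmul : ∀ y, P hF ρ [A[o.val]] ψ E 0 * P hF ρ A ψ E y = if y o = 0 then P hF ρ A ψ E y else 0 := by
    intro y
    rw [show P hF ρ [A[o.val]] ψ E 0 = wp (R hF ρ [A[o.val]] E) (chi ψ 0) from rfl, wp]
    simp only [smul_mul_assoc, Finset.sum_mul, hone, opE_mul_P hf, dot_single, smul_smul]
    rw [← Finset.sum_smul]
    have hchi : ∀ x : Fin [A[o.val]].length → F, chi ψ 0 (-x) = 1 := fun x => by
      rw [chi_apply, dot, Finset.sum_eq_zero fun i _ => by rw [Pi.zero_apply, zero_mul], AddChar.map_zero_eq_one]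
    simp only [hchi, one_mul]
    rw [show ∑ x : Fin [A[o.val]].length → F, ψ (y o * x ⟨0, by simp⟩) = ∑ t : F, ψ (y o * t) from
      Fintype.sum_equiv (Equiv.funUnique (Fin 1) F) _ _ fun x => rfl]
    rw [Finset.sum_congr rfl fun t _ => show ψ (y o * t) = ψ (t * y o) by rw [mul_comm],
      AddChar.sum_mulShift _ (AddChar.IsPrimitive.of_ne_one hψ)]
    by_cases h0 : y o = 0
    · simp only [if_pos h0, smul_smul, Fintype.card_fun, Fintype.card_fin, List.length_singleton, pow_one,
        inv_mul_cancel₀ hq, one_smul]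
    · simp only [if_neg h0, Nat.cast_zero, zero_smul, smul_zero]
  calc P hF ρ [A[o.val]] ψ E 0 = P hF ρ [A[o.val]] ψ E 0 * E := by
        rw [← (show Commute E (P hF ρ [A[o.val]] ψ E 0) from ?_).eq, E_mul_P hf']
        show _ = _
        simp only [P, wp, mul_smul_comm, smul_mul_assoc, Finset.mul_sum, Finset.sum_mul, R, ← mul_assoc,
          ← (commute_eta hf' _).eq]
    _ = _ := by
        conv_lhs => arg 2; rw [← sum_P (ψ := ψ) hf hψ]
        rw [Finset.mul_sum, Finset.sum_filter]
        exact Finset.sum_congr rfl fun y _ => hmul y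

theorem center_trace [DecidableEq F] (hf : Frame hF ρ A L E) (hψ : ψ ≠ 1) (hf' : Frame hF ρ [A[o.val]] L' E)
    (g : Module.End ℂ M) :
    LinearMap.trace ℂ M (g * E) = LinearMap.trace ℂ M (g * P hF ρ [A[o.val]] ψ E 0) +
      ∑ c ∈ univ.erase (0 : F), ∑ y ∈ univ.filter (fun y : Fin A.length → F => y o = c),
        LinearMap.trace ℂ M (g * P hF ρ A ψ E y) := by
  classical
  rw [center_fixed hf hψ hf']
  conv_lhs => rw [← sum_P (ψ := ψ) hf hψ, Finset.mul_sum, map_sum, ← Finset.sum_fiberwise univ (fun y => y o),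
    ← Finset.add_sum_erase _ _ (Finset.mem_univ (0 : F))]
  rw [Finset.mul_sum, map_sum]

/-- The dimension of the fixed space of the centre. -/
theorem center_dim [DecidableEq F] (hf : Frame hF ρ A L E) (hψ : ψ ≠ 1) (hf' : Frame hF ρ [A[o.val]] L' E)
    (hok : okCenter D A L o s a b = true) {m : ℕ} (hm : ∀ c : F, c ≠ 0 → mu hF ρ A ψ E (Pi.single o c) = m) :
    LinearMap.trace ℂ M E = LinearMap.trace ℂ M (P hF ρ [A[o.val]] ψ E 0) +
      (((Fintype.card F - 1) * (Fintype.card F ^ a * m) : ℕ) : ℂ) := by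
  classical
  have h := center_trace (o := o) hf hψ hf' 1
  simp only [one_mul, trace_P hf] at h
  rw [h]
  congr 1
  have hfib := (center_spec hok).1
  have hsum : ∀ c ∈ univ.erase (0 : F), ∑ y ∈ univ.filter (fun y : Fin A.length → F => y o = c),
      (mu hF ρ A ψ E y : ℂ) = ((Fintype.card F ^ a * m : ℕ) : ℂ) := fun c hc => by
    have hc0 := Finset.ne_of_mem_erase hc
    have h := center_fibre hf hok hc0 (mu hF ρ A ψ E) (adj D A L o) (fun p hp => hp) (adj_nodup hfib)
      (fun p hp v y => mu_tau hf (adj_spec hp).1 v y)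
    rw [(fib_spec hfib).1, smul_eq_mul, hm c hc0] at h
    rw [← Nat.cast_sum, ← h]
    congr 1
    refine Finset.sum_congr ?_ fun _ _ => rfl
    ext y
    simp only [zs, Finset.mem_filter, Finset.mem_univ, true_and]
    exact ⟨fun h => ⟨h, fun p hp hn => absurd hp hn⟩, fun h => h.1⟩
  rw [Finset.sum_congr rfl hsum, Finset.sum_const, Finset.card_erase_of_mem (Finset.mem_univ _), Finset.card_univ,
    nsmul_eq_mul]
  push_cast
  rfl

/-- A root moving the centre has trace zero off its fixed space. -/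
theorem center_trace_mover [DecidableEq F] (hf : Frame hF ρ A L E) (hψ : ψ ≠ 1)
    (hf' : Frame hF ρ [A[o.val]] L' E) {p : Fin A.length × ℕ} (hp : p ∈ adj D A L o) {v : F} (hv : v ≠ 0) :
    LinearMap.trace ℂ M (op ρ (hF.xg p.2 v) * E) =
      LinearMap.trace ℂ M (op ρ (hF.xg p.2 v) * P hF ρ [A[o.val]] ψ E 0) := by
  classical
  obtain ⟨hL, z, hz⟩ := adj_spec hp
  rw [center_trace hf hψ hf', add_eq_left]
  exact Finset.sum_eq_zero fun c hc => Finset.sum_eq_zero fun y hy =>
    trace_moved hf hψ hL hv hz (by rw [(Finset.mem_filter.1 hy).2]; exact Finset.ne_of_mem_erase hc)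

/-- The trace of `s` off the fixed space of the centre. -/
theorem center_trace_s [DecidableEq F] (hf : Frame hF ρ A L E) (hψ : ψ ≠ 1)
    (hf' : Frame hF ρ [A[o.val]] L' E) (hok : okCenter D A L o s a b = true) (hsc : okScalar D A L s o = true)
    (h1 : ∀ c : F, c ≠ 0 → mu hF ρ A ψ E (Pi.single o c) = 1) {v : F} (hv : v ≠ 0) :
    LinearMap.trace ℂ M (op ρ (hF.xg s v) * E) =
      LinearMap.trace ℂ M (op ρ (hF.xg s v) * P hF ρ [A[o.val]] ψ E 0) +
        (((Fintype.card F - 1) * Fintype.card F ^ b : ℕ) : ℂ) := by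
  classical
  obtain ⟨hfib, hsL, -, hlen⟩ := center_spec hok
  rw [center_trace hf hψ hf']
  congr 1
  have hsum : ∀ c ∈ univ.erase (0 : F), ∑ y ∈ univ.filter (fun y : Fin A.length → F => y o = c),
      LinearMap.trace ℂ M (op ρ (hF.xg s v) * P hF ρ A ψ E y) = ((Fintype.card F ^ b : ℕ) : ℂ) := by
    intro c hc
    have hc0 := Finset.ne_of_mem_erase hc
    have hsub : zs D L o c (fun _ => True) (commMoves D A L o s) ⊆ univ.filter fun y : Fin A.length → F => y o = c :=
      fun y hy => Finset.mem_filter.2 ⟨Finset.mem_univ _, (Finset.mem_filter.1 hy).2.1⟩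
    rw [← Finset.sum_subset hsub fun y hy hn => ?_, center_fibre hf hok hc0 _ (commMoves D A L o s)
      (fun p hp => (List.mem_filter.1 hp).1) ((adj_nodup hfib).filter _) ?_, hlen, scalar_comm hf hsc (h1 c hc0) v,
      trace_P hf, h1 c hc0, Nat.cast_one, nsmul_one]
    · intro p hp w y
      obtain ⟨hpm, hps⟩ := List.mem_filter.1 hp
      obtain ⟨hpL, -⟩ := adj_spec hpm
      simp only [Bool.and_eq_true, decide_eq_true_eq] at hps
      obtain ⟨⟨hne, hneg⟩, hterm⟩ := hps
      have key := (hF.tsys F).x_comm p.2 s (okAct_spec (hf.act _ hpL)).1 (okAct_spec (hf.act _ hsL)).1 hne.symm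
        hneg w v
      simp only [hF.tsys_x, ChevalleyDatum.commWord, hterm, List.map_nil, List.prod_nil, mul_one] at key
      have hg := hF.xg_mem_group (F := F) p.2 w
      have hc1 : Commute (op ρ (hF.xg s v)) (op ρ (hF.xg p.2 w)) := by
        show _ = _
        rw [← op_mul ρ (hF.xg_mem_group _ _) hg, ← op_mul ρ hg (hF.xg_mem_group _ _), key]
      have hPc := op_P_tau (ψ := ψ) hf hpL w y
      calc LinearMap.trace ℂ M (op ρ (hF.xg s v) * P hF ρ A ψ E (tau (D := D) A p.2 w y))
          = LinearMap.trace ℂ M (op ρ (hF.xg s v) * (op ρ (hF.xg p.2 w)⁻¹ * (op ρ (hF.xg p.2 w) *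
              P hF ρ A ψ E (tau (D := D) A p.2 w y)))) := by
            rw [← mul_assoc (op ρ (hF.xg p.2 w)⁻¹), op_inv_mul ρ hg, one_mul]
        _ = LinearMap.trace ℂ M (op ρ (hF.xg s v) * P hF ρ A ψ E y) := by
            rw [hPc, ← mul_assoc, ← mul_assoc, LinearMap.trace_mul_comm, ← mul_assoc, ← mul_assoc,
              ← hc1.eq, mul_assoc (op ρ (hF.xg s v)), op_mul_inv ρ hg, mul_one]
    · have hyo := (Finset.mem_filter.1 hy).2
      have hex : ∃ p ∈ adj D A L o, p ∉ commMoves D A L o s ∧ y p.1 ≠ 0 := by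
        by_contra hno
        push Not at hno
        exact hn (Finset.mem_filter.2 ⟨Finset.mem_univ _, hyo, trivial, hno⟩)
      obtain ⟨p, hp, hpn, hpy⟩ := hex
      simp only [okCenter, Bool.and_eq_true, List.all_eq_true, Bool.or_eq_true, List.any_eq_true,
        Option.any_eq_true] at hok
      obtain ⟨i, -, ⟨k, z⟩, hi, hk⟩ := (hok.2 p hp).resolve_left fun h =>
        hpn (List.mem_filter.2 ⟨hp, by simpa only [Bool.and_eq_true] using h⟩)
      refine trace_moved hf hψ hsL hv hi ?_
      rw [decide_eq_true_eq] at hk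
      rw [show k = p.1 from hk]
      exact hpy
  rw [Finset.sum_congr rfl hsum, Finset.sum_const, Finset.card_erase_of_mem (Finset.mem_univ _), Finset.card_univ,
    nsmul_eq_mul]
  push_cast
  rfl

end Cfsg.Agent.Small.MinusculeDegree
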