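import Cfsg.Agent.Lib.Small.MinusculeDegree.Chain

/-!
The checks of a level against packed tables of the moves, for speed in the kernel.
-/

set_option autoImplicit false
set_option linter.unusedSectionVars false

namespace Cfsg.Agent.Small.MinusculeDegree

open Cfsg.Lie Cfsg.Agent.Lie

/-- A move read off a packed table: the digit `2(k+1)` or `2(k+1)+1` at `α` means `k` with sign `1` or `-1`. -/
def unpack (tab : List ℕ) {n : ℕ} (α : ℕ) (i : Fin n) : Option (Fin n × ℤ) :=
  let d := tab.getD i.val 0 / 2 ^ (8 * α) % 256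
  if d = 0 then none
  else if h : d / 2 - 1 < n then some (⟨d / 2 - 1, h⟩, if d % 2 = 0 then 1 else -1) else none

/-- Packed data of a level: moves, their sources, the lists of moves onto each position, and commutators. -/
structure LevelData where
  T : List ℕ
  S : List ℕ
  A : List (List (ℕ × ℕ))
  W : List (ℕ × ℕ)

/-- Functions computing the commutators and opposites of a datum. -/
def PackSpec (D : ChevalleyDatum) (cm : ℕ → ℕ → List (ℕ × ℤ × ℕ × ℕ)) (ng : ℕ → ℕ) : Prop :=
  (∀ r < D.nroots, ∀ s < D.nroots, D.commTerms r s = cm r s) ∧ ∀ s < D.nroots, D.neg s = ng s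

variable (X : LevelData) (D : ChevalleyDatum) (cm : ℕ → ℕ → List (ℕ × ℤ × ℕ × ℕ)) (ng : ℕ → ℕ) (U L : List ℕ)

/-- The datum agrees with the table, and the roots act. -/
def okTab : Bool :=
  decide U.Nodup && L.all fun α => decide (α < D.nroots) && (List.finRange U.length).all fun i =>
    decide (U[i.val] < D.nroots) && decide (U[i.val] ≠ α) && decide (U[i.val] ≠ ng α) &&
      match unpack (n := U.length) X.T α i with
      | none => decide (cm α U[i.val] = [])
      | some (k, z) => decide (cm α U[i.val] = [(U[k.val], z, 1, 1)]) &&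
          decide (z = 1 ∨ z = -1) && (unpack (n := U.length) X.T α k).isNone

/-- The moves onto a position, from the table. -/
def adjT (r : Fin U.length) : List (Fin U.length × ℕ) :=
  (List.finRange U.length).flatMap fun i =>
    (L.filter fun α => (unpack (n := U.length) X.T α i).any fun p => decide (p.1 = r)).map fun α => (i, α)

/-- The moves onto a position, as listed. -/
def adjA (r : Fin U.length) : List (Fin U.length × ℕ) :=
  (X.A.getD r.val []).filterMap fun p => if h : p.1 < U.length then some (⟨p.1, h⟩, p.2) else none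

/-- `okFib` from the tables. -/
def okFibT (a : ℕ) (r : Fin U.length) : Bool :=
  decide ((adjA X U r).length = a) && decide ((adjA X U r).map Prod.fst).Nodup &&
    (adjA X U r).all fun p => decide (p.1 ≠ r) && (unpack (n := U.length) X.T p.2 r).isNone &&
      (adjA X U r).all fun p' => decide (p'.1 = p.1) || (unpack (n := U.length) X.T p.2 p'.1).isNone

/-- `okKill1` from the tables. -/
def okKill1T (r t : Fin U.length) : Bool :=
  L.any fun β => (unpack (n := U.length) X.T β r).isNone &&
    ((unpack (n := U.length) X.S β t).any fun s => (unpack (n := U.length) X.T β s.1).any fun p => decide (p.1 = t)) &&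
    (adjA X U r).all fun p =>
      (unpack (n := U.length) X.T β p.1).all fun p' => ((adjA X U r).map Prod.fst).contains p'.1

/-- `okKill` from the tables. -/
def okKillT (r : Fin U.length) : Bool :=
  (List.finRange U.length).all fun t => decide (t = r) || ((adjA X U r).map Prod.fst).contains t ||
    okKill1T X U L r t || L.any fun β =>
      ((unpack (n := U.length) X.S β t).any fun s => (unpack (n := U.length) X.T β s.1).any fun p => decide (p.1 = t)) &&
      (r :: (adjA X U r).map Prod.fst).all fun i => (unpack (n := U.length) X.T β i).all fun p' =>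
        ((adjA X U r).map Prod.fst).contains p'.1 || (decide (p'.1 ≠ r) && okKill1T X U L r p'.1)

/-- `okCell` from the tables. -/
def okCellT (r : Fin U.length) : Bool :=
  (adjA X U r).all fun p => decide (p.1 < r) || (List.finRange U.length).all fun i =>
    decide (¬ i < r) || (unpack (n := U.length) X.T p.2 i).all fun p' => decide (p'.1 < r)

/-- `okBody` from the tables. -/
def okBodyT (a : ℕ) : Bool :=
  okTab X D cm ng U L && (List.finRange U.length).all fun r =>
    decide (adjT X U L r = adjA X U r) && okFibT X U a r && okKillT X U L r && okCellT X U r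

/-- `movedAt` from the tables. -/
def movedT (s : ℕ) (r : Fin U.length) : Bool :=
  (List.finRange U.length).any fun i => (unpack (n := U.length) X.T s i).any fun p => decide (p.1 = r)

/-- `okTrace` from the tables. -/
def okTraceT (s : ℕ) : Bool :=
  decide (s ∈ L) && decide (s < D.nroots) && (List.finRange U.length).all fun r => movedT X U s r ||
    (adjA X U r).all fun p => decide (p.1 < r) ||
      (decide (p.2 < D.nroots) && decide (s ≠ p.2) && decide (s ≠ ng p.2) && decide (cm p.2 s = []))

/-- `okScal` without torus elements, from the tables. -/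
def okScalT (s : ℕ) : Bool :=
  (List.finRange U.length).all fun r => movedT X U s r ||
    let w := X.W.getD r.val (0, 0)
    decide (w.1 < D.nroots) && decide (w.2 < D.nroots) &&
    decide (w.1 ∈ L) && decide (w.2 ∈ L) && decide (w.2 ≠ w.1) && decide (w.2 ≠ ng w.1) &&
      !movedT X U w.1 r && !movedT X U w.2 r &&
      (decide (cm w.1 w.2 = [(s, 1, 1, 1)]) || decide (cm w.1 w.2 = [(s, -1, 1, 1)]))

/-- The later moves of the positions, and those not moved by `s`, from the tables. -/
def shapeT (s : ℕ) : List (ℕ × Bool) :=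
  (List.finRange U.length).map fun r => (((adjA X U r).filter fun p => !decide (p.1 < r)).length, !movedT X U s r)

variable {X D cm ng U L} {a s : ℕ}

theorem tab_spec (hpk : PackSpec D cm ng) (h : okTab X D cm ng U L = true) {α : ℕ} (hα : α ∈ L) (i : Fin U.length) :
    tgt D U α i = unpack X.T α i := by
  simp only [okTab, Bool.and_eq_true, List.all_eq_true, decide_eq_true_eq] at h
  obtain ⟨⟨⟨hi, -⟩, -⟩, hm⟩ := (h.2 α hα).2 i (List.mem_finRange i)
  have hc := hpk.1 α (h.2 α hα).1 _ hi
  rcases ht : unpack (n := U.length) X.T α i with _ | ⟨k, z⟩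
  · rw [ht] at hm
    rw [decide_eq_true_eq] at hm
    rw [tgt, hc, hm]
  · rw [ht] at hm
    simp only [Bool.and_eq_true, decide_eq_true_eq] at hm
    rw [tgt, hc, hm.1.1]
    have hidx : U.idxOf U[k.val] = k.val := h.1.idxOf_getElem k.val k.isLt
    simp only [hidx, k.isLt, dif_pos]

theorem tab_act (hpk : PackSpec D cm ng) (h : okTab X D cm ng U L = true) {α : ℕ} (hα : α ∈ L) : okAct D U α = true := by
  have ht := tab_spec hpk h hα
  simp only [okTab, Bool.and_eq_true, List.all_eq_true, decide_eq_true_eq] at h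
  simp only [okAct, Bool.and_eq_true, List.all_eq_true, decide_eq_true_eq]
  refine ⟨(h.2 α hα).1, fun i hi => ?_⟩
  obtain ⟨⟨⟨hlt, h1⟩, h2⟩, hm⟩ := (h.2 α hα).2 i hi
  refine ⟨⟨⟨hlt, h1⟩, by rw [hpk.2 α (h.2 α hα).1]; exact h2⟩, ?_⟩
  rw [hpk.1 α (h.2 α hα).1 _ hlt]
  rw [ht i]
  rcases hu : unpack (n := U.length) X.T α i with _ | ⟨k, z⟩
  · rw [hu] at hm; exact hm
  · rw [hu] at hm
    simp only [ht k]
    exact hm

theorem bodyT_spec (hpk : PackSpec D cm ng) (h : okBodyT X D cm ng U L a = true) :
    (∀ α ∈ L, okAct D U α = true) ∧ okTab X D cm ng U L = true ∧ ∀ r, adj D U L r = adjA X U r ∧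
      okFibT X U a r = true ∧ okKillT X U L r = true ∧ okCellT X U r = true := by
  simp only [okBodyT, Bool.and_eq_true, List.all_eq_true, decide_eq_true_eq] at h
  refine ⟨fun α hα => tab_act hpk h.1 hα, h.1, fun r => ?_⟩
  obtain ⟨⟨⟨h1, h2⟩, h3⟩, h4⟩ := h.2 r (List.mem_finRange r)
  refine ⟨?_, h2, h3, h4⟩
  rw [← h1]
  refine List.flatMap_congr fun i _ => ?_
  congr 1
  exact List.filter_congr fun α hα => by rw [tab_spec hpk h.1 hα i]

theorem body_of_T (hpk : PackSpec D cm ng) (h : okBodyT X D cm ng U L a = true) : okBody D U L a = true := by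
  obtain ⟨hact, htab, hr⟩ := bodyT_spec hpk h
  simp only [okBody, Bool.and_eq_true, List.all_eq_true]
  refine ⟨hact, fun r _ => ?_⟩
  obtain ⟨hadj, hfib, hkill, hcell⟩ := hr r
  have hL : ∀ p ∈ adjA X U r, p.2 ∈ L := fun p hp => (adj_spec (hadj ▸ hp)).1
  refine ⟨⟨?_, ?_⟩, ?_⟩
  · simp only [okFib, hadj]
    simp only [okFibT, Bool.and_eq_true, List.all_eq_true, decide_eq_true_eq, Bool.or_eq_true] at hfib ⊢
    refine ⟨hfib.1, fun p hp => ⟨⟨(hfib.2 p hp).1.1, by rw [tab_spec hpk htab (hL p hp)]; exact (hfib.2 p hp).1.2⟩,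
      fun p' hp' => ?_⟩⟩
    rw [tab_spec hpk htab (hL p hp)]
    exact (hfib.2 p hp).2 p' hp'
  · have hS : ∀ β ∈ L, ∀ t : Fin U.length,
        ((unpack (n := U.length) X.S β t).any fun s => (unpack (n := U.length) X.T β s.1).any fun p =>
          decide (p.1 = t)) = true →
        ((List.finRange U.length).any fun i => (tgt D U β i).any fun p => decide (p.1 = t)) = true := by
      intro β hβ t h2
      simp only [Option.any_eq_true, decide_eq_true_eq] at h2
      obtain ⟨i, -, p, hp, hpt⟩ := h2
      simp only [List.any_eq_true, Option.any_eq_true, decide_eq_true_eq]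
      exact ⟨i.1, List.mem_finRange _, p, by rw [tab_spec hpk htab hβ, hp], hpt⟩
    have h1 : ∀ t, okKill1T X U L r t = true → okKill1 D U L r t = true := by
      intro t ht
      simp only [okKill1T, List.any_eq_true, Bool.and_eq_true] at ht
      obtain ⟨β, hβ, ⟨h1, h2⟩, h3⟩ := ht
      simp only [okKill1, hadj]
      refine List.any_eq_true.2 ⟨β, hβ, ?_⟩
      simp only [tab_spec hpk htab hβ] at *
      simp only [Bool.and_eq_true]
      exact ⟨⟨h1, by simpa only [tab_spec hpk htab hβ] using hS β hβ t h2⟩, h3⟩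
    simp only [okKill, hadj]
    simp only [okKillT, List.all_eq_true, Bool.or_eq_true, decide_eq_true_eq] at hkill ⊢
    intro t ht
    rcases hkill t ht with (h | h) | h
    · exact Or.inl (Or.inl h)
    · exact Or.inl (Or.inr (h1 t h))
    · simp only [List.any_eq_true, Bool.and_eq_true, List.all_eq_true, Option.all_eq_true, Bool.or_eq_true,
        decide_eq_true_eq] at h
      obtain ⟨β, hβ, h2, h3⟩ := h
      refine Or.inr (List.any_eq_true.2 ⟨β, hβ, Bool.and_eq_true_iff.2 ⟨hS β hβ t h2, ?_⟩⟩)
      simp only [List.all_eq_true, Option.all_eq_true, tab_spec hpk htab hβ, Bool.or_eq_true, Bool.and_eq_true,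
        decide_eq_true_eq]
      exact fun x hx p hp => (h3 x hx p hp).imp id fun hh => ⟨hh.1, h1 _ hh.2⟩
  · simp only [okCell, hadj]
    simp only [okCellT, List.all_eq_true, Bool.or_eq_true] at hcell ⊢
    refine fun p hp => (hcell p hp).imp id fun hh i hi => ?_
    rw [tab_spec hpk htab (hL p hp)]
    exact hh i hi

theorem moved_of_T (hpk : PackSpec D cm ng) (h : okBodyT X D cm ng U L a = true) (hs : s ∈ L) (r : Fin U.length) :
    movedAt D U s r = movedT X U s r := by
  simp only [movedAt, movedT, tab_spec hpk (bodyT_spec hpk h).2.1 hs]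

theorem trace_of_T (hpk : PackSpec D cm ng) (h : okBodyT X D cm ng U L a = true) (hs : okTraceT X D cm ng U L s = true) : okTrace D U L s = true := by
  simp only [okTraceT, Bool.and_eq_true, decide_eq_true_eq] at hs
  simp only [List.all_eq_true, Bool.or_eq_true, Bool.and_eq_true, decide_eq_true_eq] at hs
  simp only [okTrace, okTop, Bool.and_eq_true, decide_eq_true_eq, moved_of_T hpk h hs.1.1, List.all_eq_true,
    Bool.or_eq_true, (bodyT_spec hpk h).2.2 _]
  refine ⟨hs.1.1, fun r hr => (hs.2 r hr).imp id fun hh p hpm => (hh p hpm).imp id ?_⟩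
  rintro ⟨⟨⟨h1, h2⟩, h3⟩, h4⟩
  rw [hpk.1 _ h1 _ hs.1.2, hpk.2 _ h1]
  exact ⟨⟨h2, h3⟩, h4⟩

theorem scal_of_T (hpk : PackSpec D cm ng) (h : okBodyT X D cm ng U L a = true) (hs : s ∈ L) (hw : okScalT X D cm ng U L s = true) :
    okScal D U L s false [] = true := by
  simp only [okScalT, List.all_eq_true, Bool.or_eq_true, Bool.and_eq_true, decide_eq_true_eq] at hw
  simp only [okScal, List.all_eq_true, Bool.or_eq_true]
  intro r hr
  rcases hw r hr with hm | ⟨⟨⟨⟨⟨⟨⟨⟨l1, l2⟩, h1⟩, h2⟩, h3⟩, h4⟩, h5⟩, h6⟩, h7⟩
  · exact Or.inl (Or.inl (by rw [moved_of_T hpk h hs]; exact hm))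
  · refine Or.inl (Or.inr ?_)
    simp only [okScalar, List.any_eq_true, Bool.and_eq_true, decide_eq_true_eq, Bool.or_eq_true]
    refine ⟨_, h1, _, h2, ?_⟩
    rw [hpk.1 _ l1 _ l2, hpk.2 _ l1]
    exact ⟨⟨⟨⟨h3, h4⟩, by rw [moved_of_T hpk h h1]; exact h5⟩, by rw [moved_of_T hpk h h2]; exact h6⟩, h7⟩

/-- The later moves of the positions, and those not moved by `s`. -/
def levelShape (D : ChevalleyDatum) (U L : List ℕ) (s : ℕ) : List (ℕ × Bool) :=
  (List.finRange U.length).map fun r => (later D U L r, !movedAt D U s r)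

theorem shape_of_T (hpk : PackSpec D cm ng) (h : okBodyT X D cm ng U L a = true) (hs : s ∈ L) : levelShape D U L s = shapeT X U s := by
  simp only [levelShape, shapeT, later, (bodyT_spec hpk h).2.2 _, moved_of_T hpk h hs]

theorem cellSum_shape (q : ℕ) :
    cellSum D U L q (fun _ => true) = ((levelShape D U L s).map fun p => (q - 1) * q ^ p.1).sum ∧
    cellSum D U L q (fun r => !movedAt D U s r) =
      (((levelShape D U L s).filter fun p => p.2).map fun p => (q - 1) * q ^ p.1).sum := by
  constructor <;> simp [cellSum, levelShape, Function.comp_def, List.filter_map]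

end Cfsg.Agent.Small.MinusculeDegree
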