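import Cfsg.Agent.Lib.Small.MinusculeDegree.Center
import Cfsg.Agent.Lib.Small.MinusculeDegree.Fast

/-!
The checks of the Heisenberg level against packed tables.
-/

set_option autoImplicit false
set_option linter.unusedSectionVars false

namespace Cfsg.Agent.Small.MinusculeDegree

open Cfsg.Lie Cfsg.Agent.Lie

variable (X : LevelData) (D : ChevalleyDatum) (cm : ℕ → ℕ → List (ℕ × ℤ × ℕ × ℕ)) (ng : ℕ → ℕ) (A L : List ℕ)

/-- `okComm` from the packed commutators. -/
def okCommT : Bool :=
  A.all fun r => decide (r < D.nroots) && A.all fun s =>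
    decide (r = s) || (decide (s < D.nroots) && decide (s ≠ ng r) && decide (cm r s = []))

/-- `okCenter` from the tables. -/
def okCenterT (o : Fin A.length) (s a b : ℕ) : Bool :=
  okCommT D cm ng A && okTab X D cm ng A L && decide (adjT X A L o = adjA X A o) && okFibT X A a o &&
    decide (s ∈ L) && decide (s < D.nroots) && !movedT X A s o &&
    ((List.finRange A.length).all fun t => decide (t = o) || ((adjA X A o).map Prod.fst).contains t) &&
    decide (((adjA X A o).filter fun p =>
      decide (p.2 ≠ s) && decide (s ≠ ng p.2) && decide (cm p.2 s = [])).length = b) &&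
    (adjA X A o).all fun p => decide (p.2 < D.nroots) &&
      ((decide (p.2 ≠ s) && decide (s ≠ ng p.2) && decide (cm p.2 s = [])) ||
      (List.finRange A.length).any fun i => (unpack (n := A.length) X.T s i).any fun p' => decide (p'.1 = p.1))

variable {X D cm ng A L} {o : Fin A.length} {s a b : ℕ}

theorem comm_of_T (hpk : PackSpec D cm ng) (h : okCommT D cm ng A = true) : okComm D A = true := by
  simp only [okCommT, List.all_eq_true, Bool.and_eq_true, decide_eq_true_eq, Bool.or_eq_true] at h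
  simp only [okComm, List.all_eq_true, Bool.and_eq_true, decide_eq_true_eq, Bool.or_eq_true, beq_iff_eq, bne_iff_ne,
    List.isEmpty_iff]
  refine fun r hr => ⟨(h r hr).1, fun t ht => ((h r hr).2 t ht).imp id ?_⟩
  rintro ⟨⟨h1, h2⟩, h3⟩
  rw [hpk.1 _ (h r hr).1 _ h1, hpk.2 _ (h r hr).1]
  exact ⟨h2, h3⟩

theorem adj_of_T (hpk : PackSpec D cm ng) (h : okTab X D cm ng A L = true)
    (he : adjT X A L o = adjA X A o) : adj D A L o = adjA X A o := by
  rw [← he]
  refine List.flatMap_congr fun i _ => ?_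
  congr 1
  exact List.filter_congr fun α hα => by rw [tab_spec hpk h hα i]

theorem center_of_T (hpk : PackSpec D cm ng) (h : okCenterT X D cm ng A L o s a b = true) :
    okCenter D A L o s a b = true ∧ adj D A L o = adjA X A o := by
  simp only [okCenterT, Bool.and_eq_true, decide_eq_true_eq, Bool.not_eq_true'] at h
  obtain ⟨⟨⟨⟨⟨⟨⟨⟨⟨hcomm, htab⟩, he⟩, hfib⟩, hsL⟩, hs⟩, hmv⟩, hall⟩, hlen⟩, hsee⟩ := h
  have hadj := adj_of_T hpk htab he
  refine ⟨?_, hadj⟩
  have hmoved : movedAt D A s o = false := by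
    rw [← hmv]
    simp only [movedAt, movedT, tab_spec hpk htab hsL]
  have hpn : ∀ p ∈ adjA X A o, p.2 < D.nroots := fun p hp => by
    simp only [List.all_eq_true, Bool.and_eq_true, decide_eq_true_eq] at hsee
    exact (hsee p hp).1
  have hcond : ∀ p ∈ adjA X A o, (decide (p.2 ≠ s) && decide (s ≠ D.neg p.2) && decide (D.commTerms p.2 s = [])) =
      (decide (p.2 ≠ s) && decide (s ≠ ng p.2) && decide (cm p.2 s = [])) := fun p hp => by
    rw [hpk.1 _ (hpn p hp) _ hs, hpk.2 _ (hpn p hp)]
  simp only [okCenter, Bool.and_eq_true, decide_eq_true_eq, Bool.not_eq_true']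
  refine ⟨⟨⟨⟨⟨⟨⟨comm_of_T hpk hcomm, List.all_eq_true.2 fun α hα => tab_act hpk htab hα⟩, ?_⟩, hsL⟩, hmoved⟩,
    by rw [hadj]; exact hall⟩, by rw [commMoves, hadj, List.filter_congr hcond]; exact hlen⟩, ?_⟩
  · simp only [okFib, hadj]
    simp only [okFibT, Bool.and_eq_true, List.all_eq_true, decide_eq_true_eq, Bool.or_eq_true] at hfib ⊢
    refine ⟨hfib.1, fun p hp => ?_⟩
    have hL : p.2 ∈ L := (adj_spec (hadj.symm ▸ hp)).1
    rw [tab_spec hpk htab hL]
    exact ⟨(hfib.2 p hp).1, fun p' hp' => by rw [tab_spec hpk htab hL]; exact (hfib.2 p hp).2 p' hp'⟩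
  · rw [hadj]
    simp only [List.all_eq_true] at hsee ⊢
    intro p hp
    have h' := hsee p hp
    rw [Bool.and_eq_true] at h'
    rw [hcond p hp]
    simpa only [tab_spec hpk htab hsL] using h'.2

end Cfsg.Agent.Small.MinusculeDegree
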