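import Cfsg.Agent.Lib.Small.MinusculeDegree.Step

/-!
Descending through a chain of abelian radicals.
-/

set_option autoImplicit false
set_option linter.unusedSectionVars false

namespace Cfsg.Agent.Small.MinusculeDegree

open Cfsg.Lie Cfsg.Agent.Lie Finset
open Cfsg.Agent.Small.D4Degree (wp wm card_ne wp_idem)
open scoped MatrixGroups

/-- Climbing to a dominant root by simple reflections. -/
def climb (D : ChevalleyDatum) (nodes : List ℕ) : ℕ → ℕ → ℕ
  | 0, r => r
  | n + 1, r => match nodes.find? fun i => decide (D.cartan i r < 0) with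
    | some i => climb D nodes n (D.reflectRoot i r)
    | none => r

/-- The roots `R` climb to `s` by nodes whose root elements lie in `R`. -/
def okClimb (D : ChevalleyDatum) (nodes R : List ℕ) (s : ℕ) : Bool :=
  nodes.all (fun i => decide (i < D.rank) && R.contains (D.simple i) && R.contains (D.neg (D.simple i))) &&
    R.all fun r => decide (r < D.nroots) && decide (climb D nodes D.nroots r = s)

/-- Every unmoved position has a trivial scalar: by commutators, or by a torus element if `tor`. -/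
def okScal (D : ChevalleyDatum) (U L : List ℕ) (s : ℕ) (tor : Bool) (ks : List (List ℤ)) : Bool :=
  (List.finRange U.length).all fun r => movedAt D U s r || okScalar D U L s r ||
    (tor && ks.any fun k => okTorus D U s r k)

variable {D : ChevalleyDatum} {hF : Facts D} {F : Type*} [Field F] [Fintype F] {M : Type*} [AddCommGroup M]
  [Module ℂ M] [FiniteDimensional ℂ M] {ρ : ↥(D.group F) →* Module.End ℂ M} {U L : List ℕ}
  {E : Module.End ℂ M} {ψ : AddChar F ℂ} {a : ℕ}

/-- The state at a level: the roots of the current group act inside `E` with deficit `q^(a+1)`. -/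
structure St (hF : Facts D) (ρ : ↥(D.group F) →* Module.End ℂ M) (R : List ℕ) (a : ℕ)
    (E : Module.End ℂ M) : Prop where
  idem : E * E = E
  cR : ∀ r ∈ R, ∀ t, Commute (op ρ (hF.xg r t)) E
  cT : ∀ c : Fin D.rank → Fˣ, Commute (op ρ (torus D F c)) E
  deficit : ∀ r ∈ R, ∀ v : F, v ≠ 0 → LinearMap.trace ℂ M (op ρ (hF.xg r v) * E) =
    LinearMap.trace ℂ M E - (Fintype.card F : ℂ) * ((Fintype.card F ^ a : ℕ) : ℂ)

theorem St.frame {R : List ℕ} (h : St hF ρ R a E) (hU : ∀ u ∈ U, u ∈ R) (hL : ∀ α ∈ L, α ∈ R)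
    (hok : okLevel D U L a = true) : Frame hF ρ U L E :=
  ⟨h.idem, hom_of_okComm (level_spec hok).1 h.idem (fun u hu => h.cR u (hU u hu)), lt_of_okComm (level_spec hok).1,
    (level_spec hok).2.1, fun u hu => h.cR u (hU u hu), fun α hα => h.cR α (hL α hα)⟩

theorem tau_origin (α : ℕ) (v : F) : tau (D := D) U α v 0 = 0 := by
  funext i; unfold tau; rcases tgt D U α i with _ | ⟨k, z⟩ <;> simp

theorem P0_comm_L (hf : Frame hF ρ U L E) {α : ℕ} (hα : α ∈ L) (v : F) :
    Commute (op ρ (hF.xg α v)) (P hF ρ U ψ E 0) := by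
  have h := op_P_tau (ψ := ψ) hf hα v 0
  rwa [tau_origin] at h

theorem P0_comm_torus (hf : Frame hF ρ U L E) (t : Fin D.rank → Fˣ)
    (hT : Commute (op ρ (torus D F t)) E) : Commute (op ρ (torus D F t)) (P hF ρ U ψ E 0) := by
  classical
  have hg : torus D F t ∈ D.group F := hF.torus_mem_group t
  have hηconj := conj_R_torus hf t hT
  have hb : Function.Bijective fun x : Fin U.length → F => fun i => (torChar D t U[i.val] : F) * x i :=
    Finite.injective_iff_bijective.1 fun a b h => funext fun i =>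
      mul_left_cancel₀ (Units.ne_zero _) (congrFun h i)
  show op ρ (torus D F t) * P hF ρ U ψ E 0 = P hF ρ U ψ E 0 * op ρ (torus D F t)
  simp only [P, wp, mul_smul_comm, smul_mul_assoc, Finset.mul_sum, Finset.sum_mul]
  congr 1
  refine Fintype.sum_equiv (Equiv.ofBijective _ hb) _ _ fun x => ?_
  rw [Equiv.ofBijective_apply, ← hηconj, R, op_mul ρ (mul_mem hg (eta_mem hF U x)) (inv_mem hg),
    op_mul ρ hg (eta_mem hF U x)]
  congr 1
  · simp [chi_apply, dot]
  · rw [mul_assoc _ E, ← hT.eq, ← mul_assoc (op ρ (torus D F t) * _ * _),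
      mul_assoc (op ρ (torus D F t) * _), op_inv_mul ρ hg, mul_one]
    simp only [mul_assoc]

theorem trace_climb {R : List ℕ} {s : ℕ} {nodes : List ℕ}
    (hn : ∀ i ∈ nodes, i < D.rank ∧ D.simple i ∈ R ∧ D.neg (D.simple i) ∈ R)
    (hE : ∀ r ∈ R, ∀ t, Commute (op ρ (hF.xg r t)) E) :
    ∀ n r, r < D.nroots → climb D nodes n r = s → ∀ t : F, t ≠ 0 → ∃ t' : F, t' ≠ 0 ∧
      LinearMap.trace ℂ M (op ρ (hF.xg r t) * E) = LinearMap.trace ℂ M (op ρ (hF.xg s t') * E) := by
  intro n
  induction n with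
  | zero => intro r _ h t ht; exact ⟨t, ht, by rw [show r = s from h]⟩
  | succ n ih =>
    intro r hr h t ht
    rw [climb] at h
    rcases hf : nodes.find? (fun i => decide (D.cartan i r < 0)) with _ | i
    · rw [hf] at h; exact ⟨t, ht, by rw [show r = s from h]⟩
    rw [hf] at h
    obtain ⟨hi, h1, h2⟩ := hn i (List.mem_of_find?_eq_some hf)
    have hs : hF.sgn F i r * t ≠ 0 :=
      mul_ne_zero (fun e => one_ne_zero (α := F) (by rw [← hF.sgn_mul_self (F := F) hi hr, e, mul_zero])) ht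
    obtain ⟨t', ht', he⟩ := ih _ (hF.refl_lt i hi r hr) h _ hs
    refine ⟨t', ht', ?_⟩
    rw [← he, ← hF.ng_conj i hi r hr t]
    have hng : hF.ng (D.simple i) (1 : F) ∈ D.group F := hF.wg_mem_group _
    exact (trace_conj ρ hng (hF.xg_mem_group _ _) (commute_ng hF ρ (hE _ h1) (hE _ h2))).symm

theorem climb_spec {nodes R : List ℕ} {s : ℕ} (h : okClimb D nodes R s = true) :
    (∀ i ∈ nodes, i < D.rank ∧ D.simple i ∈ R ∧ D.neg (D.simple i) ∈ R) ∧
      ∀ r ∈ R, r < D.nroots ∧ climb D nodes D.nroots r = s := by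
  simp only [okClimb, Bool.and_eq_true, List.all_eq_true, decide_eq_true_eq, List.contains_iff_mem] at h
  exact ⟨fun i hi => ⟨(h.1 i hi).1.1, (h.1 i hi).1.2, (h.1 i hi).2⟩, h.2⟩

theorem scal_spec [DecidableEq F] (hf : Frame hF ρ U L E) {s : ℕ} (hs : s ∈ L) {tor : Bool} {ks : List (List ℤ)}
    (h : okScal D U L s tor ks = true) (htor : tor = true → 3 ≤ Fintype.card F)
    (hT : ∀ t : Fin D.rank → Fˣ, Commute (op ρ (torus D F t)) E) (r : Fin U.length)
    (hr : movedAt D U s r = false) (c : F) (h1 : mu hF ρ U ψ E (Pi.single r c) = 1) (w : F) :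
    op ρ (hF.xg s w) * P hF ρ U ψ E (Pi.single r c) = P hF ρ U ψ E (Pi.single r c) := by
  simp only [okScal, List.all_eq_true, Bool.or_eq_true, Bool.and_eq_true, List.any_eq_true] at h
  rcases h r (List.mem_finRange r) with (h' | h') | ⟨ht, k, -, hk⟩
  · rw [hr] at h'; exact absurd h' Bool.false_ne_true
  · exact scalar_comm hf h' h1 w
  · exact scalar_torus hf hs hr hk (htor ht) hT h1 w

/-- One step down the chain, the deficit of `s` given separately as `X`. -/
theorem step_gen (hf : Frame hF ρ U L E) (hψ : ψ ≠ 1) {a' s : ℕ} {nodes : List ℕ} {X : ℂ}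
    (hT : ∀ c : Fin D.rank → Fˣ, Commute (op ρ (torus D F c)) E) (hok : okBody D U L a = true)
    (hs : okTrace D U L s = true) (hclimb : okClimb D nodes L s = true) (hdef : Deficit hF ρ U E a)
    (hdefs : ∀ v : F, v ≠ 0 → LinearMap.trace ℂ M (op ρ (hF.xg s v) * E) = LinearMap.trace ℂ M E - X)
    (hsc : ∀ r, movedAt D U s r = false → ∀ c : F, c ≠ 0 → mu hF ρ U ψ E (Pi.single r c) = 1 → ∀ w : F,
      op ρ (hF.xg s w) * P hF ρ U ψ E (Pi.single r c) = P hF ρ U ψ E (Pi.single r c))
    (hid : (cellSum D U L (Fintype.card F) (fun _ => true) : ℂ) +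
        (Fintype.card F : ℂ) * ((Fintype.card F ^ a' : ℕ) : ℂ) =
      (cellSum D U L (Fintype.card F) (fun r => !movedAt D U s r) : ℂ) + X) :
    St hF ρ L a' (P hF ρ U ψ E 0) ∧
      LinearMap.trace ℂ M E = LinearMap.trace ℂ M (P hF ρ U ψ E 0) +
        (cellSum D U L (Fintype.card F) (fun _ => true) : ℂ) := by
  classical
  have hsplit := trace_split hf hok hψ hdef
  obtain ⟨hn, hr⟩ := climb_spec hclimb
  have hc : ∀ r ∈ L, ∀ t, Commute (op ρ (hF.xg r t)) (P hF ρ U ψ E 0) := fun r hr t => P0_comm_L hf hr t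
  refine ⟨⟨wp_idem (R_mul hf) _, hc, fun c => P0_comm_torus hf c (hT c), fun r hrL v hv => ?_⟩, hsplit⟩
  obtain ⟨v', hv', he⟩ := trace_climb hn hc _ r (hr r hrL).1 (hr r hrL).2 v hv
  have htop := trace_top_split hf hok hψ hdef hs hsc hv'
  rw [hdefs v' hv', hsplit] at htop
  rw [he]
  linear_combination -htop + hid

/-- One step down the chain, given the scalars. -/
theorem St.step' {R : List ℕ} (h : St hF ρ R a E) (hψ : ψ ≠ 1) {a' s : ℕ} {nodes : List ℕ}
    (hU : ∀ u ∈ U, u ∈ R) (hL : ∀ α ∈ L, α ∈ R) (hok : okLevel D U L a = true)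
    (hs : okTrace D U L s = true) (hclimb : okClimb D nodes L s = true)
    (hsc : ∀ r, movedAt D U s r = false → ∀ c : F, c ≠ 0 → mu hF ρ U ψ E (Pi.single r c) = 1 → ∀ w : F,
      op ρ (hF.xg s w) * P hF ρ U ψ E (Pi.single r c) = P hF ρ U ψ E (Pi.single r c))
    (hid : cellSum D U L (Fintype.card F) (fun _ => true) + Fintype.card F * Fintype.card F ^ a' =
      cellSum D U L (Fintype.card F) (fun r => !movedAt D U s r) + Fintype.card F * Fintype.card F ^ a) :
    St hF ρ L a' (P hF ρ U ψ E 0) ∧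
      LinearMap.trace ℂ M E = LinearMap.trace ℂ M (P hF ρ U ψ E 0) +
        (cellSum D U L (Fintype.card F) (fun _ => true) : ℂ) := by
  classical
  have hsL : s ∈ L := by
    simp only [okTrace, Bool.and_eq_true, decide_eq_true_eq] at hs
    exact hs.1
  refine step_gen (h.frame hU hL hok) hψ h.cT (level_body hok) hs hclimb
    (fun r v hv => h.deficit _ (hU _ (List.getElem_mem r.isLt)) v hv)
    (fun v hv => h.deficit s (hL s hsL) v hv) hsc ?_
  have hid' := congrArg (Nat.cast : ℕ → ℂ) hid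
  push_cast at hid' ⊢
  linear_combination hid'

/-- One step down the chain. -/
theorem St.step {R : List ℕ} (h : St hF ρ R a E) (hψ : ψ ≠ 1) {a' s : ℕ} {nodes : List ℕ} {tor : Bool}
    {ks : List (List ℤ)} (hU : ∀ u ∈ U, u ∈ R) (hL : ∀ α ∈ L, α ∈ R) (hok : okLevel D U L a = true)
    (hs : okTrace D U L s = true) (hscal : okScal D U L s tor ks = true)
    (htor : tor = true → 3 ≤ Fintype.card F) (hclimb : okClimb D nodes L s = true)
    (hid : cellSum D U L (Fintype.card F) (fun _ => true) + Fintype.card F * Fintype.card F ^ a' =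
      cellSum D U L (Fintype.card F) (fun r => !movedAt D U s r) + Fintype.card F * Fintype.card F ^ a) :
    St hF ρ L a' (P hF ρ U ψ E 0) ∧
      LinearMap.trace ℂ M E = LinearMap.trace ℂ M (P hF ρ U ψ E 0) +
        (cellSum D U L (Fintype.card F) (fun _ => true) : ℂ) := by
  classical
  have hsL : s ∈ L := by
    simp only [okTrace, Bool.and_eq_true, decide_eq_true_eq] at hs
    exact hs.1
  exact h.step' hψ hU hL hok hs hclimb
    (fun r hr c _ h1 w => scal_spec (h.frame hU hL hok) hsL hscal htor h.cT r hr c h1 w) hid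

/-- The bound at the end of the chain. -/
theorem St.last {R : List ℕ} (h : St hF ρ R a E) (hψ : ψ ≠ 1) (hU : ∀ u ∈ U, u ∈ R)
    (hL : ∀ α ∈ L, α ∈ R) (hok : okLevel D U L a = true) :
    ∃ m : ℕ, LinearMap.trace ℂ M E = (m : ℂ) ∧
      cellSum D U L (Fintype.card F) (fun _ => true) ≤ m := by
  classical
  have hf := h.frame hU hL hok
  refine ⟨mu hF ρ U ψ E 0 + cellSum D U L (Fintype.card F) (fun _ => true), ?_, Nat.le_add_left _ _⟩
  rw [trace_split hf (level_body hok) hψ fun r v hv => h.deficit _ (hU _ (List.getElem_mem r.isLt)) v hv, trace_P hf]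
  push_cast
  rfl

/-- The first deficit is a multiple of `q^(a+1)`. -/
theorem first_deficit [DecidableEq F] (hf : Frame hF ρ U L E) (hok : okBody D U L a = true) (hψ : ψ ≠ 1)
    {τ : ℂ} (hτ : ∀ r : Fin U.length, ∀ v : F, v ≠ 0 →
      LinearMap.trace ℂ M (op ρ (hF.xg U[r.val] v) * E) = τ) (r0 : Fin U.length) :
    ∃ j : ℕ, LinearMap.trace ℂ M E - τ = (Fintype.card F : ℂ) * ((Fintype.card F ^ a * j : ℕ) : ℂ) ∧
      (j = 0 → ∀ r : Fin U.length, op ρ (hF.xg U[r.val] 1) * E = E) ∧
      ∀ r1 : Fin U.length, r0 < r1 → (∃ p ∈ adj D U L r1, p.1 = r0) →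
        j * ((Fintype.card F - 1) * (Fintype.card F ^ a + Fintype.card F ^ (a - 1))) ≤
          ∑ y, mu hF ρ U ψ E y := by
  classical
  have hq := card_ne F
  obtain ⟨N, hN⟩ : ∃ N : ℂ, N = (LinearMap.trace ℂ M E - τ) / (Fintype.card F : ℂ) := ⟨_, rfl⟩
  have hdefN : ∀ r : Fin U.length, ∀ v : F, v ≠ 0 → LinearMap.trace ℂ M (op ρ (hF.xg U[r.val] v) * E) =
      LinearMap.trace ℂ M E - (Fintype.card F : ℂ) * N := fun r v hv => by
    rw [hτ r v hv, hN, mul_div_cancel₀ _ hq, sub_sub_cancel]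
  let base : Fin U.length → F → ℕ := fun r c => ∑ y ∈ zs D L r c (fun _ => True) [], mu hF ρ U ψ E y
  have hfibsum : ∀ r : Fin U.length, ∀ c : F, c ≠ 0 →
      ∑ y ∈ univ.filter (fun y : Fin U.length → F => y r = c), mu hF ρ U ψ E y =
        Fintype.card F ^ a * base r c := by
    intro r c hc
    obtain ⟨hfib, -, -⟩ := (body_spec hok).2 r
    have h1 := sum_zs hf.act hfib hc (fun _ => True) (mu hF ρ U ψ E) (adj D U L r) (fun p hp => hp)
      (adj_nodup hfib) (fun _ _ _ _ => Iff.rfl) (fun p hp v y => mu_tau hf (adj_spec hp).1 v y)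
    rw [(fib_spec hfib).1, smul_eq_mul] at h1
    rw [← h1]
    refine Finset.sum_congr ?_ fun _ _ => rfl
    ext y
    simp only [zs, Finset.mem_filter, Finset.mem_univ, true_and]
    exact ⟨fun h => ⟨h, fun p hp hn => absurd hp hn⟩, fun h => h.1⟩
  have hval : ∀ r : Fin U.length, ∀ c : F, c ≠ 0 → base r c = base r0 1 := by
    intro r c hc
    refine Nat.eq_of_mul_eq_mul_left (pow_pos (Fintype.card_pos (α := F)) a) (Nat.cast_injective (R := ℂ) ?_)
    rw [← hfibsum r c hc, ← hfibsum r0 1 one_ne_zero, sum_fibre hf hψ (hdefN r) hc,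
      sum_fibre hf hψ (hdefN r0) one_ne_zero]
  refine ⟨base r0 1, ?_, fun hj r => ?_, fun r1 hlt hr1 => ?_⟩
  · rw [← hfibsum r0 1 one_ne_zero, sum_fibre hf hψ (hdefN r0) one_ne_zero, hN, mul_div_cancel₀ _ hq]
  · have hzero : ∀ y : Fin U.length → F, y r ≠ 0 → mu hF ρ U ψ E y = 0 := fun y hy =>
      Finset.sum_eq_zero_iff.1 ((hfibsum r (y r) hy).trans (by rw [hval r (y r) hy, hj, mul_zero])) y
        (Finset.mem_filter.2 ⟨Finset.mem_univ _, rfl⟩)
    rw [← R_single hf]
    conv_rhs => rw [← sum_P (ψ := ψ) hf hψ]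
    calc R hF ρ U E (Pi.single r 1) = R hF ρ U E (Pi.single r 1) * E := by rw [R, mul_assoc, hf.idem]
      _ = ∑ y, R hF ρ U E (Pi.single r 1) * P hF ρ U ψ E y := by rw [← Finset.mul_sum, sum_P hf hψ]
      _ = ∑ y, P hF ρ U ψ E y := Finset.sum_congr rfl fun y _ => by
          rw [opE_mul_P hf, dot_single, mul_one]
          by_cases hy : y r = 0
          · rw [hy, AddChar.map_zero_eq_one, one_smul]
          · rw [P_eq_zero hf (hzero y hy), smul_zero]
  · obtain ⟨p0, hp0, hp0r⟩ := hr1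
    obtain ⟨hfib, -, -⟩ := (body_spec hok).2 r1
    obtain ⟨hlen, hnd, hsp⟩ := fib_spec hfib
    have hsecond : ∀ c : F, c ≠ 0 →
        ∑ y ∈ univ.filter (fun y : Fin U.length → F => y r1 = c ∧ y r0 = 0), mu hF ρ U ψ E y =
          Fintype.card F ^ (a - 1) * base r0 1 := by
      intro c hc
      have hmem : ∀ p ∈ (adj D U L r1).erase p0, p ∈ adj D U L r1 ∧ p ≠ p0 := fun p hp =>
        ⟨List.mem_of_mem_erase hp, fun e => (List.Nodup.not_mem_erase (adj_nodup hfib)) (e ▸ hp)⟩
      have h1 := sum_zs hf.act hfib hc (fun y => y r0 = 0) (mu hF ρ U ψ E) ((adj D U L r1).erase p0)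
        (fun p hp => (hmem p hp).1) ((adj_nodup hfib).erase _) (fun p hp v y => by
          have hne : p0.1 ≠ p.1 := fun e => (hmem p hp).2 (List.inj_on_of_nodup_map hnd hp0 (hmem p hp).1 e).symm
          rw [← hp0r, tau_of_none ((hsp p (hmem p hp).1).2.2 p0 hp0 hne)])
        (fun p hp v y => mu_tau hf (adj_spec (hmem p hp).1).1 v y)
      rw [List.length_erase_of_mem hp0, hlen, smul_eq_mul] at h1
      have e1 : zs D L r1 c (fun y => y r0 = 0) ((adj D U L r1).erase p0) =
          univ.filter fun y : Fin U.length → F => y r1 = c ∧ y r0 = 0 := by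
        ext y
        simp only [zs, Finset.mem_filter, Finset.mem_univ, true_and]
        refine ⟨fun h => ⟨h.1, h.2.1⟩, fun h => ⟨h.1, h.2, fun p hp hn => ?_⟩⟩
        by_cases e : p = p0
        · rw [e, hp0r]; exact h.2
        · exact absurd ((List.mem_erase_of_ne e).2 hp) hn
      have e2 : zs D L r1 c (fun y => y r0 = 0) [] = zs D L r1 c (fun _ => True) [] := by
        ext y
        simp only [zs, Finset.mem_filter, Finset.mem_univ, true_and]
        exact ⟨fun h => ⟨h.1, h.2.2⟩, fun h => ⟨h.1, hp0r ▸ h.2 p0 hp0 List.not_mem_nil, h.2⟩⟩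
      rw [← e1, h1, e2, ← hval r1 c hc]
    have hdisj : ∀ y : Fin U.length → F, mu hF ρ U ψ E y ≥
        (∑ c ∈ univ.erase (0 : F), if y r0 = c then mu hF ρ U ψ E y else 0) +
          ∑ c ∈ univ.erase (0 : F), if y r1 = c ∧ y r0 = 0 then mu hF ρ U ψ E y else 0 := by
      intro y
      rw [Finset.sum_ite_eq]
      by_cases h0 : y r0 = 0
      · simp only [h0, and_true]
        rw [if_neg (Finset.notMem_erase _ _), zero_add, Finset.sum_ite_eq]
        split_ifs <;> simp
      · simp only [h0, and_false, if_false, Finset.sum_const_zero, add_zero]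
        split_ifs <;> simp
    refine le_trans ?_ (Finset.sum_le_sum fun y _ => hdisj y)
    rw [Finset.sum_add_distrib, Finset.sum_comm]
    conv_rhs => arg 2; rw [Finset.sum_comm]
    simp only [← Finset.sum_filter]
    rw [Finset.sum_congr rfl fun c hc => (hfibsum r0 c (Finset.ne_of_mem_erase hc)).trans
        (by rw [hval r0 c (Finset.ne_of_mem_erase hc)]),
      Finset.sum_congr rfl fun c hc => hsecond c (Finset.ne_of_mem_erase hc), Finset.sum_const, Finset.sum_const,
      Finset.card_erase_of_mem (Finset.mem_univ _), Finset.card_univ, smul_eq_mul, smul_eq_mul]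
    exact le_of_eq (by ring)

end Cfsg.Agent.Small.MinusculeDegree
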