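import Cfsg.Agent.Lib.Small.MinusculeDegree.Ops

/-!
Counting the weights on the radical.
-/

set_option autoImplicit false
set_option linter.unusedSectionVars false

namespace Cfsg.Agent.Small.MinusculeDegree

open Cfsg.Lie Cfsg.Agent.Lie Finset
open Cfsg.Agent.Small.D4Degree (wp wm card_ne mul_wp wp_idem sum_wp trace_eq_sum wm_move)
open scoped MatrixGroups

variable {D : ChevalleyDatum} {hF : Facts D} {F : Type*} [Field F] [Fintype F] {M : Type*} [AddCommGroup M]
  [Module ℂ M] [FiniteDimensional ℂ M] {ρ : ↥(D.group F) →* Module.End ℂ M} {U L : List ℕ}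
  {E : Module.End ℂ M} {ψ : AddChar F ℂ}

/-- The setting of one level. -/
structure Frame (hF : Facts D) (ρ : ↥(D.group F) →* Module.End ℂ M) (U L : List ℕ)
    (E : Module.End ℂ M) : Prop where
  idem : E * E = E
  hom : ∀ x y, R hF ρ U E (x + y) = R hF ρ U E x * R hF ρ U E y
  lt : ∀ i : Fin U.length, U[i.val] < D.nroots
  act : ∀ α ∈ L, okAct D U α = true
  cU : ∀ u ∈ U, ∀ t, Commute (op ρ (hF.xg u t)) E
  cL : ∀ α ∈ L, ∀ t, Commute (op ρ (hF.xg α t)) E

theorem commute_eta (hf : Frame hF ρ U L E) (x : Fin U.length → F) : Commute (op ρ (eta hF U x)) E := by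
  suffices h : ∀ l : List (Fin U.length), Commute (op ρ ((l.map fun i => hF.xg U[i.val] (x i)).prod)) E from
    h _
  intro l
  induction l with
  | nil => rw [List.map_nil, List.prod_nil, op_one]; exact Commute.one_left E
  | cons i l ih =>
    rw [List.map_cons, List.prod_cons]
    exact commute_mul ρ (hF.xg_mem_group _ _) (Subgroup.list_prod_mem _ fun g hg => by
      obtain ⟨j, -, rfl⟩ := List.mem_map.1 hg
      exact hF.xg_mem_group _ _) (hf.cU _ (List.getElem_mem i.isLt) _) ih

variable (hf : Frame hF ρ U L E)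
include hf

theorem R_single' (i : Fin U.length) (t : F) :
    R hF ρ U E (Pi.single i t) = op ρ (hF.xg U[i.val] t) * E := by rw [R, eta_single]

theorem R_mul (x y : Fin U.length → F) : R hF ρ U E (x + y) = R hF ρ U E x * R hF ρ U E y := hf.hom x y

/-- An element fixing `E` conjugates the radical through any additive map agreeing with it on the lines. -/
theorem conj_R {g : GL D.Idx F} (hg : g ∈ D.group F) (hgE : Commute (op ρ g) E)
    (f : (Fin U.length → F) →+ (Fin U.length → F))
    (h : ∀ i t, op ρ (g * hF.xg U[i.val] t * g⁻¹) * E = R hF ρ U E (f (Pi.single i t)))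
    (x : Fin U.length → F) : op ρ (g * eta hF U x * g⁻¹) * E = R hF ρ U E (f x) := by
  classical
  have hpush : ∀ x, op ρ (g * eta hF U x * g⁻¹) * E = op ρ g * R hF ρ U E x * op ρ g⁻¹ := fun x => by
    rw [op_mul ρ (mul_mem hg (eta_mem hF U x)) (inv_mem hg), op_mul ρ hg (eta_mem hF U x), R,
      mul_assoc (op ρ g * op ρ (eta hF U x)), (commute_inv ρ hg hgE).eq]
    simp only [mul_assoc]
  refine ext_singles (f := fun x => op ρ (g * eta hF U x * g⁻¹) * E) (g := fun x => R hF ρ U E (f x))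
    (fun a b => ?_) (fun a b => by rw [map_add, hf.hom]) ?_ (fun i t => ?_) x
  · simp only [hpush, hf.hom]
    simp only [mul_assoc]
    rw [← mul_assoc (op ρ g⁻¹) (op ρ g), op_inv_mul ρ hg, one_mul]
  · simp only [map_zero, eta_zero, mul_one, mul_inv_cancel, R, op_one, one_mul]
  · rw [eta_single]; exact h i t

theorem conj_R_act {α : ℕ} (hα : α ∈ L) (v : F) (x : Fin U.length → F) :
    op ρ (hF.xg α v * eta hF U x * (hF.xg α v)⁻¹) * E = R hF ρ U E (phi (D := D) U α v x) := by
  classical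
  refine conj_R hf (hF.xg_mem_group _ _) (hf.cL α hα v) _ (fun i t => ?_) x
  rcases single_conj hF (hf.act α hα) v i t with ⟨k, z, -, e, e'⟩ | ⟨-, e, e'⟩
  · rw [e, e', hf.hom, R_single' hf, R_single' hf, op_mul ρ (hF.xg_mem_group _ _) (hF.xg_mem_group _ _),
      mul_assoc _ E, ← mul_assoc E, ← (hf.cU _ (List.getElem_mem k.isLt) _).eq, mul_assoc _ E E, hf.idem, ← mul_assoc]
  · rw [e, e', R_single' hf]

theorem R_zero : R hF ρ U E 0 = E := by rw [R, eta_zero, op_one, one_mul]

theorem R_single (i : Fin U.length) (t : F) :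
    R hF ρ U E (Pi.single i t) = op ρ (hF.xg U[i.val] t) * E := by rw [R, eta_single]

theorem sum_P (hψ : ψ ≠ 1) : ∑ y, P hF ρ U ψ E y = E := by
  conv_rhs => rw [← R_zero hf, ← sum_wp (R_mul hf)]
  exact Fintype.sum_bijective _ (chi_bijective ψ hψ) _ _ fun y => rfl

theorem trace_P (y : Fin U.length → F) :
    LinearMap.trace ℂ M (P hF ρ U ψ E y) = (mu hF ρ U ψ E y : ℂ) := by
  have hp : LinearMap.IsProj (LinearMap.range (P hF ρ U ψ E y)) (P hF ρ U ψ E y) := by
    refine ⟨fun x => LinearMap.mem_range_self _ x, ?_⟩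
    rintro _ ⟨x, rfl⟩
    exact LinearMap.congr_fun (wp_idem (R_mul hf) _) x
  rw [hp.trace]; rfl

theorem trace_E (hψ : ψ ≠ 1) : LinearMap.trace ℂ M E = ∑ y, (mu hF ρ U ψ E y : ℂ) := by
  conv_lhs => rw [← sum_P hf hψ, map_sum]
  exact Finset.sum_congr rfl fun y _ => trace_P hf y

theorem P_eq_zero {y : Fin U.length → F} (h : mu hF ρ U ψ E y = 0) : P hF ρ U ψ E y = 0 :=
  LinearMap.range_eq_bot.1 (Submodule.finrank_eq_zero.1 h)

theorem opE_mul_P (x y : Fin U.length → F) :
    R hF ρ U E x * P hF ρ U ψ E y = ψ (dot y x) • P hF ρ U ψ E y := mul_wp (R_mul hf) x _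

theorem E_mul_P (y : Fin U.length → F) : E * P hF ρ U ψ E y = P hF ρ U ψ E y := by
  have h := opE_mul_P (ψ := ψ) hf 0 y
  rw [R_zero hf] at h
  rw [h, show dot y (0 : Fin U.length → F) = 0 from Finset.sum_eq_zero fun i _ => mul_zero _,
    AddChar.map_zero_eq_one, one_smul]

theorem P_orth (hψ : ψ ≠ 1) {y y' : Fin U.length → F} (hne : y ≠ y') :
    P hF ρ U ψ E y * P hF ρ U ψ E y' = 0 := by
  conv_lhs => arg 1; rw [P, wp]
  rw [smul_mul_assoc, Finset.sum_mul]
  simp only [smul_mul_assoc, opE_mul_P hf, smul_smul]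
  rw [← Finset.sum_smul]
  have h0 : chi ψ y' / chi ψ y ≠ 1 := fun h => hne ((chi_bijective ψ hψ).1 (div_eq_one.1 h).symm)
  have h := AddChar.sum_eq_zero_of_ne_one h0
  have e : ∀ x, chi ψ y (-x) * ψ (dot y' x) = (chi ψ y' / chi ψ y) x := fun x => by
    rw [AddChar.div_apply', AddChar.map_neg_eq_inv, div_eq_mul_inv, mul_comm]; rfl
  rw [Finset.sum_congr rfl fun x _ => e x, h, zero_smul, smul_zero]

theorem trace_conjP {α : ℕ} (hα : α ∈ L) (v : F) (x : Fin U.length → F) :
    LinearMap.trace ℂ M (R hF ρ U E (phi (D := D) U α v x)) = LinearMap.trace ℂ M (R hF ρ U E x) := by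
  rw [← conj_R_act hf hα, R, trace_conj ρ (hF.xg_mem_group _ _) (eta_mem hF U x) (hf.cL α hα v)]

theorem mu_tau {α : ℕ} (hα : α ∈ L) (v : F) (y : Fin U.length → F) :
    mu hF ρ U ψ E (tau (D := D) U α v y) = mu hF ρ U ψ E y := by
  have h := wm_move (R_mul hf) (phi (D := D) U α v) (phi_bijective (hf.act α hα) v)
    (trace_conjP hf hα v) (chi ψ y)
  rw [show (chi ψ y).compAddMonoidHom (phi (D := D) U α v) = chi ψ (tau (D := D) U α v y) from
    DFunLike.ext _ _ fun x => by rw [AddChar.compAddMonoidHom_apply, chi_apply, chi_apply, dot_phi]] at h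
  exact h

/-- A root element permutes the weights. -/
theorem op_P_tau {α : ℕ} (hα : α ∈ L) (v : F) (y : Fin U.length → F) :
    op ρ (hF.xg α v) * P hF ρ U ψ E (tau (D := D) U α v y) = P hF ρ U ψ E y * op ρ (hF.xg α v) := by
  simp only [P, wp, mul_smul_comm, smul_mul_assoc, Finset.mul_sum, Finset.sum_mul]
  congr 1
  refine Fintype.sum_equiv (Equiv.ofBijective _ (phi_bijective (hf.act α hα) v)) _ _ fun x => ?_
  simp only [Equiv.ofBijective_apply, chi_apply, ← map_neg, dot_phi]
  congr 1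
  rw [← conj_R_act hf hα v x, op_mul ρ (mul_mem (hF.xg_mem_group _ _) (eta_mem hF U x))
    (inv_mem (hF.xg_mem_group _ _)), op_mul ρ (hF.xg_mem_group _ _) (eta_mem hF U x), R]
  rw [mul_assoc _ E, ← (hf.cL α hα v).eq, ← mul_assoc (op ρ (hF.xg α v) * _ * _),
    mul_assoc (op ρ (hF.xg α v) * _), op_inv_mul ρ (hF.xg_mem_group _ _), mul_one]
  simp only [mul_assoc]

/-- The weights with a given nonzero coordinate at a root of deficit N have total multiplicity N. -/
theorem sum_fibre (hψ : ψ ≠ 1) [DecidableEq F] {i : Fin U.length} {N : ℂ}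
    (hN : ∀ v : F, v ≠ 0 → LinearMap.trace ℂ M (op ρ (hF.xg U[i.val] v) * E) =
      LinearMap.trace ℂ M E - (Fintype.card F : ℂ) * N) {c : F} (hc : c ≠ 0) :
    ((∑ y ∈ univ.filter (fun y : Fin U.length → F => y i = c), mu hF ρ U ψ E y : ℕ) : ℂ) = N := by
  have hprim := AddChar.IsPrimitive.of_ne_one hψ
  have hq := card_ne F
  have key : ∀ s : F, LinearMap.trace ℂ M (R hF ρ U E (Pi.single i s)) =
      ∑ y : Fin U.length → F, ψ (y i * s) * (mu hF ρ U ψ E y : ℂ) := by
    intro s
    rw [trace_eq_sum (R_mul hf)]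
    exact (Fintype.sum_bijective _ (chi_bijective ψ hψ) _ _ fun y => by rw [chi_apply, dot_single]; rfl).symm
  have h1 : ∑ s : F, ψ (-(c * s)) * LinearMap.trace ℂ M (R hF ρ U E (Pi.single i s)) =
      (Fintype.card F : ℂ) * N := by
    have hval : ∀ s : F, LinearMap.trace ℂ M (R hF ρ U E (Pi.single i s)) =
        (LinearMap.trace ℂ M E - (Fintype.card F : ℂ) * N) + if s = 0 then (Fintype.card F : ℂ) * N else 0 := by
      intro s
      by_cases hs : s = 0
      · rw [hs, Pi.single_zero, R_zero hf, if_pos rfl]; ring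
      · rw [if_neg hs, add_zero, R_single hf, hN s hs]
    simp only [hval, mul_add, Finset.sum_add_distrib, mul_ite, mul_zero]
    rw [← Finset.sum_mul, show ∑ s : F, ψ (-(c * s)) = 0 by
        rw [Finset.sum_congr rfl fun s _ => show ψ (-(c * s)) = ψ (s * -c) by ring_nf, AddChar.sum_mulShift _ hprim,
          if_neg (neg_ne_zero.2 hc), Nat.cast_zero],
      zero_mul, zero_add, Finset.sum_ite_eq' univ, if_pos (mem_univ _), mul_zero, neg_zero,
      AddChar.map_zero_eq_one, one_mul]
  simp only [key, Finset.mul_sum] at h1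
  rw [Finset.sum_comm] at h1
  have h2 : ∀ y : Fin U.length → F, ∑ s : F, ψ (-(c * s)) * (ψ (y i * s) * (mu hF ρ U ψ E y : ℂ)) =
      if y i = c then (Fintype.card F : ℂ) * mu hF ρ U ψ E y else 0 := by
    intro y
    rw [Finset.sum_congr rfl fun s _ => show ψ (-(c * s)) * (ψ (y i * s) * (mu hF ρ U ψ E y : ℂ)) =
        ψ (s * (y i - c)) * (mu hF ρ U ψ E y : ℂ) by
      rw [← mul_assoc, ← AddChar.map_add_eq_mul]; ring_nf, ← Finset.sum_mul, AddChar.sum_mulShift _ hprim]
    by_cases hy : y i = c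
    · rw [if_pos (sub_eq_zero.2 hy), if_pos hy]
    · rw [if_neg (sub_ne_zero.2 hy), if_neg hy, Nat.cast_zero, zero_mul]
  rw [Finset.sum_congr rfl fun y _ => h2 y, ← Finset.sum_filter, ← Finset.mul_sum] at h1
  push_cast
  exact mul_left_cancel₀ hq h1

omit hf

variable (D)

/-- The weights with coordinate c at r satisfying Q, vanishing at the moved positions outside l. -/
def zs [DecidableEq F] (L : List ℕ) {U : List ℕ} (r : Fin U.length) (c : F)
    (Q : (Fin U.length → F) → Prop) [DecidablePred Q] (l : List (Fin U.length × ℕ)) :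
    Finset (Fin U.length → F) :=
  univ.filter fun y => y r = c ∧ Q y ∧ ∀ p ∈ adj D U L r, p ∉ l → y p.1 = 0

variable {D}

theorem adj_spec {r : Fin U.length} {p : Fin U.length × ℕ} (hp : p ∈ adj D U L r) :
    p.2 ∈ L ∧ ∃ z, tgt D U p.2 p.1 = some (r, z) := by
  simp only [adj, List.mem_flatMap, List.mem_map, List.mem_filter, Option.any_eq_true, decide_eq_true_eq] at hp
  obtain ⟨i, -, α, ⟨hα, ⟨k, z⟩, hz, hk⟩, rfl⟩ := hp
  exact ⟨hα, z, by simp only at hk; rw [hz, hk]⟩

theorem fib_spec {a : ℕ} {r : Fin U.length} (h : okFib D U L a r = true) :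
    (adj D U L r).length = a ∧ ((adj D U L r).map Prod.fst).Nodup ∧
      ∀ p ∈ adj D U L r, p.1 ≠ r ∧ tgt D U p.2 r = none ∧
        ∀ p' ∈ adj D U L r, p'.1 ≠ p.1 → tgt D U p.2 p'.1 = none := by
  simp only [okFib, Bool.and_eq_true, decide_eq_true_eq, List.all_eq_true, Option.isNone_iff_eq_none,
    Bool.or_eq_true] at h
  refine ⟨h.1.1, h.1.2, fun p hp => ⟨(h.2 p hp).1.1, (h.2 p hp).1.2, fun p' hp' hne => ?_⟩⟩
  exact ((h.2 p hp).2 p' hp').resolve_left hne

theorem tau_of_none {α : ℕ} {i : Fin U.length} (h : tgt D U α i = none) (v : F) (y : Fin U.length → F) :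
    tau (D := D) U α v y i = y i := by unfold tau; rw [h]; simp

theorem tau_of_some {α : ℕ} {i k : Fin U.length} {z : ℤ} (h : tgt D U α i = some (k, z)) (v : F)
    (y : Fin U.length → F) : tau (D := D) U α v y i = y i + v * (z : F) * y k := by unfold tau; rw [h]

theorem z_ne {α : ℕ} {i k : Fin U.length} {z : ℤ} (hα : okAct D U α = true)
    (h : tgt D U α i = some (k, z)) : (z : F) ≠ 0 := by
  rcases (((okAct_spec hα).2 i).2.2.2.2 k z h).2.1 with rfl | rfl <;> simp

/-- The translations spread an invariant function evenly. -/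
theorem sum_zs {A : Type*} [AddCommMonoid A] [DecidableEq F] {a : ℕ} {r : Fin U.length}
    (hact : ∀ α ∈ L, okAct D U α = true) (hfib : okFib D U L a r = true)
    {c : F} (hc : c ≠ 0) (Q : (Fin U.length → F) → Prop) [DecidablePred Q] (f : (Fin U.length → F) → A) :
    ∀ l : List (Fin U.length × ℕ), (∀ p ∈ l, p ∈ adj D U L r) → l.Nodup →
      (∀ p ∈ l, ∀ v y, Q (tau (D := D) U p.2 v y) ↔ Q y) →
      (∀ p ∈ l, ∀ v y, f (tau (D := D) U p.2 v y) = f y) →
      ∑ y ∈ zs D L r c Q l, f y = (Fintype.card F ^ l.length) • ∑ y ∈ zs D L r c Q [], f y := by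
  obtain ⟨-, hnd, hsp⟩ := fib_spec hfib
  intro l
  induction l with
  | nil => intro _ _ _ _; simp
  | cons p l ih =>
    intro hsub hl hQ hfv
    rw [List.nodup_cons] at hl
    have hp := hsub p List.mem_cons_self
    obtain ⟨hpL, z, hz⟩ := adj_spec hp
    have hzc : (z : F) * c ≠ 0 := mul_ne_zero (z_ne (hact _ hpL) hz) hc
    have hrest := ih (fun p' hp' => hsub p' (List.mem_cons_of_mem _ hp')) hl.2
      (fun p' hp' => hQ p' (List.mem_cons_of_mem _ hp')) (fun p' hp' => hfv p' (List.mem_cons_of_mem _ hp'))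
    have hinj : ∀ p' ∈ adj D U L r, p'.1 = p.1 → p' = p := fun p' hp' e => List.inj_on_of_nodup_map hnd hp' hp e
    obtain ⟨-, hpr, hpo⟩ := hsp p hp
    -- translating the coordinate at p
    have hmove : ∀ (v : F) (y : Fin U.length → F), y r = c →
        tau (D := D) U p.2 v y r = c ∧ tau (D := D) U p.2 v y p.1 = y p.1 + v * ((z : F) * c) ∧
          ∀ p' ∈ adj D U L r, p' ≠ p → tau (D := D) U p.2 v y p'.1 = y p'.1 := by
      intro v y hy
      refine ⟨by rw [tau_of_none hpr, hy], by rw [tau_of_some hz, hy]; ring, fun p' hp' hne => ?_⟩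
      exact tau_of_none (hpo p' hp' fun e => hne (hinj p' hp' e)) v y
    have hfib' : ∀ w : F, ∑ y ∈ (zs D L r c Q (p :: l)).filter (fun y => y p.1 = w), f y =
        ∑ y ∈ zs D L r c Q l, f y := by
      intro w
      refine Finset.sum_nbij' (fun y => tau (D := D) U p.2 (-(w / ((z : F) * c))) y)
        (fun y => tau (D := D) U p.2 (w / ((z : F) * c)) y) (fun y hy => ?_) (fun y hy => ?_)
        (fun y _ => by rw [tau_add (hact _ hpL), add_neg_cancel, tau_zero])
        (fun y _ => by rw [tau_add (hact _ hpL), neg_add_cancel, tau_zero])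
        (fun y _ => (hfv p List.mem_cons_self _ y).symm)
      · simp only [zs, Finset.mem_filter, Finset.mem_univ, true_and] at hy ⊢
        obtain ⟨⟨hyr, hyQ, hy0⟩, hyw⟩ := hy
        obtain ⟨m1, m2, m3⟩ := hmove (-(w / ((z : F) * c))) y hyr
        refine ⟨m1, (hQ p List.mem_cons_self _ y).2 hyQ, fun p' hp' hnl => ?_⟩
        by_cases e : p' = p
        · rw [e, m2, hyw, neg_mul, div_mul_cancel₀ _ hzc, add_neg_cancel]
        · rw [m3 p' hp' e]
          exact hy0 p' hp' (by simp [e, hnl])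
      · simp only [zs, Finset.mem_filter, Finset.mem_univ, true_and] at hy ⊢
        obtain ⟨hyr, hyQ, hy0⟩ := hy
        obtain ⟨m1, m2, m3⟩ := hmove (w / ((z : F) * c)) y hyr
        refine ⟨⟨m1, (hQ p List.mem_cons_self _ y).2 hyQ, fun p' hp' hnl => ?_⟩, ?_⟩
        · rw [List.mem_cons, not_or] at hnl
          rw [m3 p' hp' hnl.1]
          exact hy0 p' hp' hnl.2
        · rw [m2, hy0 p hp hl.1, zero_add, div_mul_cancel₀ _ hzc]
    rw [← Finset.sum_fiberwise (zs D L r c Q (p :: l)) (fun y => y p.1) f,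
      Finset.sum_congr rfl fun w _ => hfib' w, Finset.sum_const, Finset.card_univ, hrest,
      List.length_cons, pow_succ', mul_smul]

/-- The frame of a group commutative on the image of `E`. -/
theorem hom_of_commute (hidem : E * E = E) (hcU : ∀ u ∈ U, ∀ t, Commute (op ρ (hF.xg u t)) E)
    (hcomm : ∀ u ∈ U, ∀ w ∈ U, ∀ t t', Commute (op ρ (hF.xg u t) * E) (op ρ (hF.xg w t') * E))
    (x y : Fin U.length → F) : R hF ρ U E (x + y) = R hF ρ U E x * R hF ρ U E y := by
  have key : ∀ (z : Fin U.length → F) (l : List (Fin U.length)),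
      op ρ ((l.map fun i => hF.xg U[i.val] (z i)).prod) * E =
        (l.map fun i => op ρ (hF.xg U[i.val] (z i)) * E).prod * E ∧
      Commute (op ρ ((l.map fun i => hF.xg U[i.val] (z i)).prod)) E := by
    intro z l
    induction l with
    | nil => simp [op_one]
    | cons i l ih =>
      have hm : (l.map fun i => hF.xg U[i.val] (z i)).prod ∈ D.group F := Subgroup.list_prod_mem _ fun g hg => by
        obtain ⟨j, -, rfl⟩ := List.mem_map.1 hg
        exact hF.xg_mem_group _ _
      have hc := hcU _ (List.getElem_mem i.isLt) (z i)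
      simp only [List.map_cons, List.prod_cons]
      refine ⟨?_, commute_mul ρ (hF.xg_mem_group _ _) hm hc ih.2⟩
      rw [op_mul ρ (hF.xg_mem_group _ _) hm, mul_assoc, mul_assoc (op ρ (hF.xg U[i.val] (z i)) * E),
        ← ih.1, mul_assoc (op ρ (hF.xg U[i.val] (z i))) E, ← mul_assoc E, ← ih.2.eq, mul_assoc _ E E, hidem]
  have hr : ∀ z, R hF ρ U E z = ((List.finRange U.length).map fun i => op ρ (hF.xg U[i.val] (z i)) * E).prod * E :=
    fun z => (key z _).1
  have hsplit : ∀ i : Fin U.length, op ρ (hF.xg U[i.val] (x i + y i)) * E =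
      op ρ (hF.xg U[i.val] (x i)) * E * (op ρ (hF.xg U[i.val] (y i)) * E) := fun i => by
    rw [hF.xg_add, op_mul ρ (hF.xg_mem_group _ _) (hF.xg_mem_group _ _), mul_assoc _ E, ← mul_assoc E,
      ← (hcU _ (List.getElem_mem i.isLt) _).eq, mul_assoc _ E E, hidem, ← mul_assoc]
  have hprodE : ∀ z : Fin U.length → F, ∀ l : List (Fin U.length),
      Commute (l.map fun i => op ρ (hF.xg U[i.val] (z i)) * E).prod E := by
    intro z l
    induction l with
    | nil => exact Commute.one_left E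
    | cons i l ih =>
      rw [List.map_cons, List.prod_cons]
      exact (((hcU _ (List.getElem_mem i.isLt) _).mul_left (Commute.refl E))).mul_left ih
  rw [hr, hr, hr]
  simp only [Pi.add_apply, hsplit]
  rw [list_prod_map_mul _ _ _ (List.pairwise_of_forall_mem_list fun i _ j _ =>
    hcomm _ (List.getElem_mem i.isLt) _ (List.getElem_mem j.isLt) _ _), mul_assoc _ E, ← mul_assoc E,
    ← (hprodE y _).eq, mul_assoc _ E E, hidem, ← mul_assoc]

theorem hom_of_okComm (hU : okComm D U = true) (hidem : E * E = E)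
    (hcU : ∀ u ∈ U, ∀ t, Commute (op ρ (hF.xg u t)) E) (x y : Fin U.length → F) :
    R hF ρ U E (x + y) = R hF ρ U E x * R hF ρ U E y := by
  refine hom_of_commute hidem hcU (fun u hu w hw t t' => ?_) x y
  have e : Commute (op ρ (hF.xg u t)) (op ρ (hF.xg w t')) := by
    show _ = _
    rw [← op_mul ρ (hF.xg_mem_group _ _) (hF.xg_mem_group _ _), hF.xg_commute hU hu hw,
      op_mul ρ (hF.xg_mem_group _ _) (hF.xg_mem_group _ _)]
  exact (e.mul_left (hcU w hw t').symm).mul_right ((hcU u hu t).mul_left (Commute.refl E))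

theorem lt_of_okComm (hU : okComm D U = true) (i : Fin U.length) : U[i.val] < D.nroots := by
  simp only [okComm, List.all_eq_true, Bool.and_eq_true, decide_eq_true_eq] at hU
  exact (hU _ (List.getElem_mem i.isLt)).1

end Cfsg.Agent.Small.MinusculeDegree
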