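import Cfsg.Agent.Lib.Small.MinusculeDegree.Ops

/-!
A group of root elements acting on an abelian radical as on a natural module.
-/

set_option autoImplicit false
set_option linter.unusedSectionVars false

namespace Cfsg.Agent.Small.MinusculeDegree

open Cfsg.Lie Cfsg.Agent.Lie Finset
open scoped MatrixGroups

/-- Every pair of positions is joined by a root moving nothing else. -/
def okNatural (D : ChevalleyDatum) (U A : List ℕ) : Bool :=
  decide (2 ≤ U.length) && okComm D U && A.all (okAct D U) &&
    (List.finRange U.length).all fun i => (List.finRange U.length).all fun j => decide (i = j) ||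
      A.any fun α => (tgt D U α i).any (fun p => decide (p.1 = j)) &&
        (List.finRange U.length).all fun i' => decide (i' = i) || (tgt D U α i').isNone

variable {D : ChevalleyDatum} (hF : Facts D) {F : Type*} [Field F] [Fintype F]

/-- The subgroup generated by the root elements. -/
noncomputable def rootGen (F : Type*) [Field F] (A : List ℕ) : Subgroup ↥(D.group F) :=
  Subgroup.closure {g | ∃ α ∈ A, ∃ t : F, (g : GL D.Idx F) = hF.xg α t}

theorem pow_sub_one_dvd {U A : List ℕ} (h : okNatural D U A = true) :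
    Fintype.card F ^ U.length - 1 ∣ Nat.card (rootGen hF F A) := by
  classical
  simp only [okNatural, Bool.and_eq_true, decide_eq_true_eq, List.all_eq_true, Bool.or_eq_true,
    List.any_eq_true, Option.any_eq_true, Option.isNone_iff_eq_none] at h
  obtain ⟨⟨⟨hlen, hU⟩, hact⟩, hmove⟩ := h
  let H := rootGen hF F A
  -- moving one coordinate into another
  have hstep : ∀ i j : Fin U.length, i ≠ j → ∀ v : F, ∃ g ∈ H, ∀ x : Fin U.length → F,
      (g : GL D.Idx F) * eta hF U x * (g : GL D.Idx F)⁻¹ =
        eta hF U (x + Pi.single j (v * x i)) := by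
    intro i j hij v
    obtain ⟨α, hα, ⟨⟨k, z⟩, hz, hk⟩, hno⟩ := (hmove i (List.mem_finRange i) j (List.mem_finRange j)).resolve_left hij
    simp only at hk
    subst hk
    have hspec := ((okAct_spec (hact α hα)).2 i).2.2.2.2 k z hz
    have hzz : (z : F) * z = 1 := by rcases hspec.2.1 with rfl | rfl <;> simp
    refine ⟨⟨hF.xg α (v * z), hF.xg_mem_group _ _⟩, Subgroup.subset_closure ⟨α, hα, _, rfl⟩, fun x => ?_⟩
    rw [eta_conj hF hU (hact α hα)]
    congr 1
    rw [phi, AddMonoidHom.mk'_apply]
    congr 1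
    rw [Finset.sum_eq_single i (fun i' _ hi' => ?_) (fun h => absurd (Finset.mem_univ i) h)]
    · rw [cN, hz]
      simp only
      rw [← Pi.single_smul, smul_eq_mul]
      congr 1
      linear_combination (v * x i) * hzz
    · rw [cN, (hno i' (List.mem_finRange i')).resolve_left hi', smul_zero]
  -- reaching a coordinate vector
  let Reach : (Fin U.length → F) → (Fin U.length → F) → Prop := fun x x' =>
    ∃ g ∈ H, (g : GL D.Idx F) * eta hF U x * (g : GL D.Idx F)⁻¹ = eta hF U x'
  have htrans : ∀ x y z, Reach x y → Reach y z → Reach x z := by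
    rintro x y z ⟨g, hg, e⟩ ⟨g', hg', e'⟩
    refine ⟨g' * g, mul_mem hg' hg, ?_⟩
    rw [Subgroup.coe_mul, ← e', ← e]
    group
  have hadd : ∀ x (i j : Fin U.length), i ≠ j → ∀ v : F, Reach x (x + Pi.single j (v * x i)) := fun x i j hij v => by
    obtain ⟨g, hg, e⟩ := hstep i j hij v
    exact ⟨g, hg, e x⟩
  let o : Fin U.length := ⟨0, by omega⟩
  let o' : Fin U.length := ⟨1, by omega⟩
  have hoo : o ≠ o' := fun e => by simpa [o, o'] using congrArg Fin.val e
  have hreach : ∀ x : Fin U.length → F, x ≠ 0 → Reach x (Pi.single o 1) := by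
    have hclear : ∀ S : Finset (Fin U.length), o ∉ S → ∀ x : Fin U.length → F, x o = 1 →
        (∀ i, i ∉ S → i ≠ o → x i = 0) → Reach x (Pi.single o 1) := by
      intro S
      induction S using Finset.induction_on with
      | empty =>
        intro _ x hx hz
        refine ⟨1, one_mem H, ?_⟩
        rw [Subgroup.coe_one, one_mul, inv_one, mul_one]
        congr 1
        funext i
        by_cases hi : i = o
        · subst hi; rw [Pi.single_eq_same, hx]
        · rw [Pi.single_eq_of_ne hi, hz i (Finset.notMem_empty i) hi]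
      | insert a S ha ih =>
        intro ho x hx hz
        rw [Finset.mem_insert, not_or] at ho
        refine htrans _ _ _ (hadd x o a ho.1 (-x a)) (ih ho.2 _ ?_ fun i hi hio => ?_)
        · rw [Pi.add_apply, Pi.single_eq_of_ne ho.1, add_zero, hx]
        · by_cases hia : i = a
          · subst hia; rw [Pi.add_apply, Pi.single_eq_same, hx, mul_one, add_neg_cancel]
          · rw [Pi.add_apply, Pi.single_eq_of_ne hia, add_zero, hz i (by simp [hia, hi]) hio]
    have hone : ∀ x : Fin U.length → F, ∀ i, i ≠ o → x i ≠ 0 → Reach x (Pi.single o 1) := by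
      intro x i hi hxi
      refine htrans _ _ _ (hadd x i o hi ((1 - x o) / x i)) (hclear (univ.erase o) (Finset.notMem_erase _ _) _ ?_
        fun j hj hjo => absurd (Finset.mem_erase.2 ⟨hjo, Finset.mem_univ j⟩) hj)
      rw [Pi.add_apply, Pi.single_eq_same, div_mul_cancel₀ _ hxi, add_sub_cancel]
    intro x hx
    obtain ⟨i, hi⟩ := Function.ne_iff.1 hx
    by_cases hio : i = o
    · subst hio
      refine htrans _ _ _ (hadd x o o' hoo ((1 - x o') / x o)) (hone _ o' (Ne.symm hoo) ?_)
      rw [Pi.add_apply, Pi.single_eq_same, div_mul_cancel₀ _ hi, add_sub_cancel]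
      exact one_ne_zero
    · exact hone x i hio hi
  have hne1 : eta hF U (Pi.single o (1 : F)) ≠ 1 := by
    rw [eta_single]
    intro e
    have e' := congrArg (fun g : GL D.Idx F => (g : Matrix D.Idx D.Idx F)) e
    simp only [Facts.coe_xg, Units.val_one] at e'
    have hlt : U[o.val] < D.nroots := by
      simp only [okComm, List.all_eq_true, Bool.and_eq_true, decide_eq_true_eq] at hU
      exact (hU _ (List.getElem_mem o.isLt)).1
    exact one_ne_zero ((hF.x_eq_one _ hlt 1).1 e')
  have hker : ∀ x : Fin U.length → F, eta hF U x = 1 → x = 0 := by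
    intro x hx
    by_contra h0
    obtain ⟨g, -, e⟩ := hreach x h0
    rw [hx, mul_one, mul_inv_cancel] at e
    exact hne1 e.symm
  have hinj : Function.Injective (eta hF U (F := F)) := fun x y hxy => by
    refine sub_eq_zero.1 (hker _ (mul_right_cancel (b := eta hF U y) ?_))
    rw [← eta_add hF U hU, sub_add_cancel, one_mul, hxy]
  -- the orbit
  letI act : MulAction ↥H (GL D.Idx F) :=
    { smul := fun g y => (g.1 : GL D.Idx F) * y * (g.1 : GL D.Idx F)⁻¹
      one_smul := fun y => by
        show ((1 : ↥H).1 : GL D.Idx F) * y * ((1 : ↥H).1 : GL D.Idx F)⁻¹ = y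
        simp
      mul_smul := fun g g' y => by
        show ((g * g' : ↥H).1 : GL D.Idx F) * y * ((g * g' : ↥H).1 : GL D.Idx F)⁻¹ =
          (g.1 : GL D.Idx F) * ((g'.1 : GL D.Idx F) * y * (g'.1 : GL D.Idx F)⁻¹) * (g.1 : GL D.Idx F)⁻¹
        rw [Subgroup.coe_mul, Subgroup.coe_mul]
        group }
  have hstable : ∀ g ∈ H, ∀ x : Fin U.length → F, x ≠ 0 → ∃ x', x' ≠ 0 ∧
      (g : GL D.Idx F) * eta hF U x * (g : GL D.Idx F)⁻¹ = eta hF U x' := by
    have hsub : ∀ g ∈ H, ∀ x : Fin U.length → F, ∃ x',
        (g : GL D.Idx F) * eta hF U x * (g : GL D.Idx F)⁻¹ = eta hF U x' := by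
      intro g hg
      induction hg using Subgroup.closure_induction'' with
      | one => exact fun x => ⟨x, by simp⟩
      | mem g hg =>
        obtain ⟨α, hα, t, e⟩ := hg
        exact fun x => ⟨phi (D := D) U α t x, by rw [e, eta_conj hF hU (hact α hα)]⟩
      | inv_mem g hg =>
        obtain ⟨α, hα, t, e⟩ := hg
        exact fun x => ⟨phi (D := D) U α (-t) x, by
          rw [Subgroup.coe_inv, e, ← hF.xg_neg, eta_conj hF hU (hact α hα)]⟩
      | mul g g' _ _ hg hg' =>
        intro x
        obtain ⟨x', e⟩ := hg' x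
        obtain ⟨x'', e'⟩ := hg x'
        exact ⟨x'', by rw [Subgroup.coe_mul, ← e', ← e]; group⟩
    intro g hg x hx
    obtain ⟨x', e⟩ := hsub g hg x
    refine ⟨x', fun h0 => hx (hker x ?_), e⟩
    rw [h0, eta_zero, mul_inv_eq_iff_eq_mul, one_mul] at e
    exact mul_eq_left.1 e
  have horb : MulAction.orbit ↥H (eta hF U (Pi.single o (1 : F))) =
      eta hF U '' {x : Fin U.length → F | x ≠ 0} := by
    ext y
    constructor
    · rintro ⟨g, rfl⟩
      obtain ⟨x', hx', e⟩ := hstable g.1 g.2 (Pi.single o 1) (by simp)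
      exact ⟨x', hx', e.symm⟩
    · rintro ⟨x, hx, rfl⟩
      obtain ⟨g, hg, e⟩ := hreach x hx
      refine ⟨(⟨g, hg⟩ : ↥H)⁻¹, ?_⟩
      show ((⟨g, hg⟩⁻¹ : ↥H).1 : GL D.Idx F) * _ * ((⟨g, hg⟩⁻¹ : ↥H).1 : GL D.Idx F)⁻¹ = _
      rw [← e]
      simp only [Subgroup.coe_inv]
      group
  have hcard : (MulAction.orbit ↥H (eta hF U (Pi.single o (1 : F)))).ncard = Fintype.card F ^ U.length - 1 := by
    rw [horb, Set.ncard_image_of_injective _ hinj]
    have e : {x : Fin U.length → F | x ≠ 0} = ({0}ᶜ : Set (Fin U.length → F)) := rfl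
    rw [e, Set.ncard_compl, Set.ncard_singleton, Nat.card_eq_fintype_card, Fintype.card_fun, Fintype.card_fin]
  rw [← hcard, ← Nat.card_coe_set_eq, ← Nat.card_congr (MulAction.orbitProdStabilizerEquivGroup ↥H
    (eta hF U (Pi.single o (1 : F)))), Nat.card_prod]
  exact Dvd.intro _ rfl

end Cfsg.Agent.Small.MinusculeDegree
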