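import Cfsg.Agent.Lib.Small.MinusculeDegree.Chain

/-!
A scalar read off from a second abelian radical containing the root in question.
-/

set_option autoImplicit false
set_option linter.unusedSectionVars false

namespace Cfsg.Agent.Small.MinusculeDegree

open Cfsg.Lie Cfsg.Agent.Lie Finset
open Cfsg.Agent.Small.D4Degree (wp wm wp_idem)
open scoped MatrixGroups

/-- The moves onto `b` from outside `Z` keep the positions `t` and `Z` zero. -/
def okSecond (D : ChevalleyDatum) (U L : List ℕ) (b t : Fin U.length) (Z : List (Fin U.length)) : Bool :=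
  decide (t ≠ b) && Z.all (fun i => ((adj D U L b).map Prod.fst).contains i) &&
    (adj D U L b).all fun p => Z.contains p.1 || (t :: Z).all fun i =>
      (tgt D U p.2 i).all fun k => Z.contains k.1 || decide (k.1 = t)

variable {D : ChevalleyDatum} {hF : Facts D} {F : Type*} [Field F] [Fintype F] {M : Type*} [AddCommGroup M]
  [Module ℂ M] [FiniteDimensional ℂ M] {ρ : ↥(D.group F) →* Module.End ℂ M} {U L : List ℕ}
  {E : Module.End ℂ M} {ψ : AddChar F ℂ} {a : ℕ}

theorem commute_R_P (hf : Frame hF ρ U L E) (x y : Fin U.length → F) :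
    Commute (R hF ρ U E x) (P hF ρ U ψ E y) := by
  show _ = _
  simp only [P, wp, mul_smul_comm, smul_mul_assoc, Finset.mul_sum, Finset.sum_mul, ← R_mul hf, add_comm x]

theorem second_zero (hf : Frame hF ρ U L E) (hok : okBody D U L a = true) (hψ : ψ ≠ 1)
    (hdef : Deficit hF ρ U E a) {b t : Fin U.length} {Z : List (Fin U.length)}
    (hsec : okSecond D U L b t Z = true) {c : F} (hc : c ≠ 0) {y : Fin U.length → F} (hyb : y b = c)
    (hyZ : ∀ i ∈ Z, y i = 0) (hm : mu hF ρ U ψ E y ≠ 0) : y t = 0 := by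
  classical
  simp only [okSecond, Bool.and_eq_true, decide_eq_true_eq, List.all_eq_true, List.contains_iff_mem,
    Bool.or_eq_true, Option.all_eq_true] at hsec
  obtain ⟨⟨htb, hZ⟩, hmove⟩ := hsec
  obtain ⟨hfib, -, -⟩ := (body_spec hok).2 b
  obtain ⟨-, hnd, hsp⟩ := fib_spec hfib
  obtain ⟨l, hl⟩ : ∃ l, l = (adj D U L b).filter fun p => !Z.contains p.1 := ⟨_, rfl⟩
  have hlmem : ∀ p ∈ l, p ∈ adj D U L b ∧ p.1 ∉ Z := fun p hp => by
    rw [hl, List.mem_filter] at hp
    exact ⟨hp.1, by simpa using hp.2⟩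
  let Q : (Fin U.length → F) → Prop := fun y => ∀ i ∈ t :: Z, y i = 0
  have hQ : ∀ p ∈ l, ∀ v y, Q (tau (D := D) U p.2 v y) ↔ Q y := by
    intro p hp v y
    obtain ⟨hpa, hpZ⟩ := hlmem p hp
    have key : ∀ w z, Q z → Q (tau (D := D) U p.2 w z) := by
      intro w z hz i hi
      rcases ht : tgt D U p.2 i with _ | ⟨k, x⟩
      · rw [tau_of_none ht, hz i hi]
      · have hk : k ∈ t :: Z := by
          rcases ((hmove p hpa).resolve_left hpZ) i hi (k, x) ht with h | h
          · exact List.mem_cons_of_mem _ h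
          · rw [show k = t from h]; exact List.mem_cons_self
        rw [tau_of_some ht, hz i hi, hz k hk, mul_zero, add_zero]
    refine ⟨fun h => ?_, key v y⟩
    have := key (-v) _ h
    rwa [tau_add (hf.act _ (adj_spec hpa).1), neg_add_cancel, tau_zero] at this
  have hnodup : l.Nodup := hl ▸ (adj_nodup hfib).filter _
  have hfv : ∀ p ∈ l, ∀ v y, mu hF ρ U ψ E (tau (D := D) U p.2 v y) = mu hF ρ U ψ E y := fun p hp v y =>
    mu_tau hf (adj_spec (hlmem p hp).1).1 v y
  have h1 := sum_zs hf.act hfib hc (fun _ => True) (mu hF ρ U ψ E) l (fun p hp => (hlmem p hp).1) hnodup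
    (fun _ _ _ _ => Iff.rfl) hfv
  have h2 := sum_zs hf.act hfib hc Q (mu hF ρ U ψ E) l (fun p hp => (hlmem p hp).1) hnodup hQ hfv
  obtain ⟨hbase, honly⟩ := base_eq hf hok hψ (hdef b) hc
  have hsingle : Pi.single b c ∈ zs D L b c Q [] := by
    have hZb : ∀ i ∈ t :: Z, i ≠ b := fun i hi => by
      rcases List.mem_cons.1 hi with rfl | hi
      · exact htb
      · obtain ⟨p, hp, rfl⟩ := List.mem_map.1 (hZ i hi)
        exact (hsp p hp).1
    exact Finset.mem_filter.2 ⟨Finset.mem_univ _, Pi.single_eq_same _ _,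
      fun i hi => Pi.single_eq_of_ne (hZb i hi) _, fun p hp _ => Pi.single_eq_of_ne (hsp p hp).1 _⟩
  have hsub : zs D L b c Q [] ⊆ zs D L b c (fun _ => True) [] := fun z hz => by
    obtain ⟨-, hz1, -, hz3⟩ := Finset.mem_filter.1 hz
    exact Finset.mem_filter.2 ⟨Finset.mem_univ _, hz1, trivial, hz3⟩
  rw [Finset.sum_eq_single_of_mem _ (hsub hsingle) fun z hz hne => honly z hz hne, hbase] at h1
  rw [Finset.sum_eq_single_of_mem _ hsingle fun z hz hne => honly z (hsub hz) hne, hbase] at h2
  by_contra hyt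
  have hy1 : y ∈ zs D L b c (fun _ => True) l := Finset.mem_filter.2 ⟨Finset.mem_univ _, hyb, trivial,
    fun p hp hn => hyZ _ (by
      by_contra h
      exact hn (by rw [hl, List.mem_filter]; exact ⟨hp, by simpa using h⟩))⟩
  have hy2 : y ∉ zs D L b c Q l := fun h => hyt ((Finset.mem_filter.1 h).2.2.1 t List.mem_cons_self)
  have hss : zs D L b c Q l ⊆ zs D L b c (fun _ => True) l := fun z hz => by
    obtain ⟨-, hz1, -, hz3⟩ := Finset.mem_filter.1 hz
    exact Finset.mem_filter.2 ⟨Finset.mem_univ _, hz1, trivial, hz3⟩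
  have h3 := Finset.sum_lt_sum_of_subset (f := mu hF ρ U ψ E) hss hy1 hy2 (Nat.pos_of_ne_zero hm)
    (fun _ _ _ => Nat.zero_le _)
  omega

/-- An operator supported on such weights is fixed by the root at `t`. -/
theorem scalar_second (hf : Frame hF ρ U L E) (hok : okBody D U L a = true) (hψ : ψ ≠ 1)
    (hdef : Deficit hF ρ U E a) {b t : Fin U.length} {Z : List (Fin U.length)}
    (hsec : okSecond D U L b t Z = true) {c : F} (hc : c ≠ 0) {T : Module.End ℂ M} (hT : E * T = T)
    (hb : ∀ v, R hF ρ U E (Pi.single b v) * T = ψ (c * v) • T)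
    (hz : ∀ i ∈ Z, ∀ v, R hF ρ U E (Pi.single i v) * T = T) (w : F) :
    op ρ (hF.xg U[t.val] w) * T = T := by
  classical
  have hinj : Function.Injective fun μ : F => AddChar.mulShift ψ μ :=
    AddChar.to_mulShift_inj_of_isPrimitive (AddChar.IsPrimitive.of_ne_one hψ)
  have hval : ∀ y : Fin U.length → F, ∀ i (l : F), (∀ v, R hF ρ U E (Pi.single i v) * T = ψ (l * v) • T) →
      P hF ρ U ψ E y * T ≠ 0 → y i = l := by
    intro y i l h hne
    refine hinj (DFunLike.ext _ _ fun v => ?_)
    have e1 : R hF ρ U E (Pi.single i v) * P hF ρ U ψ E y * T = ψ (y i * v) • (P hF ρ U ψ E y * T) := by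
      rw [opE_mul_P hf, dot_single, smul_mul_assoc]
    rw [(commute_R_P hf _ _).eq, mul_assoc, h v, mul_smul_comm] at e1
    rw [AddChar.mulShift_apply, AddChar.mulShift_apply]
    exact (smul_left_injective ℂ hne e1).symm
  have hsum : ∑ y, P hF ρ U ψ E y * T = T := by rw [← Finset.sum_mul, sum_P hf hψ, hT]
  calc op ρ (hF.xg U[t.val] w) * T = R hF ρ U E (Pi.single t w) * ∑ y, P hF ρ U ψ E y * T := by
        rw [hsum, R_single hf, mul_assoc, hT]
    _ = ∑ y, P hF ρ U ψ E y * T := by
        rw [Finset.mul_sum]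
        refine Finset.sum_congr rfl fun y _ => ?_
        rw [← mul_assoc, opE_mul_P hf, dot_single, smul_mul_assoc]
        by_cases hne : P hF ρ U ψ E y * T = 0
        · rw [hne, smul_zero]
        have hm : mu hF ρ U ψ E y ≠ 0 := fun h => hne (by rw [P_eq_zero hf h, zero_mul])
        rw [second_zero hf hok hψ hdef hsec hc (hval y b c hb hne)
          (fun i hi => hval y i 0 (fun v => by rw [hz i hi v, zero_mul, AddChar.map_zero_eq_one, one_smul]) hne) hm,
          zero_mul, AddChar.map_zero_eq_one, one_smul]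
    _ = T := hsum

end Cfsg.Agent.Small.MinusculeDegree
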