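import Cfsg.Agent.Lib.Small.MinusculeDegree.Chain
import Cfsg.Agent.Lib.Small.MinusculeDegree.Orbit
import Cfsg.Agent.Lib.Small.MinusculeDegree.Second
import Cfsg.Agent.Lib.Small.MinusculeDegree.Arith
import Cfsg.Agent.Lib.Lie.FactsE6
import Cfsg.Agent.Lib.Lie.WeylE6
import Cfsg.Agent.Lib.Lie.GroupCard
import Cfsg.Agent.Lib.Lie.TorusCerts
import Cfsg.Agent.Lib.Lie.Perfect
import Cfsg.Agent.Lib.Lie.Simple
import Cfsg.Agent.Lib.Char.Central
import Cfsg.Agent.Lib.Char.Burnside

/-!
The minimal degree of the nontrivial complex representations of E₆(q).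
-/

set_option autoImplicit false
set_option maxRecDepth 4000
set_option linter.unusedSectionVars false

namespace Cfsg.Agent.Small.MinusculeDegree.E6

open Cfsg.Lie Cfsg.Agent.Lie
open scoped MatrixGroups

/-- All roots. -/
def R0 : List ℕ := List.range 72
/-- The radical and the Levi roots of the first level. -/
def U0 : List ℕ := [71, 70, 69, 68, 66, 65, 63, 60, 55, 54, 52, 49, 45, 41, 38, 36]
@[inherit_doc U0] def L0 : List ℕ := [4, 7, 9, 10, 12, 13, 14, 15, 18, 20, 21, 23, 24, 25, 27, 28, 29, 31, 32, 34, 37, 39, 40, 42, 43, 44, 46, 47, 48, 50, 51, 53, 56, 57, 58, 59, 61, 62, 64, 67]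
/-- The D₅ level. -/
def U1 : List ℕ := [67, 64, 62, 59, 53, 51, 48, 44, 40, 37]
@[inherit_doc U1] def L1 : List ℕ := [10, 13, 14, 15, 21, 24, 25, 28, 29, 32, 39, 42, 43, 46, 47, 50, 56, 57, 58, 61]
/-- The A₄ level. -/
def U2 : List ℕ := [61, 50, 47, 46]
@[inherit_doc U2] def L2 : List ℕ := [13, 14, 15, 28, 29, 32, 39, 42, 43, 56, 57, 58]
/-- The A₃ level. -/
def U3 : List ℕ := [58, 43, 39]
@[inherit_doc U3] def L3 : List ℕ := [14, 15, 29, 42, 56, 57]
/-- The A₂ level. -/
def U4 : List ℕ := [57, 42]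
@[inherit_doc U4] def L4 : List ℕ := [15, 56]
/-- The A₁ level. -/
def U5 : List ℕ := [56]

/-- A second radical through the roots 59 and 61. -/
def U0' : List ℕ := [67, 64, 61, 62, 58, 59, 57, 56, 33, 35, 30, 22, 26, 19, 16, 17]
@[inherit_doc U0'] def L0' : List ℕ := [0, 1, 3, 2, 6, 5, 8, 11, 18, 21, 20, 28, 27, 29, 24, 23, 25, 32, 31, 37, 34, 40, 39, 46, 48, 47, 42, 44, 43, 51, 50, 53, 60, 63, 66, 65, 69, 68, 70, 71]

/-- The torus elements. -/
def ks : List (List ℤ) := [[1, 0, 0, 0, 0, 1], [-1, 1, 0, 0, 0, 0], [1, 0, 1, 1, 0, 0]]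

theorem inR0 : [U0, L0].all (fun l => l.all fun r => R0.contains r) = true := by decide +kernel
theorem inL0 : [U1, L1].all (fun l => l.all fun r => L0.contains r) = true := by decide +kernel
theorem inL1 : [U2, L2].all (fun l => l.all fun r => L1.contains r) = true := by decide +kernel
theorem inL2 : [U3, L3].all (fun l => l.all fun r => L2.contains r) = true := by decide +kernel
theorem inL3 : [U4, L4].all (fun l => l.all fun r => L3.contains r) = true := by decide +kernel
theorem inR0' : [U0', L0'].all (fun l => l.all fun r => R0.contains r) = true := by decide +kernel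
theorem inL4 : U5.all (fun r => L4.contains r) = true := by decide +kernel

theorem ok0 : okLevel chevE6 U0 L0 10 = true ∧ okTrace chevE6 U0 L0 67 = true ∧
    okScal chevE6 U0 L0 67 false [] = true ∧ okClimb chevE6 [0, 1, 2, 3, 4] L0 67 = true := by decide +kernel
theorem ok1 : okLevel chevE6 U1 L1 6 = true ∧ okTrace chevE6 U1 L1 61 = true ∧
    okScal chevE6 U1 L1 61 true ks = true ∧ okClimb chevE6 [0, 1, 2, 3] L1 61 = true := by decide +kernel
theorem ok2 : okLevel chevE6 U2 L2 3 = true ∧ okTrace chevE6 U2 L2 58 = true ∧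
    okScal chevE6 U2 L2 58 true ks = true ∧ okClimb chevE6 [0, 2, 3] L2 58 = true := by decide +kernel
theorem ok3 : okLevel chevE6 U3 L3 2 = true ∧ okTrace chevE6 U3 L3 57 = true ∧
    okScal chevE6 U3 L3 57 true ks = true ∧ okClimb chevE6 [0, 2] L3 57 = true := by decide +kernel
theorem ok4 : okLevel chevE6 U4 L4 1 = true ∧ okTrace chevE6 U4 L4 56 = true ∧
    okScal chevE6 U4 L4 56 true ks = true ∧ okClimb chevE6 [0] L4 56 = true := by decide +kernel
theorem ok0' : okLevel chevE6 U0' L0' 10 = true ∧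
    okSecond chevE6 U0' L0' ⟨5, by decide⟩ ⟨2, by decide⟩ [⟨0, by decide⟩, ⟨1, by decide⟩, ⟨3, by decide⟩] = true := by
  decide +kernel
theorem okRest : (List.finRange U1.length).all (fun r => movedAt chevE6 U1 61 r || okScalar chevE6 U1 L1 61 r ||
    decide (r.val = 3)) = true := by decide +kernel
theorem ok5 : okLevel chevE6 U5 [] 0 = true := by decide +kernel
theorem okTop0 : okClimb chevE6 [0, 1, 2, 3, 4, 5] R0 71 = true ∧ chevE6.cartan 1 71 = 1 ∧
    (List.range 6).all (fun j => decide (j = 1) || decide (chevE6.cartan j 71 = 0)) = true := by decide +kernel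
theorem adj01 : ((adj chevE6 U0 L0 ⟨1, by decide⟩).any fun p => decide (p.1 = ⟨0, by decide⟩)) = true := by
  decide +kernel

/-- The later moves of the positions, and those moved by the top root. -/
def shape (U L : List ℕ) (s : ℕ) : List (ℕ × Bool) :=
  (List.finRange U.length).map fun r => (later chevE6 U L r, !movedAt chevE6 U s r)

theorem shapes : shape U0 L0 67 = [(10, false), (9, false), (8, false), (7, false), (7, true), (6, true), (5, true),
      (4, true), (6, true), (5, true), (4, true), (3, true), (3, true), (2, true), (1, true), (0, true)] ∧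
    shape U1 L1 61 = [(6, false), (5, false), (4, false), (3, true), (4, true), (3, true), (2, true), (2, true),
      (1, true), (0, true)] ∧
    shape U2 L2 58 = [(3, false), (2, true), (1, true), (0, true)] ∧
    shape U3 L3 57 = [(2, false), (1, true), (0, true)] ∧
    shape U4 L4 56 = [(1, false), (0, true)] ∧ shape U5 [] 56 = [(0, true)] := by decide +kernel

theorem cellSum_all (U L : List ℕ) (s q : ℕ) :
    cellSum chevE6 U L q (fun _ => true) = ((shape U L s).map fun p => (q - 1) * q ^ p.1).sum := by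
  simp [cellSum, shape, Function.comp_def]

theorem cellSum_keep (U L : List ℕ) (s q : ℕ) :
    cellSum chevE6 U L q (fun r => !movedAt chevE6 U s r) =
      (((shape U L s).filter fun p => p.2).map fun p => (q - 1) * q ^ p.1).sum := by
  simp [cellSum, shape, Function.comp_def, List.filter_map]

variable {F : Type*} [Field F] [Fintype F]

/-- The centraliser roots of the top element. -/
def A0 : List ℕ := [12, 13, 14, 15, 27, 28, 29, 31, 32, 34, 37, 39, 40, 42, 43, 44, 56, 57, 58, 59]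
/-- Their natural radical. -/
def UA : List ℕ := [60, 45, 41, 38, 36]

theorem okNat : okNatural chevE6 UA A0 = true := by decide +kernel

theorem A0_comm : A0.all (fun r => decide (r ≠ 71) && decide (71 ≠ chevE6.neg r) && decide (r < chevE6.nroots) &&
    decide (chevE6.commTerms r 71 = [])) = true := by decide +kernel

theorem ord_dvd {q : ℕ} (hq : Fintype.card F = q) : Nat.card ↥(chevE6.group F) ∣ ord q := by
  have hg := factsE6.card_group (F := F) hq kerCertE6 [2, 5, 6, 8, 9, 12] rfl lenSumE6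
  refine Dvd.intro_left (∏ a, Nat.gcd ((![3] : Fin 1 → ℕ) a) (q - 1)) (hg.trans ?_)
  rw [ord, show chevE6.nroots / 2 = 36 from rfl]
  simp only [List.map_cons, List.map_nil, List.prod_cons, List.prod_nil, mul_one, mul_assoc]

/-- The root element in the group. -/
noncomputable def root (F : Type*) [Field F] (r : ℕ) (t : F) : ↥(chevE6.group F) :=
  ⟨factsE6.xg r t, factsE6.xg_mem_group r t⟩

theorem cent_dvd {q : ℕ} (hq : Fintype.card F = q) :
    q ^ 5 - 1 ∣ Nat.card (Subgroup.centralizer ({root F 71 1} : Set ↥(chevE6.group F))) := by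
  have h := pow_sub_one_dvd factsE6 (F := F) okNat
  rw [hq] at h
  refine h.trans (Subgroup.card_dvd_of_le ((Subgroup.closure_le _).2 ?_))
  rintro g ⟨α, hα, t, e⟩
  rw [SetLike.mem_coe, Subgroup.mem_centralizer_iff]
  intro y hy
  rw [Set.mem_singleton_iff] at hy
  subst hy
  have hh := A0_comm
  simp only [List.all_eq_true, Bool.and_eq_true, decide_eq_true_eq] at hh
  obtain ⟨⟨⟨h1, h2⟩, h3⟩, h4⟩ := hh α hα
  have key := (factsE6.tsys F).x_comm α 71 h3 (by decide) h1.symm h2 t 1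
  simp only [factsE6.tsys_x, ChevalleyDatum.commWord, h4, List.map_nil, List.prod_nil, mul_one] at key
  apply Subtype.ext
  rw [Subgroup.coe_mul, Subgroup.coe_mul, e]
  exact key

theorem sum_split (q : ℕ) (hq : 2 ≤ q) :
    cellSum chevE6 U0 L0 q (fun _ => true) + q * q ^ 6 =
      cellSum chevE6 U0 L0 q (fun r => !movedAt chevE6 U0 67 r) + q * q ^ 10 ∧
    cellSum chevE6 U1 L1 q (fun _ => true) + q * q ^ 3 =
      cellSum chevE6 U1 L1 q (fun r => !movedAt chevE6 U1 61 r) + q * q ^ 6 ∧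
    cellSum chevE6 U2 L2 q (fun _ => true) + q * q ^ 2 =
      cellSum chevE6 U2 L2 q (fun r => !movedAt chevE6 U2 58 r) + q * q ^ 3 ∧
    cellSum chevE6 U3 L3 q (fun _ => true) + q * q ^ 1 =
      cellSum chevE6 U3 L3 q (fun r => !movedAt chevE6 U3 57 r) + q * q ^ 2 ∧
    cellSum chevE6 U4 L4 q (fun _ => true) + q * q ^ 0 =
      cellSum chevE6 U4 L4 q (fun r => !movedAt chevE6 U4 56 r) + q * q ^ 1 ∧
    cellSum chevE6 U0 L0 q (fun _ => true) + cellSum chevE6 U1 L1 q (fun _ => true) +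
      cellSum chevE6 U2 L2 q (fun _ => true) + cellSum chevE6 U3 L3 q (fun _ => true) +
      cellSum chevE6 U4 L4 q (fun _ => true) + cellSum chevE6 U5 [] q (fun _ => true) + 6 = bound q ∧
    (q = 2 → cellSum chevE6 U0 L0 q (fun _ => true) + cellSum chevE6 U1 L1 q (fun _ => true) +
      cellSum chevE6 U2 L2 q (fun _ => true) = 2465) := by
  obtain ⟨h0, h1, h2, h3, h4, h5⟩ := shapes
  rw [cellSum_all U0 L0 67, cellSum_keep U0 L0 67, cellSum_all U1 L1 61, cellSum_keep U1 L1 61,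
    cellSum_all U2 L2 58, cellSum_keep U2 L2 58, cellSum_all U3 L3 57, cellSum_keep U3 L3 57,
    cellSum_all U4 L4 56, cellSum_keep U4 L4 56, cellSum_all U5 [] 56, h0, h1, h2, h3, h4, h5]
  obtain ⟨n, rfl⟩ : ∃ n, q = n + 1 := ⟨q - 1, by omega⟩
  simp only [List.map_cons, List.map_nil, List.sum_cons, List.sum_nil, List.filter_cons, List.filter_nil,
    Nat.add_sub_cancel, bound, Bool.false_eq_true, if_false, if_true]
  refine ⟨by ring, by ring, by ring, by ring, by ring, by ring, fun h => ?_⟩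
  obtain rfl : n = 1 := by omega
  norm_num

theorem mem_of {L R : List ℕ} (h : L.all (fun r => R.contains r) = true) : ∀ r ∈ L, r ∈ R := by
  simpa [List.all_eq_true] using h

/-- The omega values exclude the two coincidences of degrees. -/
theorem excluded {k : ℕ} (ρ : Representation ℂ ↥(chevE6.group F) (Fin k → ℂ)) (hirr : ρ.IsIrreducible) (hk : 2 ≤ k)
    (hst0 : St factsE6 ρ R0 10 (1 : Module.End ℂ (Fin k → ℂ))) :
    (Fintype.card F = 2 ∧ k = bound 2 - 2) ∨ (Fintype.card F = 4 ∧ k = bound 4 - 4) → False := by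
  classical
  have htrone : LinearMap.trace ℂ (Fin k → ℂ) (1 : Module.End ℂ (Fin k → ℂ)) = (k : ℂ) := by
    rw [LinearMap.trace_one, Module.finrank_fin_fun]
  intro hcase
  obtain ⟨z, hz⟩ := Cfsg.Agent.Char.isIntegral_rat_cast_imp
    (q := (Nat.card {x : ↥(chevE6.group F) // IsConj (root F 71 1) x} : ℚ) *
      ((k : ℚ) - (Fintype.card F : ℚ) ^ 11) / k) (by
    have h := Cfsg.Agent.Char.omega_isIntegral (Cfsg.Agent.Char.isIrrCharacter_character ρ hirr) (root F 71 1)
    rw [Cfsg.Agent.Char.omega, Representation.char_one, Module.finrank_fin_fun] at h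
    have hchar : ρ.character (root F 71 1) = (k : ℂ) - (Fintype.card F : ℂ) ^ 11 := by
      have h71 := hst0.deficit 71 (by simp [R0]) (1 : F) one_ne_zero
      rw [htrone, mul_one, op_of_mem ρ (factsE6.xg_mem_group _ _)] at h71
      refine h71.trans ?_
      push_cast
      ring
    rw [hchar] at h
    push_cast
    exact h)
  have hk0 : (k : ℚ) ≠ 0 := by exact_mod_cast (by omega : k ≠ 0)
  rw [eq_div_iff hk0] at hz
  have hzint : (z : ℤ) * k = (Nat.card {x : ↥(chevE6.group F) // IsConj (root F 71 1) x} : ℤ) *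
      ((k : ℤ) - (Fintype.card F : ℤ) ^ 11) := by exact_mod_cast hz
  have hk31 : 31 ∣ k := by
    rcases hcase with ⟨-, h2⟩ | ⟨-, h2⟩ <;> rw [h2] <;> decide +kernel
  have hn31 : ¬ 31 ∣ Nat.card {x : ↥(chevE6.group F) // IsConj (root F 71 1) x} := by
    intro h
    have h1 : 31 ∣ Nat.card (Subgroup.centralizer ({root F 71 1} : Set ↥(chevE6.group F))) := by
      refine dvd_trans ?_ (cent_dvd rfl)
      rcases hcase with ⟨hq, -⟩ | ⟨hq, -⟩ <;> rw [hq] <;> decide +kernel
    have h2 : 31 * 31 ∣ ord (Fintype.card F) := by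
      refine dvd_trans ?_ (ord_dvd (F := F) rfl)
      rw [← Cfsg.Agent.Char.card_conjClass_mul_centralizer (root F 71 1)]
      exact Nat.mul_dvd_mul h h1
    rcases hcase with ⟨hq, -⟩ | ⟨hq, -⟩ <;> rw [hq] at h2 <;> revert h2 <;> decide +kernel
  have hp : Prime (31 : ℤ) := Int.prime_iff_natAbs_prime.2 (by norm_num)
  have hl : (31 : ℤ) ∣ (Nat.card {x : ↥(chevE6.group F) // IsConj (root F 71 1) x} : ℤ) *
      ((k : ℤ) - (Fintype.card F : ℤ) ^ 11) := hzint ▸ Dvd.dvd.mul_left (by exact_mod_cast hk31) z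
  rcases hp.dvd_or_dvd hl with h | h
  · exact hn31 (by exact_mod_cast h)
  · have h' : (31 : ℤ) ∣ (Fintype.card F : ℤ) ^ 11 := by
      have := (Int.natCast_dvd_natCast.2 hk31).sub h
      simpa using this
    rcases hcase with ⟨hq, -⟩ | ⟨hq, -⟩ <;> rw [hq] at h' <;> norm_num at h'

theorem scalar_two [DecidableEq F] {k : ℕ} {ρ : Representation ℂ ↥(chevE6.group F) (Fin k → ℂ)} {ψ : AddChar F ℂ}
    {E : Module.End ℂ (Fin k → ℂ)} (hst0 : St factsE6 ρ R0 10 (1 : Module.End ℂ (Fin k → ℂ))) (hψ : ψ ≠ 1)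
    (hf : Frame factsE6 ρ U1 L1 E) (r : Fin U1.length) (hr : movedAt chevE6 U1 61 r = false) (c : F) (hc : c ≠ 0)
    (h1 : mu factsE6 ρ U1 ψ E (Pi.single r c) = 1) (w : F) :
    op ρ (factsE6.xg 61 w) * P factsE6 ρ U1 ψ E (Pi.single r c) = P factsE6 ρ U1 ψ E (Pi.single r c) := by
  have h := okRest
  simp only [List.all_eq_true, Bool.or_eq_true, decide_eq_true_eq] at h
  rcases h r (List.mem_finRange r) with (h' | h') | h'
  · rw [hr] at h'; exact absurd h' Bool.false_ne_true
  · exact scalar_comm hf h' h1 w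
  obtain rfl : r = ⟨3, by decide⟩ := Fin.ext h'
  have hin : ∀ l ∈ [U0', L0'], ∀ x ∈ l, x ∈ R0 := fun l hl => mem_of ((List.all_eq_true.1 inR0') l hl)
  have hf' := hst0.frame (U := U0') (L := L0') (hin U0' (by simp)) (hin L0' (by simp)) ok0'.1
  have key : ∀ (j : Fin U1.length) (v : F), op ρ (factsE6.xg U1[j.val] v) *
      P factsE6 ρ U1 ψ E (Pi.single ⟨3, by decide⟩ c) =
        ψ ((Pi.single (⟨3, by decide⟩ : Fin U1.length) c : Fin U1.length → F) j * v) •
          P factsE6 ρ U1 ψ E (Pi.single ⟨3, by decide⟩ c) := by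
    intro j v
    rw [← dot_single, ← opE_mul_P hf, R_single hf, mul_assoc, E_mul_P hf]
  refine scalar_second hf' (level_body ok0'.1) hψ
    (fun i v hv => hst0.deficit _ (hin U0' (by simp) _ (List.getElem_mem i.isLt)) v hv) ok0'.2 hc (one_mul _)
    (fun v => ?_) (fun i hi v => ?_) w
  · rw [R_single hf', mul_one]
    have h := key ⟨3, by decide⟩ v
    rw [Pi.single_eq_same] at h
    exact h
  · rw [R_single hf', mul_one]
    have hi' : ∃ j : Fin U1.length, j ≠ ⟨3, by decide⟩ ∧ U1[j.val] = U0'[i.val] := by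
      simp only [List.mem_cons, List.not_mem_nil, or_false] at hi
      rcases hi with rfl | rfl | rfl
      · exact ⟨⟨0, by decide⟩, by decide, rfl⟩
      · exact ⟨⟨1, by decide⟩, by decide, rfl⟩
      · exact ⟨⟨2, by decide⟩, by decide, rfl⟩
    obtain ⟨j, hj, hU⟩ := hi'
    rw [← hU, key j v, Pi.single_eq_of_ne hj, zero_mul, AddChar.map_zero_eq_one, one_smul]

theorem two_case {k : ℕ} (ρ : Representation ℂ ↥(chevE6.group F) (Fin k → ℂ)) (hirr : ρ.IsIrreducible) (hk : 2 ≤ k)
    {ψ : AddChar F ℂ} (hψ : ψ ≠ 1) (hst0 : St factsE6 ρ R0 10 (1 : Module.End ℂ (Fin k → ℂ)))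
    (hdvd : k ∣ ord (Fintype.card F)) (h2 : Fintype.card F = 2) (hlt' : k < bound (Fintype.card F)) : False := by
  classical
  obtain ⟨s0, s1, -, -, -, -, stwo⟩ := sum_split (Fintype.card F) Fintype.one_lt_card
  have hset : ∀ {B : List (List ℕ)} {R : List ℕ}, B.all (fun l => l.all fun r => R.contains r) = true →
      ∀ l ∈ B, ∀ r ∈ l, r ∈ R := fun h l hl => mem_of ((List.all_eq_true.1 h) l hl)
  obtain ⟨st1, e0⟩ := hst0.step hψ (U := U0) (L := L0) (hset inR0 U0 (by simp)) (hset inR0 L0 (by simp)) ok0.1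
    ok0.2.1 ok0.2.2.1 (fun h => absurd h Bool.false_ne_true) ok0.2.2.2 s0
  obtain ⟨st2, e1⟩ := st1.step' hψ (U := U1) (L := L1) (hset inL0 U1 (by simp)) (hset inL0 L1 (by simp)) ok1.1
    ok1.2.1 ok1.2.2.2
    (scalar_two hst0 hψ (st1.frame (hset inL0 U1 (by simp)) (hset inL0 L1 (by simp)) ok1.1)) s1
  obtain ⟨m, hm, hle⟩ := st2.last hψ (U := U2) (L := L2) (hset inL1 U2 (by simp)) (hset inL1 L2 (by simp)) ok2.1
  rw [LinearMap.trace_one, Module.finrank_fin_fun, e1, hm] at e0
  have e : k = m + cellSum chevE6 U1 L1 (Fintype.card F) (fun _ => true) +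
      cellSum chevE6 U0 L0 (Fintype.card F) (fun _ => true) := by exact_mod_cast e0
  have := stwo h2
  rw [h2] at hdvd hlt'
  have hb : bound 2 = 2482 := by decide +kernel
  have h := two_ok
  simp only [List.all_eq_true, Bool.or_eq_true, decide_eq_true_eq, Bool.not_eq_true', beq_eq_false_iff_ne,
    List.mem_range] at h
  rcases h (bound 2 - k - 1) (by omega) with h' | h'
  · exact excluded ρ hirr hk hst0 (Or.inl ⟨h2, by omega⟩)
  · rw [show bound 2 - (bound 2 - k - 1 + 1) = k by omega] at h'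
    exact h' (Nat.mod_eq_zero_of_dvd hdvd)

/-- The bound for fields with at least three elements. -/
theorem big_case {k : ℕ} (ρ : Representation ℂ ↥(chevE6.group F) (Fin k → ℂ)) (hirr : ρ.IsIrreducible) (hk : 2 ≤ k)
    {ψ : AddChar F ℂ} (hψ : ψ ≠ 1) (hst0 : St factsE6 ρ R0 10 (1 : Module.End ℂ (Fin k → ℂ)))
    (hdvd : k ∣ ord (Fintype.card F)) (h3 : 3 ≤ Fintype.card F) (hlt' : k < bound (Fintype.card F)) : False := by
  classical
  obtain ⟨s0, s1, s2, s3, s4, stot, -⟩ := sum_split (Fintype.card F) Fintype.one_lt_card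
  have hset : ∀ {B : List (List ℕ)} {R : List ℕ}, B.all (fun l => l.all fun r => R.contains r) = true →
      ∀ l ∈ B, ∀ r ∈ l, r ∈ R := fun h l hl => mem_of ((List.all_eq_true.1 h) l hl)
  obtain ⟨st1, e0⟩ := hst0.step hψ (U := U0) (L := L0) (hset inR0 U0 (by simp)) (hset inR0 L0 (by simp)) ok0.1
    ok0.2.1 ok0.2.2.1 (fun h => absurd h Bool.false_ne_true) ok0.2.2.2 s0
  obtain ⟨st2, e1⟩ := st1.step hψ (U := U1) (L := L1) (hset inL0 U1 (by simp)) (hset inL0 L1 (by simp)) ok1.1
    ok1.2.1 ok1.2.2.1 (fun _ => h3) ok1.2.2.2 s1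
  obtain ⟨st3, e2⟩ := st2.step hψ (U := U2) (L := L2) (hset inL1 U2 (by simp)) (hset inL1 L2 (by simp)) ok2.1
    ok2.2.1 ok2.2.2.1 (fun _ => h3) ok2.2.2.2 s2
  obtain ⟨st4, e3⟩ := st3.step hψ (U := U3) (L := L3) (hset inL2 U3 (by simp)) (hset inL2 L3 (by simp)) ok3.1
    ok3.2.1 ok3.2.2.1 (fun _ => h3) ok3.2.2.2 s3
  obtain ⟨st5, e4⟩ := st4.step hψ (U := U4) (L := L4) (hset inL3 U4 (by simp)) (hset inL3 L4 (by simp)) ok4.1
    ok4.2.1 ok4.2.2.1 (fun _ => h3) ok4.2.2.2 s4
  obtain ⟨m, hm, hle⟩ := st5.last hψ (U := U5) (L := []) (mem_of inL4) (fun _ h => absurd h List.not_mem_nil) ok5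
  rw [LinearMap.trace_one, Module.finrank_fin_fun, e1, e2, e3, e4, hm] at e0
  have e : k = m + cellSum chevE6 U4 L4 (Fintype.card F) (fun _ => true) +
      cellSum chevE6 U3 L3 (Fintype.card F) (fun _ => true) +
      cellSum chevE6 U2 L2 (Fintype.card F) (fun _ => true) +
      cellSum chevE6 U1 L1 (Fintype.card F) (fun _ => true) +
      cellSum chevE6 U0 L0 (Fintype.card F) (fun _ => true) := by exact_mod_cast e0
  obtain ⟨p, hp, a, ha⟩ := FiniteField.card' F
  refine not_dvd (q := Fintype.card F) ha.1 ha.2 (by omega) (k := bound (Fintype.card F) - k) (by omega) (by omega) ?_ ?_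
  · rintro (⟨hq, hk'⟩ | ⟨hq, hk'⟩) <;> rw [hq] at hk' hlt'
    · omega
    · exact excluded ρ hirr hk hst0 (Or.inr ⟨hq, by omega⟩)
  · rw [show bound (Fintype.card F) - (bound (Fintype.card F) - k) = k by omega]
    exact hdvd

theorem bound_le_twice {q : ℕ} (hq : 2 ≤ q) : bound q ≤ 2 * ((q - 1) * (q ^ 10 + q ^ (10 - 1))) := by
  have h : (q - 1) * (q ^ 10 + q ^ 9) + q ^ 9 = q ^ 11 := by
    obtain ⟨n, rfl⟩ : ∃ n, q = n + 1 := ⟨q - 1, by omega⟩
    rw [Nat.add_sub_cancel]; ring
  have hm : ∀ a b : ℕ, a ≤ b → q ^ a ≤ q ^ b := fun a b h => Nat.pow_le_pow_right (by omega) h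
  have h4 : 4 ≤ q * q := Nat.mul_le_mul hq hq
  have e9 : 4 * q ^ 9 ≤ q ^ 11 := by
    calc 4 * q ^ 9 ≤ q * q * q ^ 9 := Nat.mul_le_mul_right _ h4
      _ = q ^ 11 := by ring
  have e7 : 4 * q ^ 7 ≤ q ^ 9 := by
    calc 4 * q ^ 7 ≤ q * q * q ^ 7 := Nat.mul_le_mul_right _ h4
      _ = q ^ 9 := by ring
  have := hm 8 9 (by omega)
  have := hm 5 7 (by omega)
  have := hm 4 7 (by omega)
  have : q ^ 1 ≤ q ^ 7 := hm 1 7 (by omega)
  rw [pow_one] at this
  rw [show (10 : ℕ) - 1 = 9 from rfl, bound]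
  linarith

theorem main {k : ℕ} (ρ : Representation ℂ ↥(chevE6.group F) (Fin k → ℂ)) (hirr : ρ.IsIrreducible) (hk : 2 ≤ k) :
    bound (Fintype.card F) ≤ k := by
  classical
  obtain ⟨q, hq⟩ : ∃ q, Fintype.card F = q := ⟨_, rfl⟩
  have hq2 : 2 ≤ q := hq ▸ Fintype.one_lt_card
  haveI hsimple := (factsE6.isSimple (F := F) okConnE6 (perfect_big factsE6 okPerfE6) (by decide)).1
  have hinj : Function.Injective ρ := by
    refine (MonoidHom.ker_eq_bot_iff _).1
      ((IsSimpleGroup.eq_bot_or_eq_top_of_normal (MonoidHom.ker ρ) inferInstance).resolve_right fun htop => ?_)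
    have htriv : ∀ g, ρ g = 1 := fun g => MonoidHom.mem_ker.1 (htop ▸ Subgroup.mem_top g)
    haveI : Nonempty (Fin k) := ⟨⟨0, by omega⟩⟩
    obtain ⟨v, hv⟩ := exists_ne (0 : Fin k → ℂ)
    let W : Subrepresentation ρ := ⟨Submodule.span ℂ {v}, fun g x hx => by rw [htriv]; exact hx⟩
    haveI := hirr
    rcases eq_bot_or_eq_top W with h | h
    · have h1 : (Submodule.span ℂ {v} : Submodule ℂ (Fin k → ℂ)) = ⊥ := congrArg Subrepresentation.toSubmodule h
      exact hv (by simpa using h1)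
    · have h1 : (Submodule.span ℂ {v} : Submodule ℂ (Fin k → ℂ)) = ⊤ := congrArg Subrepresentation.toSubmodule h
      have h2 := finrank_span_singleton (K := ℂ) hv
      rw [h1, finrank_top, Module.finrank_fin_fun] at h2
      omega
  obtain ⟨ψ, hψ⟩ : ∃ ψ : AddChar F ℂ, ψ ≠ 1 :=
    Fintype.exists_ne_of_one_lt_card (by rw [AddChar.card_eq]; exact Fintype.one_lt_card) 1
  -- every root element has the trace of the top one
  obtain ⟨hclimb, hc71, hc0⟩ := okTop0
  obtain ⟨hnodes, hroots⟩ := climb_spec hclimb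
  set τ := LinearMap.trace ℂ (Fin k → ℂ) (op ρ (factsE6.xg 71 (1 : F)) * 1) with hτ
  have htr : ∀ r ∈ R0, ∀ v : F, v ≠ 0 → LinearMap.trace ℂ (Fin k → ℂ) (op ρ (factsE6.xg r v) * 1) = τ := by
    intro r hr v hv
    obtain ⟨v', hv', he⟩ := trace_climb (hF := factsE6) (ρ := ρ) hnodes (fun _ _ _ => Commute.one_right _)
      _ r (hroots r hr).1 (hroots r hr).2 v hv
    rw [he, hτ]
    obtain ⟨c, hc⟩ : ∃ c : Fin chevE6.rank → Fˣ, c = Pi.mulSingle ⟨1, by decide⟩ (Units.mk0 v' hv') := ⟨_, rfl⟩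
    have hchar : torChar chevE6 c 71 = Units.mk0 v' hv' := by
      rw [torChar, Finset.prod_eq_single (⟨1, by decide⟩ : Fin chevE6.rank) (fun j _ hj => ?_)
        (fun h => absurd (Finset.mem_univ _) h), hc, Pi.mulSingle_eq_same]
      · rw [show chevE6.cartan (⟨1, by decide⟩ : Fin chevE6.rank).val 71 = 1 from hc71, zpow_one]
      · rw [hc, Pi.mulSingle_eq_of_ne hj, one_zpow]
    have h := trace_conj (E := (1 : Module.End ℂ (Fin k → ℂ))) ρ (factsE6.torus_mem_group c)
      (factsE6.xg_mem_group 71 (1 : F)) (Commute.one_right _)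
    rw [factsE6.torus_conj c (by decide), hchar, Units.val_mk0, mul_one] at h
    simpa using h
  have hR0 : ∀ r ∈ U0, r ∈ R0 := mem_of (by simpa using (List.all_eq_true.1 inR0) U0 (by simp))
  have hL0R : ∀ r ∈ L0, r ∈ R0 := mem_of (by simpa using (List.all_eq_true.1 inR0) L0 (by simp))
  have hf0 : Frame factsE6 ρ U0 L0 (1 : Module.End ℂ (Fin k → ℂ)) :=
    ⟨one_mul _, hom_of_okComm (level_spec ok0.1).1 (one_mul _) (fun _ _ _ => Commute.one_right _),
      lt_of_okComm (level_spec ok0.1).1, (level_spec ok0.1).2.1, fun _ _ _ => Commute.one_right _,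
      fun _ _ _ => Commute.one_right _⟩
  obtain ⟨j, hj, hj0, hj2⟩ := first_deficit hf0 (level_body ok0.1) hψ
    (fun r v hv => htr _ (hR0 _ (List.getElem_mem r.isLt)) v hv) (⟨0, by decide⟩ : Fin U0.length)
  have htrone : LinearMap.trace ℂ (Fin k → ℂ) (1 : Module.End ℂ (Fin k → ℂ)) = (k : ℂ) := by
    rw [LinearMap.trace_one, Module.finrank_fin_fun]
  have hdim : ∑ y, mu factsE6 ρ U0 ψ 1 y = k := by
    have h := trace_E hf0 hψ
    rw [htrone] at h
    exact_mod_cast h.symm
  have hj1 : j ≠ 0 := by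
    intro h0
    have h := hj0 h0 ⟨0, by decide⟩
    rw [mul_one, op_of_mem ρ (factsE6.xg_mem_group _ _), ← map_one ρ] at h
    have h' := congrArg (fun g : ↥(chevE6.group F) => ((g : GL chevE6.Idx F) : Matrix chevE6.Idx chevE6.Idx F)) (hinj h)
    simp only [Facts.coe_xg, Subgroup.coe_one, Units.val_one] at h'
    exact one_ne_zero ((factsE6.x_eq_one _ (by decide) 1).1 h')
  rw [hq] at hj hj2 ⊢
  rcases Nat.lt_or_ge j 2 with hlt | hge
  swap
  · obtain ⟨p, hp, hpr⟩ : ∃ p ∈ adj chevE6 U0 L0 (⟨1, by decide⟩ : Fin U0.length), p.1 = ⟨0, by decide⟩ := by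
      simpa using adj01
    have h := hj2 ⟨1, by decide⟩ (Nat.zero_lt_one) ⟨p, hp, hpr⟩
    rw [hdim] at h
    exact (bound_le_twice hq2).trans ((Nat.mul_le_mul_right _ hge).trans h)
  obtain rfl : j = 1 := by omega
  rw [mul_one] at hj
  have hst0 : St factsE6 ρ R0 10 (1 : Module.End ℂ (Fin k → ℂ)) := by
    refine ⟨one_mul _, fun _ _ _ => Commute.one_right _, fun _ => Commute.one_right _, fun r hr v hv => ?_⟩
    rw [htr r hr v hv, hq, ← hj]
    ring
  subst hq
  have hdvd : k ∣ ord (Fintype.card F) := by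
    refine dvd_trans ?_ (ord_dvd rfl)
    have h := Cfsg.Agent.Char.deg_dvd_card (Cfsg.Agent.Char.isIrrCharacter_character ρ hirr)
    rwa [Cfsg.Agent.Char.deg_character, Module.finrank_fin_fun] at h
  by_contra hlt'
  rcases Nat.lt_or_ge (Fintype.card F) 3 with h2 | h3
  · exact two_case ρ hirr hk hψ hst0 hdvd (by omega) (not_le.1 hlt')
  · exact big_case ρ hirr hk hψ hst0 hdvd h3 (not_le.1 hlt')

end Cfsg.Agent.Small.MinusculeDegree.E6
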