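import Cfsg.Agent.Lib.Small.MinusculeDegree.E8Small

/-!
The numbers just below q(q¹² + 1)(q¹⁰ + 1)(q⁶ + 1) dividing the order of E₈(q).
-/

set_option autoImplicit false
set_option linter.unusedVariables false
set_option linter.style.longLine false
set_option maxHeartbeats 1000000

namespace Cfsg.Agent.Small.MinusculeDegree.E8

theorem cast_ord (q : ℕ) (hq : 1 ≤ q) :
    (((q ^ 2 - 1) * (q ^ 8 - 1) * (q ^ 12 - 1) * (q ^ 14 - 1) * (q ^ 18 - 1) * (q ^ 20 - 1) * (q ^ 24 - 1) * (q ^ 30 - 1) : ℕ) : ℤ) =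
      ((q : ℤ) ^ 2 - 1) * ((q : ℤ) ^ 8 - 1) * ((q : ℤ) ^ 12 - 1) * ((q : ℤ) ^ 14 - 1) * ((q : ℤ) ^ 18 - 1) *
        ((q : ℤ) ^ 20 - 1) * ((q : ℤ) ^ 24 - 1) * ((q : ℤ) ^ 30 - 1) := by
  have h : ∀ e : ℕ, ((q ^ e - 1 : ℕ) : ℤ) = (q : ℤ) ^ e - 1 := fun e => by
    rw [Nat.cast_sub (Nat.one_le_pow _ _ hq), Nat.cast_pow, Nat.cast_one]
  simp only [Nat.cast_mul, h]

theorem large1 (q : ℤ) (hq : 36 ≤ q)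
    (h : q ^ 29 + q ^ 23 + q ^ 19 + q ^ 17 + q ^ 13 + q ^ 11 + q ^ 7 + q - 1 ∣
      1 * ((q ^ 2 - 1) * (q ^ 8 - 1) * (q ^ 12 - 1) * (q ^ 14 - 1) * (q ^ 18 - 1) * (q ^ 20 - 1) * (q ^ 24 - 1) * (q ^ 30 - 1))) : False := by
  obtain ⟨m, hm⟩ := h
  have hR : q ^ 29 + q ^ 23 + q ^ 19 + q ^ 17 + q ^ 13 + q ^ 11 + q ^ 7 + q - 1 ∣
      3 - 15 * q ^ 1 + 27 * q ^ 2 - 7 * q ^ 3 - q ^ 4 - 35 * q ^ 5 + 35 * q ^ 6 - 13 * q ^ 7 + 11 * q ^ 8 - 34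
      * q ^ 9 + 4 * q ^ 10 + 5 * q ^ 11 + 23 * q ^ 12 - 24 * q ^ 13 + 2 * q ^ 14 + 5 * q ^ 15 + 25 * q ^ 16 - 7
      * q ^ 17 + 35 * q ^ 18 - 2 * q ^ 19 + 31 * q ^ 20 - 8 * q ^ 21 + 28 * q ^ 22 + 5 * q ^ 23 + 48 * q ^ 24 -
      13 * q ^ 25 + 10 * q ^ 26 + 9 * q ^ 27 + 35 * q ^ 28 :=
    ⟨(-4 + 11 * q ^ 1 - 15 * q ^ 2 - 8 * q ^ 3 - 7 * q ^ 4 + 28 * q ^ 5 - 7 * q ^ 6 + 2 * q ^ 7 + 3 * q ^ 8 +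
      22 * q ^ 9 + 9 * q ^ 10 - 7 * q ^ 11 + 10 * q ^ 12 + 8 * q ^ 13 + 11 * q ^ 14 - 13 * q ^ 15 + 3 * q ^ 16
      + q ^ 17 + q ^ 18 - 10 * q ^ 19 - 7 * q ^ 20 + 2 * q ^ 21 - 5 * q ^ 22 - 6 * q ^ 23 - 9 * q ^ 24 + 7 * q
      ^ 25 - 5 * q ^ 26 - 2 * q ^ 27 - 3 * q ^ 28 + 4 * q ^ 29 + 4 * q ^ 30 - 2 * q ^ 31 + 3 * q ^ 32 + 2 * q ^
      33 + 8 * q ^ 34 - 2 * q ^ 35 + 3 * q ^ 36 + q ^ 37 + 4 * q ^ 38 - q ^ 39 - 3 * q ^ 40 + 3 * q ^ 41 - q ^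
      42 - q ^ 43 - 5 * q ^ 44 - q ^ 46 - 3 * q ^ 48 - 2 * q ^ 49 + q ^ 50 - q ^ 52 + 3 * q ^ 54 - q ^ 55 + q ^
      56 + 2 * q ^ 57 + 2 * q ^ 58 - q ^ 60 + q ^ 61 + q ^ 62 + q ^ 63 - 2 * q ^ 64 - q ^ 68 - q ^ 69 + q ^ 70
      - 2 * q ^ 71 - q ^ 75 + q ^ 79 + q ^ 83 + q ^ 85 - q ^ 93 - q ^ 97 + q ^ 99) - m, by
      linear_combination -hm⟩
  have p : ∀ i, 36 * q ^ i ≤ q ^ (i + 1) := fun i => by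
    rw [pow_succ' q i]; exact mul_le_mul_of_nonneg_right hq (pow_nonneg (by omega) _)
  have p0 : 36 * 1 ≤ q ^ 1 := by simpa using p 0
  have p0' : q = q ^ 1 := (pow_one q).symm
  have p1 : 36 * q ^ 1 ≤ q ^ 2 := p 1
  have p2 : 36 * q ^ 2 ≤ q ^ 3 := p 2
  have p3 : 36 * q ^ 3 ≤ q ^ 4 := p 3
  have p4 : 36 * q ^ 4 ≤ q ^ 5 := p 4
  have p5 : 36 * q ^ 5 ≤ q ^ 6 := p 5
  have p6 : 36 * q ^ 6 ≤ q ^ 7 := p 6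
  have p7 : 36 * q ^ 7 ≤ q ^ 8 := p 7
  have p8 : 36 * q ^ 8 ≤ q ^ 9 := p 8
  have p9 : 36 * q ^ 9 ≤ q ^ 10 := p 9
  have p10 : 36 * q ^ 10 ≤ q ^ 11 := p 10
  have p11 : 36 * q ^ 11 ≤ q ^ 12 := p 11
  have p12 : 36 * q ^ 12 ≤ q ^ 13 := p 12
  have p13 : 36 * q ^ 13 ≤ q ^ 14 := p 13
  have p14 : 36 * q ^ 14 ≤ q ^ 15 := p 14
  have p15 : 36 * q ^ 15 ≤ q ^ 16 := p 15
  have p16 : 36 * q ^ 16 ≤ q ^ 17 := p 16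
  have p17 : 36 * q ^ 17 ≤ q ^ 18 := p 17
  have p18 : 36 * q ^ 18 ≤ q ^ 19 := p 18
  have p19 : 36 * q ^ 19 ≤ q ^ 20 := p 19
  have p20 : 36 * q ^ 20 ≤ q ^ 21 := p 20
  have p21 : 36 * q ^ 21 ≤ q ^ 22 := p 21
  have p22 : 36 * q ^ 22 ≤ q ^ 23 := p 22
  have p23 : 36 * q ^ 23 ≤ q ^ 24 := p 23
  have p24 : 36 * q ^ 24 ≤ q ^ 25 := p 24
  have p25 : 36 * q ^ 25 ≤ q ^ 26 := p 25
  have p26 : 36 * q ^ 26 ≤ q ^ 27 := p 26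
  have p27 : 36 * q ^ 27 ≤ q ^ 28 := p 27
  have p28 : 36 * q ^ 28 ≤ q ^ 29 := p 28
  have hpos : (0 : ℤ) < 3 - 15 * q ^ 1 + 27 * q ^ 2 - 7 * q ^ 3 - q ^ 4 - 35 * q ^ 5 + 35 * q ^ 6 - 13 * q ^ 7 + 11 * q ^ 8 - 34
      * q ^ 9 + 4 * q ^ 10 + 5 * q ^ 11 + 23 * q ^ 12 - 24 * q ^ 13 + 2 * q ^ 14 + 5 * q ^ 15 + 25 * q ^ 16 - 7
      * q ^ 17 + 35 * q ^ 18 - 2 * q ^ 19 + 31 * q ^ 20 - 8 * q ^ 21 + 28 * q ^ 22 + 5 * q ^ 23 + 48 * q ^ 24 -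
      13 * q ^ 25 + 10 * q ^ 26 + 9 * q ^ 27 + 35 * q ^ 28 := by linarith
  have hle := Int.le_of_dvd hpos hR
  linarith

theorem large2 (q : ℤ) (hq : 288 ≤ q)
    (h : q ^ 29 + q ^ 23 + q ^ 19 + q ^ 17 + q ^ 13 + q ^ 11 + q ^ 7 + q - 2 ∣
      2 * ((q ^ 2 - 1) * (q ^ 8 - 1) * (q ^ 12 - 1) * (q ^ 14 - 1) * (q ^ 18 - 1) * (q ^ 20 - 1) * (q ^ 24 - 1) * (q ^ 30 - 1))) : False := by
  obtain ⟨m, hm⟩ := h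
  have hR : q ^ 29 + q ^ 23 + q ^ 19 + q ^ 17 + q ^ 13 + q ^ 11 + q ^ 7 + q - 2 ∣
      -186 - 96 * q ^ 1 + 288 * q ^ 2 + 32 * q ^ 3 - 80 * q ^ 4 - 452 * q ^ 5 + 382 * q ^ 6 - 16 * q ^ 7 + 88 *
      q ^ 8 - 436 * q ^ 9 + 62 * q ^ 10 + 236 * q ^ 11 + 166 * q ^ 12 - 144 * q ^ 13 + 16 * q ^ 14 + 188 * q ^
      15 + 206 * q ^ 16 + 44 * q ^ 17 + 286 * q ^ 18 + 160 * q ^ 19 + 248 * q ^ 20 - 68 * q ^ 21 + 230 * q ^ 22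
      + 176 * q ^ 23 + 384 * q ^ 24 - 208 * q ^ 25 + 80 * q ^ 26 + 60 * q ^ 27 + 286 * q ^ 28 :=
    ⟨(92 + 94 * q ^ 1 - 96 * q ^ 2 - 64 * q ^ 3 + 8 * q ^ 4 + 230 * q ^ 5 - 76 * q ^ 6 + 16 * q ^ 7 + 12 * q ^
      8 + 176 * q ^ 9 + 24 * q ^ 10 - 56 * q ^ 11 + 52 * q ^ 12 + 58 * q ^ 13 + 44 * q ^ 14 - 110 * q ^ 15 + 12
      * q ^ 16 + 8 * q ^ 17 + 4 * q ^ 18 - 86 * q ^ 19 - 28 * q ^ 20 + 16 * q ^ 21 - 20 * q ^ 22 - 42 * q ^ 23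
      - 36 * q ^ 24 + 56 * q ^ 25 - 20 * q ^ 26 - 4 * q ^ 27 - 12 * q ^ 28 + 38 * q ^ 29 + 16 * q ^ 30 - 16 * q
      ^ 31 + 12 * q ^ 32 + 16 * q ^ 33 + 32 * q ^ 34 - 22 * q ^ 35 + 12 * q ^ 36 + 2 * q ^ 37 + 16 * q ^ 38 - 8
      * q ^ 39 - 12 * q ^ 40 + 12 * q ^ 41 - 4 * q ^ 42 - 2 * q ^ 43 - 20 * q ^ 44 - 4 * q ^ 46 - 12 * q ^ 48 -
      4 * q ^ 49 + 4 * q ^ 50 - 4 * q ^ 52 + 12 * q ^ 54 - 2 * q ^ 55 + 4 * q ^ 56 + 4 * q ^ 57 + 8 * q ^ 58 -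
      4 * q ^ 60 + 2 * q ^ 61 + 4 * q ^ 62 + 2 * q ^ 63 - 8 * q ^ 64 - 4 * q ^ 68 - 2 * q ^ 69 + 4 * q ^ 70 - 4
      * q ^ 71 - 2 * q ^ 75 + 2 * q ^ 79 + 2 * q ^ 83 + 2 * q ^ 85 - 2 * q ^ 93 - 2 * q ^ 97 + 2 * q ^ 99) - m, by
      linear_combination -hm⟩
  have p : ∀ i, 288 * q ^ i ≤ q ^ (i + 1) := fun i => by
    rw [pow_succ' q i]; exact mul_le_mul_of_nonneg_right hq (pow_nonneg (by omega) _)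
  have p0 : 288 * 1 ≤ q ^ 1 := by simpa using p 0
  have p0' : q = q ^ 1 := (pow_one q).symm
  have p1 : 288 * q ^ 1 ≤ q ^ 2 := p 1
  have p2 : 288 * q ^ 2 ≤ q ^ 3 := p 2
  have p3 : 288 * q ^ 3 ≤ q ^ 4 := p 3
  have p4 : 288 * q ^ 4 ≤ q ^ 5 := p 4
  have p5 : 288 * q ^ 5 ≤ q ^ 6 := p 5
  have p6 : 288 * q ^ 6 ≤ q ^ 7 := p 6
  have p7 : 288 * q ^ 7 ≤ q ^ 8 := p 7
  have p8 : 288 * q ^ 8 ≤ q ^ 9 := p 8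
  have p9 : 288 * q ^ 9 ≤ q ^ 10 := p 9
  have p10 : 288 * q ^ 10 ≤ q ^ 11 := p 10
  have p11 : 288 * q ^ 11 ≤ q ^ 12 := p 11
  have p12 : 288 * q ^ 12 ≤ q ^ 13 := p 12
  have p13 : 288 * q ^ 13 ≤ q ^ 14 := p 13
  have p14 : 288 * q ^ 14 ≤ q ^ 15 := p 14
  have p15 : 288 * q ^ 15 ≤ q ^ 16 := p 15
  have p16 : 288 * q ^ 16 ≤ q ^ 17 := p 16
  have p17 : 288 * q ^ 17 ≤ q ^ 18 := p 17
  have p18 : 288 * q ^ 18 ≤ q ^ 19 := p 18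
  have p19 : 288 * q ^ 19 ≤ q ^ 20 := p 19
  have p20 : 288 * q ^ 20 ≤ q ^ 21 := p 20
  have p21 : 288 * q ^ 21 ≤ q ^ 22 := p 21
  have p22 : 288 * q ^ 22 ≤ q ^ 23 := p 22
  have p23 : 288 * q ^ 23 ≤ q ^ 24 := p 23
  have p24 : 288 * q ^ 24 ≤ q ^ 25 := p 24
  have p25 : 288 * q ^ 25 ≤ q ^ 26 := p 25
  have p26 : 288 * q ^ 26 ≤ q ^ 27 := p 26
  have p27 : 288 * q ^ 27 ≤ q ^ 28 := p 27
  have p28 : 288 * q ^ 28 ≤ q ^ 29 := p 28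
  have hpos : (0 : ℤ) < -186 - 96 * q ^ 1 + 288 * q ^ 2 + 32 * q ^ 3 - 80 * q ^ 4 - 452 * q ^ 5 + 382 * q ^ 6 - 16 * q ^ 7 + 88 *
      q ^ 8 - 436 * q ^ 9 + 62 * q ^ 10 + 236 * q ^ 11 + 166 * q ^ 12 - 144 * q ^ 13 + 16 * q ^ 14 + 188 * q ^
      15 + 206 * q ^ 16 + 44 * q ^ 17 + 286 * q ^ 18 + 160 * q ^ 19 + 248 * q ^ 20 - 68 * q ^ 21 + 230 * q ^ 22
      + 176 * q ^ 23 + 384 * q ^ 24 - 208 * q ^ 25 + 80 * q ^ 26 + 60 * q ^ 27 + 286 * q ^ 28 := by linarith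
  have hle := Int.le_of_dvd hpos hR
  linarith

theorem large3 (q : ℤ) (hq : 978 ≤ q)
    (h : q ^ 29 + q ^ 23 + q ^ 19 + q ^ 17 + q ^ 13 + q ^ 11 + q ^ 7 + q - 3 ∣
      3 * ((q ^ 2 - 1) * (q ^ 8 - 1) * (q ^ 12 - 1) * (q ^ 14 - 1) * (q ^ 18 - 1) * (q ^ 20 - 1) * (q ^ 24 - 1) * (q ^ 30 - 1))) : False := by
  obtain ⟨m, hm⟩ := h
  have hR : q ^ 29 + q ^ 23 + q ^ 19 + q ^ 17 + q ^ 13 + q ^ 11 + q ^ 7 + q - 3 ∣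
      -1839 - 351 * q ^ 1 + 1377 * q ^ 2 + 297 * q ^ 3 - 675 * q ^ 4 - 2187 * q ^ 5 + 1833 * q ^ 6 + 99 * q ^ 7
      + 297 * q ^ 8 - 2106 * q ^ 9 + 348 * q ^ 10 + 1341 * q ^ 11 + 429 * q ^ 12 - 504 * q ^ 13 + 54 * q ^ 14 +
      1053 * q ^ 15 + 699 * q ^ 16 + 369 * q ^ 17 + 969 * q ^ 18 + 990 * q ^ 19 + 837 * q ^ 20 - 288 * q ^ 21 +
      780 * q ^ 22 + 981 * q ^ 23 + 1296 * q ^ 24 - 1053 * q ^ 25 + 270 * q ^ 26 + 225 * q ^ 27 + 969 * q ^ 28 :=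
    ⟨(612 + 321 * q ^ 1 - 351 * q ^ 2 - 216 * q ^ 3 + 153 * q ^ 4 + 780 * q ^ 5 - 351 * q ^ 6 + 54 * q ^ 7 + 27
      * q ^ 8 + 594 * q ^ 9 + 9 * q ^ 10 - 189 * q ^ 11 + 162 * q ^ 12 + 192 * q ^ 13 + 99 * q ^ 14 - 375 * q ^
      15 + 27 * q ^ 16 + 27 * q ^ 17 + 9 * q ^ 18 - 294 * q ^ 19 - 63 * q ^ 20 + 54 * q ^ 21 - 45 * q ^ 22 -
      138 * q ^ 23 - 81 * q ^ 24 + 189 * q ^ 25 - 45 * q ^ 26 - 6 * q ^ 27 - 27 * q ^ 28 + 132 * q ^ 29 + 36 *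
      q ^ 30 - 54 * q ^ 31 + 27 * q ^ 32 + 54 * q ^ 33 + 72 * q ^ 34 - 78 * q ^ 35 + 27 * q ^ 36 + 3 * q ^ 37 +
      36 * q ^ 38 - 27 * q ^ 39 - 27 * q ^ 40 + 33 * q ^ 41 - 9 * q ^ 42 - 3 * q ^ 43 - 45 * q ^ 44 - 9 * q ^
      46 - 27 * q ^ 48 - 6 * q ^ 49 + 9 * q ^ 50 - 9 * q ^ 52 + 27 * q ^ 54 - 3 * q ^ 55 + 9 * q ^ 56 + 6 * q ^
      57 + 18 * q ^ 58 - 9 * q ^ 60 + 3 * q ^ 61 + 9 * q ^ 62 + 3 * q ^ 63 - 18 * q ^ 64 - 9 * q ^ 68 - 3 * q ^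
      69 + 9 * q ^ 70 - 6 * q ^ 71 - 3 * q ^ 75 + 3 * q ^ 79 + 3 * q ^ 83 + 3 * q ^ 85 - 3 * q ^ 93 - 3 * q ^
      97 + 3 * q ^ 99) - m, by
      linear_combination -hm⟩
  have p : ∀ i, 978 * q ^ i ≤ q ^ (i + 1) := fun i => by
    rw [pow_succ' q i]; exact mul_le_mul_of_nonneg_right hq (pow_nonneg (by omega) _)
  have p0 : 978 * 1 ≤ q ^ 1 := by simpa using p 0
  have p0' : q = q ^ 1 := (pow_one q).symm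
  have p1 : 978 * q ^ 1 ≤ q ^ 2 := p 1
  have p2 : 978 * q ^ 2 ≤ q ^ 3 := p 2
  have p3 : 978 * q ^ 3 ≤ q ^ 4 := p 3
  have p4 : 978 * q ^ 4 ≤ q ^ 5 := p 4
  have p5 : 978 * q ^ 5 ≤ q ^ 6 := p 5
  have p6 : 978 * q ^ 6 ≤ q ^ 7 := p 6
  have p7 : 978 * q ^ 7 ≤ q ^ 8 := p 7
  have p8 : 978 * q ^ 8 ≤ q ^ 9 := p 8
  have p9 : 978 * q ^ 9 ≤ q ^ 10 := p 9
  have p10 : 978 * q ^ 10 ≤ q ^ 11 := p 10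
  have p11 : 978 * q ^ 11 ≤ q ^ 12 := p 11
  have p12 : 978 * q ^ 12 ≤ q ^ 13 := p 12
  have p13 : 978 * q ^ 13 ≤ q ^ 14 := p 13
  have p14 : 978 * q ^ 14 ≤ q ^ 15 := p 14
  have p15 : 978 * q ^ 15 ≤ q ^ 16 := p 15
  have p16 : 978 * q ^ 16 ≤ q ^ 17 := p 16
  have p17 : 978 * q ^ 17 ≤ q ^ 18 := p 17
  have p18 : 978 * q ^ 18 ≤ q ^ 19 := p 18
  have p19 : 978 * q ^ 19 ≤ q ^ 20 := p 19
  have p20 : 978 * q ^ 20 ≤ q ^ 21 := p 20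
  have p21 : 978 * q ^ 21 ≤ q ^ 22 := p 21
  have p22 : 978 * q ^ 22 ≤ q ^ 23 := p 22
  have p23 : 978 * q ^ 23 ≤ q ^ 24 := p 23
  have p24 : 978 * q ^ 24 ≤ q ^ 25 := p 24
  have p25 : 978 * q ^ 25 ≤ q ^ 26 := p 25
  have p26 : 978 * q ^ 26 ≤ q ^ 27 := p 26
  have p27 : 978 * q ^ 27 ≤ q ^ 28 := p 27
  have p28 : 978 * q ^ 28 ≤ q ^ 29 := p 28
  have hpos : (0 : ℤ) < -1839 - 351 * q ^ 1 + 1377 * q ^ 2 + 297 * q ^ 3 - 675 * q ^ 4 - 2187 * q ^ 5 + 1833 * q ^ 6 + 99 * q ^ 7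
      + 297 * q ^ 8 - 2106 * q ^ 9 + 348 * q ^ 10 + 1341 * q ^ 11 + 429 * q ^ 12 - 504 * q ^ 13 + 54 * q ^ 14 +
      1053 * q ^ 15 + 699 * q ^ 16 + 369 * q ^ 17 + 969 * q ^ 18 + 990 * q ^ 19 + 837 * q ^ 20 - 288 * q ^ 21 +
      780 * q ^ 22 + 981 * q ^ 23 + 1296 * q ^ 24 - 1053 * q ^ 25 + 270 * q ^ 26 + 225 * q ^ 27 + 969 * q ^ 28 := by linarith
  have hle := Int.le_of_dvd hpos hR
  linarith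

theorem large4 (q : ℤ) (hq : 2301 ≤ q)
    (h : q ^ 29 + q ^ 23 + q ^ 19 + q ^ 17 + q ^ 13 + q ^ 11 + q ^ 7 + q - 4 ∣
      4 * ((q ^ 2 - 1) * (q ^ 8 - 1) * (q ^ 12 - 1) * (q ^ 14 - 1) * (q ^ 18 - 1) * (q ^ 20 - 1) * (q ^ 24 - 1) * (q ^ 30 - 1))) : False := by
  obtain ⟨m, hm⟩ := h
  have hR : q ^ 29 + q ^ 23 + q ^ 19 + q ^ 17 + q ^ 13 + q ^ 11 + q ^ 7 + q - 4 ∣
      -8388 - 960 * q ^ 1 + 4608 * q ^ 2 + 1088 * q ^ 3 - 2944 * q ^ 4 - 6800 * q ^ 5 + 6140 * q ^ 6 + 512 * q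
      ^ 7 + 704 * q ^ 8 - 6544 * q ^ 9 + 1276 * q ^ 10 + 4400 * q ^ 11 + 572 * q ^ 12 - 1344 * q ^ 13 + 128 * q
      ^ 14 + 3440 * q ^ 15 + 1660 * q ^ 16 + 1328 * q ^ 17 + 2300 * q ^ 18 + 3328 * q ^ 19 + 1984 * q ^ 20 -
      848 * q ^ 21 + 1852 * q ^ 22 + 3200 * q ^ 23 + 3072 * q ^ 24 - 3328 * q ^ 25 + 640 * q ^ 26 + 624 * q ^
      27 + 2300 * q ^ 28 :=
    ⟨(2096 + 764 * q ^ 1 - 960 * q ^ 2 - 512 * q ^ 3 + 608 * q ^ 4 + 1852 * q ^ 5 - 1072 * q ^ 6 + 128 * q ^ 7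
      + 48 * q ^ 8 + 1408 * q ^ 9 - 96 * q ^ 10 - 448 * q ^ 11 + 400 * q ^ 12 + 452 * q ^ 13 + 176 * q ^ 14 -
      892 * q ^ 15 + 48 * q ^ 16 + 64 * q ^ 17 + 16 * q ^ 18 - 700 * q ^ 19 - 112 * q ^ 20 + 128 * q ^ 21 - 80
      * q ^ 22 - 324 * q ^ 23 - 144 * q ^ 24 + 448 * q ^ 25 - 80 * q ^ 26 - 8 * q ^ 27 - 48 * q ^ 28 + 316 * q
      ^ 29 + 64 * q ^ 30 - 128 * q ^ 31 + 48 * q ^ 32 + 128 * q ^ 33 + 128 * q ^ 34 - 188 * q ^ 35 + 48 * q ^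
      36 + 4 * q ^ 37 + 64 * q ^ 38 - 64 * q ^ 39 - 48 * q ^ 40 + 72 * q ^ 41 - 16 * q ^ 42 - 4 * q ^ 43 - 80 *
      q ^ 44 - 16 * q ^ 46 - 48 * q ^ 48 - 8 * q ^ 49 + 16 * q ^ 50 - 16 * q ^ 52 + 48 * q ^ 54 - 4 * q ^ 55 +
      16 * q ^ 56 + 8 * q ^ 57 + 32 * q ^ 58 - 16 * q ^ 60 + 4 * q ^ 61 + 16 * q ^ 62 + 4 * q ^ 63 - 32 * q ^
      64 - 16 * q ^ 68 - 4 * q ^ 69 + 16 * q ^ 70 - 8 * q ^ 71 - 4 * q ^ 75 + 4 * q ^ 79 + 4 * q ^ 83 + 4 * q ^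
      85 - 4 * q ^ 93 - 4 * q ^ 97 + 4 * q ^ 99) - m, by
      linear_combination -hm⟩
  have p : ∀ i, 2301 * q ^ i ≤ q ^ (i + 1) := fun i => by
    rw [pow_succ' q i]; exact mul_le_mul_of_nonneg_right hq (pow_nonneg (by omega) _)
  have p0 : 2301 * 1 ≤ q ^ 1 := by simpa using p 0
  have p0' : q = q ^ 1 := (pow_one q).symm
  have p1 : 2301 * q ^ 1 ≤ q ^ 2 := p 1
  have p2 : 2301 * q ^ 2 ≤ q ^ 3 := p 2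
  have p3 : 2301 * q ^ 3 ≤ q ^ 4 := p 3
  have p4 : 2301 * q ^ 4 ≤ q ^ 5 := p 4
  have p5 : 2301 * q ^ 5 ≤ q ^ 6 := p 5
  have p6 : 2301 * q ^ 6 ≤ q ^ 7 := p 6
  have p7 : 2301 * q ^ 7 ≤ q ^ 8 := p 7
  have p8 : 2301 * q ^ 8 ≤ q ^ 9 := p 8
  have p9 : 2301 * q ^ 9 ≤ q ^ 10 := p 9
  have p10 : 2301 * q ^ 10 ≤ q ^ 11 := p 10
  have p11 : 2301 * q ^ 11 ≤ q ^ 12 := p 11
  have p12 : 2301 * q ^ 12 ≤ q ^ 13 := p 12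
  have p13 : 2301 * q ^ 13 ≤ q ^ 14 := p 13
  have p14 : 2301 * q ^ 14 ≤ q ^ 15 := p 14
  have p15 : 2301 * q ^ 15 ≤ q ^ 16 := p 15
  have p16 : 2301 * q ^ 16 ≤ q ^ 17 := p 16
  have p17 : 2301 * q ^ 17 ≤ q ^ 18 := p 17
  have p18 : 2301 * q ^ 18 ≤ q ^ 19 := p 18
  have p19 : 2301 * q ^ 19 ≤ q ^ 20 := p 19
  have p20 : 2301 * q ^ 20 ≤ q ^ 21 := p 20
  have p21 : 2301 * q ^ 21 ≤ q ^ 22 := p 21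
  have p22 : 2301 * q ^ 22 ≤ q ^ 23 := p 22
  have p23 : 2301 * q ^ 23 ≤ q ^ 24 := p 23
  have p24 : 2301 * q ^ 24 ≤ q ^ 25 := p 24
  have p25 : 2301 * q ^ 25 ≤ q ^ 26 := p 25
  have p26 : 2301 * q ^ 26 ≤ q ^ 27 := p 26
  have p27 : 2301 * q ^ 27 ≤ q ^ 28 := p 27
  have p28 : 2301 * q ^ 28 ≤ q ^ 29 := p 28
  have hpos : (0 : ℤ) < -8388 - 960 * q ^ 1 + 4608 * q ^ 2 + 1088 * q ^ 3 - 2944 * q ^ 4 - 6800 * q ^ 5 + 6140 * q ^ 6 + 512 * q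
      ^ 7 + 704 * q ^ 8 - 6544 * q ^ 9 + 1276 * q ^ 10 + 4400 * q ^ 11 + 572 * q ^ 12 - 1344 * q ^ 13 + 128 * q
      ^ 14 + 3440 * q ^ 15 + 1660 * q ^ 16 + 1328 * q ^ 17 + 2300 * q ^ 18 + 3328 * q ^ 19 + 1984 * q ^ 20 -
      848 * q ^ 21 + 1852 * q ^ 22 + 3200 * q ^ 23 + 3072 * q ^ 24 - 3328 * q ^ 25 + 640 * q ^ 26 + 624 * q ^
      27 + 2300 * q ^ 28 := by linarith
  have hle := Int.le_of_dvd hpos hR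
  linarith

theorem large5 (q : ℤ) (hq : 4525 ≤ q)
    (h : q ^ 29 + q ^ 23 + q ^ 19 + q ^ 17 + q ^ 13 + q ^ 11 + q ^ 7 + q - 5 ∣
      5 * ((q ^ 2 - 1) * (q ^ 8 - 1) * (q ^ 12 - 1) * (q ^ 14 - 1) * (q ^ 18 - 1) * (q ^ 20 - 1) * (q ^ 24 - 1) * (q ^ 30 - 1))) : False := by
  obtain ⟨m, hm⟩ := h
  have hR : q ^ 29 + q ^ 23 + q ^ 19 + q ^ 17 + q ^ 13 + q ^ 11 + q ^ 7 + q - 5 ∣
      -26505 - 2175 * q ^ 1 + 12375 * q ^ 2 + 2825 * q ^ 3 - 9125 * q ^ 4 - 16475 * q ^ 5 + 16495 * q ^ 6 +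
      1475 * q ^ 7 + 1375 * q ^ 8 - 15850 * q ^ 9 + 3620 * q ^ 10 + 10925 * q ^ 11 - 5 * q ^ 12 - 3000 * q ^ 13
      + 250 * q ^ 14 + 8525 * q ^ 15 + 3245 * q ^ 16 + 3425 * q ^ 17 + 4495 * q ^ 18 + 8350 * q ^ 19 + 3875 * q
      ^ 20 - 2000 * q ^ 21 + 3620 * q ^ 22 + 7925 * q ^ 23 + 6000 * q ^ 24 - 8125 * q ^ 25 + 1250 * q ^ 26 +
      1425 * q ^ 27 + 4495 * q ^ 28 :=
    ⟨(5300 + 1495 * q ^ 1 - 2175 * q ^ 2 - 1000 * q ^ 3 + 1625 * q ^ 4 + 3620 * q ^ 5 - 2575 * q ^ 6 + 250 * q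
      ^ 7 + 75 * q ^ 8 + 2750 * q ^ 9 - 375 * q ^ 10 - 875 * q ^ 11 + 850 * q ^ 12 + 880 * q ^ 13 + 275 * q ^
      14 - 1745 * q ^ 15 + 75 * q ^ 16 + 125 * q ^ 17 + 25 * q ^ 18 - 1370 * q ^ 19 - 175 * q ^ 20 + 250 * q ^
      21 - 125 * q ^ 22 - 630 * q ^ 23 - 225 * q ^ 24 + 875 * q ^ 25 - 125 * q ^ 26 - 10 * q ^ 27 - 75 * q ^ 28
      + 620 * q ^ 29 + 100 * q ^ 30 - 250 * q ^ 31 + 75 * q ^ 32 + 250 * q ^ 33 + 200 * q ^ 34 - 370 * q ^ 35 +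
      75 * q ^ 36 + 5 * q ^ 37 + 100 * q ^ 38 - 125 * q ^ 39 - 75 * q ^ 40 + 135 * q ^ 41 - 25 * q ^ 42 - 5 * q
      ^ 43 - 125 * q ^ 44 - 25 * q ^ 46 - 75 * q ^ 48 - 10 * q ^ 49 + 25 * q ^ 50 - 25 * q ^ 52 + 75 * q ^ 54 -
      5 * q ^ 55 + 25 * q ^ 56 + 10 * q ^ 57 + 50 * q ^ 58 - 25 * q ^ 60 + 5 * q ^ 61 + 25 * q ^ 62 + 5 * q ^
      63 - 50 * q ^ 64 - 25 * q ^ 68 - 5 * q ^ 69 + 25 * q ^ 70 - 10 * q ^ 71 - 5 * q ^ 75 + 5 * q ^ 79 + 5 * q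
      ^ 83 + 5 * q ^ 85 - 5 * q ^ 93 - 5 * q ^ 97 + 5 * q ^ 99) - m, by
      linear_combination -hm⟩
  have p : ∀ i, 4525 * q ^ i ≤ q ^ (i + 1) := fun i => by
    rw [pow_succ' q i]; exact mul_le_mul_of_nonneg_right hq (pow_nonneg (by omega) _)
  have p0 : 4525 * 1 ≤ q ^ 1 := by simpa using p 0
  have p0' : q = q ^ 1 := (pow_one q).symm
  have p1 : 4525 * q ^ 1 ≤ q ^ 2 := p 1
  have p2 : 4525 * q ^ 2 ≤ q ^ 3 := p 2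
  have p3 : 4525 * q ^ 3 ≤ q ^ 4 := p 3
  have p4 : 4525 * q ^ 4 ≤ q ^ 5 := p 4
  have p5 : 4525 * q ^ 5 ≤ q ^ 6 := p 5
  have p6 : 4525 * q ^ 6 ≤ q ^ 7 := p 6
  have p7 : 4525 * q ^ 7 ≤ q ^ 8 := p 7
  have p8 : 4525 * q ^ 8 ≤ q ^ 9 := p 8
  have p9 : 4525 * q ^ 9 ≤ q ^ 10 := p 9
  have p10 : 4525 * q ^ 10 ≤ q ^ 11 := p 10
  have p11 : 4525 * q ^ 11 ≤ q ^ 12 := p 11
  have p12 : 4525 * q ^ 12 ≤ q ^ 13 := p 12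
  have p13 : 4525 * q ^ 13 ≤ q ^ 14 := p 13
  have p14 : 4525 * q ^ 14 ≤ q ^ 15 := p 14
  have p15 : 4525 * q ^ 15 ≤ q ^ 16 := p 15
  have p16 : 4525 * q ^ 16 ≤ q ^ 17 := p 16
  have p17 : 4525 * q ^ 17 ≤ q ^ 18 := p 17
  have p18 : 4525 * q ^ 18 ≤ q ^ 19 := p 18
  have p19 : 4525 * q ^ 19 ≤ q ^ 20 := p 19
  have p20 : 4525 * q ^ 20 ≤ q ^ 21 := p 20
  have p21 : 4525 * q ^ 21 ≤ q ^ 22 := p 21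
  have p22 : 4525 * q ^ 22 ≤ q ^ 23 := p 22
  have p23 : 4525 * q ^ 23 ≤ q ^ 24 := p 23
  have p24 : 4525 * q ^ 24 ≤ q ^ 25 := p 24
  have p25 : 4525 * q ^ 25 ≤ q ^ 26 := p 25
  have p26 : 4525 * q ^ 26 ≤ q ^ 27 := p 26
  have p27 : 4525 * q ^ 27 ≤ q ^ 28 := p 27
  have p28 : 4525 * q ^ 28 ≤ q ^ 29 := p 28
  have hpos : (0 : ℤ) < -26505 - 2175 * q ^ 1 + 12375 * q ^ 2 + 2825 * q ^ 3 - 9125 * q ^ 4 - 16475 * q ^ 5 + 16495 * q ^ 6 +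
      1475 * q ^ 7 + 1375 * q ^ 8 - 15850 * q ^ 9 + 3620 * q ^ 10 + 10925 * q ^ 11 - 5 * q ^ 12 - 3000 * q ^ 13
      + 250 * q ^ 14 + 8525 * q ^ 15 + 3245 * q ^ 16 + 3425 * q ^ 17 + 4495 * q ^ 18 + 8350 * q ^ 19 + 3875 * q
      ^ 20 - 2000 * q ^ 21 + 3620 * q ^ 22 + 7925 * q ^ 23 + 6000 * q ^ 24 - 8125 * q ^ 25 + 1250 * q ^ 26 +
      1425 * q ^ 27 + 4495 * q ^ 28 := by linarith
  have hle := Int.le_of_dvd hpos hR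
  linarith

theorem large6 (q : ℤ) (hq : 7786 ≤ q)
    (h : q ^ 29 + q ^ 23 + q ^ 19 + q ^ 17 + q ^ 13 + q ^ 11 + q ^ 7 + q - 6 ∣
      6 * ((q ^ 2 - 1) * (q ^ 8 - 1) * (q ^ 12 - 1) * (q ^ 14 - 1) * (q ^ 18 - 1) * (q ^ 20 - 1) * (q ^ 24 - 1) * (q ^ 30 - 1))) : False := by
  obtain ⟨m, hm⟩ := h
  have hR : q ^ 29 + q ^ 23 + q ^ 19 + q ^ 17 + q ^ 13 + q ^ 11 + q ^ 7 + q - 6 ∣
      -67182 - 4320 * q ^ 1 + 28512 * q ^ 2 + 6048 * q ^ 3 - 22896 * q ^ 4 - 34020 * q ^ 5 + 38010 * q ^ 6 +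
      3312 * q ^ 7 + 2376 * q ^ 8 - 32724 * q ^ 9 + 8634 * q ^ 10 + 22860 * q ^ 11 - 2382 * q ^ 12 - 5904 * q ^
      13 + 432 * q ^ 14 + 17820 * q ^ 15 + 5610 * q ^ 16 + 7308 * q ^ 17 + 7770 * q ^ 18 + 17568 * q ^ 19 +
      6696 * q ^ 20 - 4068 * q ^ 21 + 6258 * q ^ 22 + 16560 * q ^ 23 + 10368 * q ^ 24 - 16848 * q ^ 25 + 2160 *
      q ^ 26 + 2844 * q ^ 27 + 7770 * q ^ 28 :=
    ⟨(11196 + 2586 * q ^ 1 - 4320 * q ^ 2 - 1728 * q ^ 3 + 3528 * q ^ 4 + 6258 * q ^ 5 - 5292 * q ^ 6 + 432 * q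
      ^ 7 + 108 * q ^ 8 + 4752 * q ^ 9 - 936 * q ^ 10 - 1512 * q ^ 11 + 1620 * q ^ 12 + 1518 * q ^ 13 + 396 * q
      ^ 14 - 3018 * q ^ 15 + 108 * q ^ 16 + 216 * q ^ 17 + 36 * q ^ 18 - 2370 * q ^ 19 - 252 * q ^ 20 + 432 * q
      ^ 21 - 180 * q ^ 22 - 1086 * q ^ 23 - 324 * q ^ 24 + 1512 * q ^ 25 - 180 * q ^ 26 - 12 * q ^ 27 - 108 * q
      ^ 28 + 1074 * q ^ 29 + 144 * q ^ 30 - 432 * q ^ 31 + 108 * q ^ 32 + 432 * q ^ 33 + 288 * q ^ 34 - 642 * q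
      ^ 35 + 108 * q ^ 36 + 6 * q ^ 37 + 144 * q ^ 38 - 216 * q ^ 39 - 108 * q ^ 40 + 228 * q ^ 41 - 36 * q ^
      42 - 6 * q ^ 43 - 180 * q ^ 44 - 36 * q ^ 46 - 108 * q ^ 48 - 12 * q ^ 49 + 36 * q ^ 50 - 36 * q ^ 52 +
      108 * q ^ 54 - 6 * q ^ 55 + 36 * q ^ 56 + 12 * q ^ 57 + 72 * q ^ 58 - 36 * q ^ 60 + 6 * q ^ 61 + 36 * q ^
      62 + 6 * q ^ 63 - 72 * q ^ 64 - 36 * q ^ 68 - 6 * q ^ 69 + 36 * q ^ 70 - 12 * q ^ 71 - 6 * q ^ 75 + 6 * q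
      ^ 79 + 6 * q ^ 83 + 6 * q ^ 85 - 6 * q ^ 93 - 6 * q ^ 97 + 6 * q ^ 99) - m, by
      linear_combination -hm⟩
  have p : ∀ i, 7786 * q ^ i ≤ q ^ (i + 1) := fun i => by
    rw [pow_succ' q i]; exact mul_le_mul_of_nonneg_right hq (pow_nonneg (by omega) _)
  have p0 : 7786 * 1 ≤ q ^ 1 := by simpa using p 0
  have p0' : q = q ^ 1 := (pow_one q).symm
  have p1 : 7786 * q ^ 1 ≤ q ^ 2 := p 1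
  have p2 : 7786 * q ^ 2 ≤ q ^ 3 := p 2
  have p3 : 7786 * q ^ 3 ≤ q ^ 4 := p 3
  have p4 : 7786 * q ^ 4 ≤ q ^ 5 := p 4
  have p5 : 7786 * q ^ 5 ≤ q ^ 6 := p 5
  have p6 : 7786 * q ^ 6 ≤ q ^ 7 := p 6
  have p7 : 7786 * q ^ 7 ≤ q ^ 8 := p 7
  have p8 : 7786 * q ^ 8 ≤ q ^ 9 := p 8
  have p9 : 7786 * q ^ 9 ≤ q ^ 10 := p 9
  have p10 : 7786 * q ^ 10 ≤ q ^ 11 := p 10
  have p11 : 7786 * q ^ 11 ≤ q ^ 12 := p 11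
  have p12 : 7786 * q ^ 12 ≤ q ^ 13 := p 12
  have p13 : 7786 * q ^ 13 ≤ q ^ 14 := p 13
  have p14 : 7786 * q ^ 14 ≤ q ^ 15 := p 14
  have p15 : 7786 * q ^ 15 ≤ q ^ 16 := p 15
  have p16 : 7786 * q ^ 16 ≤ q ^ 17 := p 16
  have p17 : 7786 * q ^ 17 ≤ q ^ 18 := p 17
  have p18 : 7786 * q ^ 18 ≤ q ^ 19 := p 18
  have p19 : 7786 * q ^ 19 ≤ q ^ 20 := p 19
  have p20 : 7786 * q ^ 20 ≤ q ^ 21 := p 20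
  have p21 : 7786 * q ^ 21 ≤ q ^ 22 := p 21
  have p22 : 7786 * q ^ 22 ≤ q ^ 23 := p 22
  have p23 : 7786 * q ^ 23 ≤ q ^ 24 := p 23
  have p24 : 7786 * q ^ 24 ≤ q ^ 25 := p 24
  have p25 : 7786 * q ^ 25 ≤ q ^ 26 := p 25
  have p26 : 7786 * q ^ 26 ≤ q ^ 27 := p 26
  have p27 : 7786 * q ^ 27 ≤ q ^ 28 := p 27
  have p28 : 7786 * q ^ 28 ≤ q ^ 29 := p 28
  have hpos : (0 : ℤ) < -67182 - 4320 * q ^ 1 + 28512 * q ^ 2 + 6048 * q ^ 3 - 22896 * q ^ 4 - 34020 * q ^ 5 + 38010 * q ^ 6 +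
      3312 * q ^ 7 + 2376 * q ^ 8 - 32724 * q ^ 9 + 8634 * q ^ 10 + 22860 * q ^ 11 - 2382 * q ^ 12 - 5904 * q ^
      13 + 432 * q ^ 14 + 17820 * q ^ 15 + 5610 * q ^ 16 + 7308 * q ^ 17 + 7770 * q ^ 18 + 17568 * q ^ 19 +
      6696 * q ^ 20 - 4068 * q ^ 21 + 6258 * q ^ 22 + 16560 * q ^ 23 + 10368 * q ^ 24 - 16848 * q ^ 25 + 2160 *
      q ^ 26 + 2844 * q ^ 27 + 7770 * q ^ 28 := by linarith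
  have hle := Int.le_of_dvd hpos hR
  linarith

theorem large7 (q : ℤ) (hq : 12395 ≤ q)
    (h : q ^ 29 + q ^ 23 + q ^ 19 + q ^ 17 + q ^ 13 + q ^ 11 + q ^ 7 + q - 7 ∣
      7 * ((q ^ 2 - 1) * (q ^ 8 - 1) * (q ^ 12 - 1) * (q ^ 14 - 1) * (q ^ 18 - 1) * (q ^ 20 - 1) * (q ^ 24 - 1) * (q ^ 30 - 1))) : False := by
  obtain ⟨m, hm⟩ := h
  have hR : q ^ 29 + q ^ 23 + q ^ 19 + q ^ 17 + q ^ 13 + q ^ 11 + q ^ 7 + q - 7 ∣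
      -146811 - 7791 * q ^ 1 + 58653 * q ^ 2 + 11417 * q ^ 3 - 49735 * q ^ 4 - 62867 * q ^ 5 + 78197 * q ^ 6 +
      6419 * q ^ 7 + 3773 * q ^ 8 - 60466 * q ^ 9 + 18172 * q ^ 10 + 42581 * q ^ 11 - 8239 * q ^ 12 - 10584 * q
      ^ 13 + 686 * q ^ 14 + 33173 * q ^ 15 + 8911 * q ^ 16 + 13769 * q ^ 17 + 12341 * q ^ 18 + 32830 * q ^ 19 +
      10633 * q ^ 20 - 7448 * q ^ 21 + 9940 * q ^ 22 + 30821 * q ^ 23 + 16464 * q ^ 24 - 31213 * q ^ 25 + 3430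
      * q ^ 26 + 5145 * q ^ 27 + 12341 * q ^ 28 :=
    ⟨(20972 + 4109 * q ^ 1 - 7791 * q ^ 2 - 2744 * q ^ 3 + 6713 * q ^ 4 + 9940 * q ^ 5 - 9751 * q ^ 6 + 686 * q
      ^ 7 + 147 * q ^ 8 + 7546 * q ^ 9 - 1911 * q ^ 10 - 2401 * q ^ 11 + 2842 * q ^ 12 + 2408 * q ^ 13 + 539 *
      q ^ 14 - 4795 * q ^ 15 + 147 * q ^ 16 + 343 * q ^ 17 + 49 * q ^ 18 - 3766 * q ^ 19 - 343 * q ^ 20 + 686 *
      q ^ 21 - 245 * q ^ 22 - 1722 * q ^ 23 - 441 * q ^ 24 + 2401 * q ^ 25 - 245 * q ^ 26 - 14 * q ^ 27 - 147 *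
      q ^ 28 + 1708 * q ^ 29 + 196 * q ^ 30 - 686 * q ^ 31 + 147 * q ^ 32 + 686 * q ^ 33 + 392 * q ^ 34 - 1022
      * q ^ 35 + 147 * q ^ 36 + 7 * q ^ 37 + 196 * q ^ 38 - 343 * q ^ 39 - 147 * q ^ 40 + 357 * q ^ 41 - 49 * q
      ^ 42 - 7 * q ^ 43 - 245 * q ^ 44 - 49 * q ^ 46 - 147 * q ^ 48 - 14 * q ^ 49 + 49 * q ^ 50 - 49 * q ^ 52 +
      147 * q ^ 54 - 7 * q ^ 55 + 49 * q ^ 56 + 14 * q ^ 57 + 98 * q ^ 58 - 49 * q ^ 60 + 7 * q ^ 61 + 49 * q ^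
      62 + 7 * q ^ 63 - 98 * q ^ 64 - 49 * q ^ 68 - 7 * q ^ 69 + 49 * q ^ 70 - 14 * q ^ 71 - 7 * q ^ 75 + 7 * q
      ^ 79 + 7 * q ^ 83 + 7 * q ^ 85 - 7 * q ^ 93 - 7 * q ^ 97 + 7 * q ^ 99) - m, by
      linear_combination -hm⟩
  have p : ∀ i, 12395 * q ^ i ≤ q ^ (i + 1) := fun i => by
    rw [pow_succ' q i]; exact mul_le_mul_of_nonneg_right hq (pow_nonneg (by omega) _)
  have p0 : 12395 * 1 ≤ q ^ 1 := by simpa using p 0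
  have p0' : q = q ^ 1 := (pow_one q).symm
  have p1 : 12395 * q ^ 1 ≤ q ^ 2 := p 1
  have p2 : 12395 * q ^ 2 ≤ q ^ 3 := p 2
  have p3 : 12395 * q ^ 3 ≤ q ^ 4 := p 3
  have p4 : 12395 * q ^ 4 ≤ q ^ 5 := p 4
  have p5 : 12395 * q ^ 5 ≤ q ^ 6 := p 5
  have p6 : 12395 * q ^ 6 ≤ q ^ 7 := p 6
  have p7 : 12395 * q ^ 7 ≤ q ^ 8 := p 7
  have p8 : 12395 * q ^ 8 ≤ q ^ 9 := p 8
  have p9 : 12395 * q ^ 9 ≤ q ^ 10 := p 9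
  have p10 : 12395 * q ^ 10 ≤ q ^ 11 := p 10
  have p11 : 12395 * q ^ 11 ≤ q ^ 12 := p 11
  have p12 : 12395 * q ^ 12 ≤ q ^ 13 := p 12
  have p13 : 12395 * q ^ 13 ≤ q ^ 14 := p 13
  have p14 : 12395 * q ^ 14 ≤ q ^ 15 := p 14
  have p15 : 12395 * q ^ 15 ≤ q ^ 16 := p 15
  have p16 : 12395 * q ^ 16 ≤ q ^ 17 := p 16
  have p17 : 12395 * q ^ 17 ≤ q ^ 18 := p 17
  have p18 : 12395 * q ^ 18 ≤ q ^ 19 := p 18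
  have p19 : 12395 * q ^ 19 ≤ q ^ 20 := p 19
  have p20 : 12395 * q ^ 20 ≤ q ^ 21 := p 20
  have p21 : 12395 * q ^ 21 ≤ q ^ 22 := p 21
  have p22 : 12395 * q ^ 22 ≤ q ^ 23 := p 22
  have p23 : 12395 * q ^ 23 ≤ q ^ 24 := p 23
  have p24 : 12395 * q ^ 24 ≤ q ^ 25 := p 24
  have p25 : 12395 * q ^ 25 ≤ q ^ 26 := p 25
  have p26 : 12395 * q ^ 26 ≤ q ^ 27 := p 26
  have p27 : 12395 * q ^ 27 ≤ q ^ 28 := p 27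
  have p28 : 12395 * q ^ 28 ≤ q ^ 29 := p 28
  have hpos : (0 : ℤ) < -146811 - 7791 * q ^ 1 + 58653 * q ^ 2 + 11417 * q ^ 3 - 49735 * q ^ 4 - 62867 * q ^ 5 + 78197 * q ^ 6 +
      6419 * q ^ 7 + 3773 * q ^ 8 - 60466 * q ^ 9 + 18172 * q ^ 10 + 42581 * q ^ 11 - 8239 * q ^ 12 - 10584 * q
      ^ 13 + 686 * q ^ 14 + 33173 * q ^ 15 + 8911 * q ^ 16 + 13769 * q ^ 17 + 12341 * q ^ 18 + 32830 * q ^ 19 +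
      10633 * q ^ 20 - 7448 * q ^ 21 + 9940 * q ^ 22 + 30821 * q ^ 23 + 16464 * q ^ 24 - 31213 * q ^ 25 + 3430
      * q ^ 26 + 5145 * q ^ 27 + 12341 * q ^ 28 := by linarith
  have hle := Int.le_of_dvd hpos hR
  linarith

theorem large8 (q : ℤ) (hq : 18428 ≤ q)
    (h : q ^ 29 + q ^ 23 + q ^ 19 + q ^ 17 + q ^ 13 + q ^ 11 + q ^ 7 + q - 8 ∣
      8 * ((q ^ 2 - 1) * (q ^ 8 - 1) * (q ^ 12 - 1) * (q ^ 14 - 1) * (q ^ 18 - 1) * (q ^ 20 - 1) * (q ^ 24 - 1) * (q ^ 30 - 1))) : False := by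
  obtain ⟨m, hm⟩ := h
  have hR : q ^ 29 + q ^ 23 + q ^ 19 + q ^ 17 + q ^ 13 + q ^ 11 + q ^ 7 + q - 8 ∣
      -288264 - 13056 * q ^ 1 + 110592 * q ^ 2 + 19712 * q ^ 3 - 97280 * q ^ 4 - 107072 * q ^ 5 + 147448 * q ^
      6 + 11264 * q ^ 7 + 5632 * q ^ 8 - 102976 * q ^ 9 + 34808 * q ^ 10 + 72896 * q ^ 11 - 19976 * q ^ 12 -
      17664 * q ^ 13 + 1024 * q ^ 14 + 56768 * q ^ 15 + 13304 * q ^ 16 + 23744 * q ^ 17 + 18424 * q ^ 18 +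
      56320 * q ^ 19 + 15872 * q ^ 20 - 12608 * q ^ 21 + 14840 * q ^ 22 + 52736 * q ^ 23 + 24576 * q ^ 24 -
      53248 * q ^ 25 + 5120 * q ^ 26 + 8640 * q ^ 27 + 18424 * q ^ 28 :=
    ⟨(36032 + 6136 * q ^ 1 - 13056 * q ^ 2 - 4096 * q ^ 3 + 11648 * q ^ 4 + 14840 * q ^ 5 - 16576 * q ^ 6 +
      1024 * q ^ 7 + 192 * q ^ 8 + 11264 * q ^ 9 - 3456 * q ^ 10 - 3584 * q ^ 11 + 4672 * q ^ 12 + 3592 * q ^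
      13 + 704 * q ^ 14 - 7160 * q ^ 15 + 192 * q ^ 16 + 512 * q ^ 17 + 64 * q ^ 18 - 5624 * q ^ 19 - 448 * q ^
      20 + 1024 * q ^ 21 - 320 * q ^ 22 - 2568 * q ^ 23 - 576 * q ^ 24 + 3584 * q ^ 25 - 320 * q ^ 26 - 16 * q
      ^ 27 - 192 * q ^ 28 + 2552 * q ^ 29 + 256 * q ^ 30 - 1024 * q ^ 31 + 192 * q ^ 32 + 1024 * q ^ 33 + 512 *
      q ^ 34 - 1528 * q ^ 35 + 192 * q ^ 36 + 8 * q ^ 37 + 256 * q ^ 38 - 512 * q ^ 39 - 192 * q ^ 40 + 528 * q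
      ^ 41 - 64 * q ^ 42 - 8 * q ^ 43 - 320 * q ^ 44 - 64 * q ^ 46 - 192 * q ^ 48 - 16 * q ^ 49 + 64 * q ^ 50 -
      64 * q ^ 52 + 192 * q ^ 54 - 8 * q ^ 55 + 64 * q ^ 56 + 16 * q ^ 57 + 128 * q ^ 58 - 64 * q ^ 60 + 8 * q
      ^ 61 + 64 * q ^ 62 + 8 * q ^ 63 - 128 * q ^ 64 - 64 * q ^ 68 - 8 * q ^ 69 + 64 * q ^ 70 - 16 * q ^ 71 - 8
      * q ^ 75 + 8 * q ^ 79 + 8 * q ^ 83 + 8 * q ^ 85 - 8 * q ^ 93 - 8 * q ^ 97 + 8 * q ^ 99) - m, by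
      linear_combination -hm⟩
  have p : ∀ i, 18428 * q ^ i ≤ q ^ (i + 1) := fun i => by
    rw [pow_succ' q i]; exact mul_le_mul_of_nonneg_right hq (pow_nonneg (by omega) _)
  have p0 : 18428 * 1 ≤ q ^ 1 := by simpa using p 0
  have p0' : q = q ^ 1 := (pow_one q).symm
  have p1 : 18428 * q ^ 1 ≤ q ^ 2 := p 1
  have p2 : 18428 * q ^ 2 ≤ q ^ 3 := p 2
  have p3 : 18428 * q ^ 3 ≤ q ^ 4 := p 3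
  have p4 : 18428 * q ^ 4 ≤ q ^ 5 := p 4
  have p5 : 18428 * q ^ 5 ≤ q ^ 6 := p 5
  have p6 : 18428 * q ^ 6 ≤ q ^ 7 := p 6
  have p7 : 18428 * q ^ 7 ≤ q ^ 8 := p 7
  have p8 : 18428 * q ^ 8 ≤ q ^ 9 := p 8
  have p9 : 18428 * q ^ 9 ≤ q ^ 10 := p 9
  have p10 : 18428 * q ^ 10 ≤ q ^ 11 := p 10
  have p11 : 18428 * q ^ 11 ≤ q ^ 12 := p 11
  have p12 : 18428 * q ^ 12 ≤ q ^ 13 := p 12
  have p13 : 18428 * q ^ 13 ≤ q ^ 14 := p 13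
  have p14 : 18428 * q ^ 14 ≤ q ^ 15 := p 14
  have p15 : 18428 * q ^ 15 ≤ q ^ 16 := p 15
  have p16 : 18428 * q ^ 16 ≤ q ^ 17 := p 16
  have p17 : 18428 * q ^ 17 ≤ q ^ 18 := p 17
  have p18 : 18428 * q ^ 18 ≤ q ^ 19 := p 18
  have p19 : 18428 * q ^ 19 ≤ q ^ 20 := p 19
  have p20 : 18428 * q ^ 20 ≤ q ^ 21 := p 20
  have p21 : 18428 * q ^ 21 ≤ q ^ 22 := p 21
  have p22 : 18428 * q ^ 22 ≤ q ^ 23 := p 22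
  have p23 : 18428 * q ^ 23 ≤ q ^ 24 := p 23
  have p24 : 18428 * q ^ 24 ≤ q ^ 25 := p 24
  have p25 : 18428 * q ^ 25 ≤ q ^ 26 := p 25
  have p26 : 18428 * q ^ 26 ≤ q ^ 27 := p 26
  have p27 : 18428 * q ^ 27 ≤ q ^ 28 := p 27
  have p28 : 18428 * q ^ 28 ≤ q ^ 29 := p 28
  have hpos : (0 : ℤ) < -288264 - 13056 * q ^ 1 + 110592 * q ^ 2 + 19712 * q ^ 3 - 97280 * q ^ 4 - 107072 * q ^ 5 + 147448 * q ^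
      6 + 11264 * q ^ 7 + 5632 * q ^ 8 - 102976 * q ^ 9 + 34808 * q ^ 10 + 72896 * q ^ 11 - 19976 * q ^ 12 -
      17664 * q ^ 13 + 1024 * q ^ 14 + 56768 * q ^ 15 + 13304 * q ^ 16 + 23744 * q ^ 17 + 18424 * q ^ 18 +
      56320 * q ^ 19 + 15872 * q ^ 20 - 12608 * q ^ 21 + 14840 * q ^ 22 + 52736 * q ^ 23 + 24576 * q ^ 24 -
      53248 * q ^ 25 + 5120 * q ^ 26 + 8640 * q ^ 27 + 18424 * q ^ 28 := by linarith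
  have hle := Int.le_of_dvd hpos hR
  linarith

theorem bound_eq (q : ℕ) : q * (q ^ 12 + 1) * (q ^ 10 + 1) * (q ^ 6 + 1) = bound q := by rw [bound]; ring

theorem not_dvd {q p a : ℕ} (hp : p.Prime) (ha : q = p ^ a) (hq : 2 ≤ q) {k : ℕ} (hk1 : 1 ≤ k) (hk8 : k ≤ 8) :
    ¬ bound q - k ∣ ord q := by
  intro h
  have h1 := small_ok
  simp only [small, List.all_eq_true, Bool.or_eq_true, decide_eq_true_eq, Bool.not_eq_true', beq_eq_false_iff_ne,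
    List.mem_range] at h1
  have hsmall : ∀ N, (k, N) ∈ [(1, 36), (2, 288), (3, 978), (4, 2301), (5, 4525), (6, 7786), (7, 12395), (8, 18428)] → N ≤ q := by
    intro N hN
    by_contra hlt
    exact (h1 (k, N) hN q (not_le.1 hlt)).resolve_left (by omega) (Nat.mod_eq_zero_of_dvd h)
  set P := (q ^ 2 - 1) * (q ^ 8 - 1) * (q ^ 12 - 1) * (q ^ 14 - 1) * (q ^ 18 - 1) * (q ^ 20 - 1) * (q ^ 24 - 1) *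
    (q ^ 30 - 1) with hP
  have hT : q ∣ bound q :=
    ⟨q ^ 28 + q ^ 22 + q ^ 18 + q ^ 16 + q ^ 12 + q ^ 10 + q ^ 6 + 1, by rw [bound]; ring⟩
  have h29 : 2 ^ 29 ≤ q ^ 29 := Nat.pow_le_pow_left hq 29
  have hB : q ^ 29 ≤ bound q := by rw [bound]; omega
  have hkT : k ≤ bound q := by omega
  set e := bound q - k with he
  have hg : Nat.gcd e (q ^ 120) ∣ k := by
    have hgp : Nat.gcd e (q ^ 120) ∣ p ^ (a * 120) := by rw [pow_mul, ← ha]; exact Nat.gcd_dvd_right _ _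
    obtain ⟨i, -, hi⟩ := (Nat.dvd_prime_pow hp).1 hgp
    have hie : p ^ i ∣ e := hi ▸ Nat.gcd_dvd_left _ _
    have key : ∀ d, d ∣ e → d ∣ bound q → d ∣ k := fun d h1 h2 => by
      have h3 := Nat.dvd_sub h2 h1
      rwa [show bound q - e = k by omega] at h3
    rw [hi]
    refine key _ hie ?_
    rcases Nat.lt_or_ge i a with hlt | hge
    · exact (pow_dvd_pow p hlt.le).trans (ha ▸ hT)
    · have hqk : q ∣ k := key q ((ha ▸ pow_dvd_pow p hge).trans hie) hT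
      have := Nat.le_of_dvd (by omega) hqk
      have : 9 ≤ q := by
        obtain ⟨N, hN9, hN⟩ : ∃ N, 9 ≤ N ∧ (k, N) ∈
            [(1, 36), (2, 288), (3, 978), (4, 2301), (5, 4525), (6, 7786), (7, 12395), (8, 18428)] := by
          interval_cases k <;> simp
        exact hN9.trans (hsmall N hN)
      omega
  have hkP : e ∣ k * P := by
    have h1 : e ∣ Nat.gcd (e * P) (q ^ 120 * P) := Nat.dvd_gcd (Dvd.intro P rfl) h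
    rw [Nat.gcd_mul_right] at h1
    exact h1.trans (Nat.mul_dvd_mul_right hg _)
  have hz := Int.natCast_dvd_natCast.2 hkP
  rw [Nat.cast_mul, hP, cast_ord q (by omega), he, Nat.cast_sub hkT, bound] at hz
  push_cast at hz
  interval_cases k
  · exact large1 (q : ℤ) (by exact_mod_cast hsmall 36 (by simp)) (by simpa using hz)
  · exact large2 (q : ℤ) (by exact_mod_cast hsmall 288 (by simp)) (by simpa using hz)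
  · exact large3 (q : ℤ) (by exact_mod_cast hsmall 978 (by simp)) (by simpa using hz)
  · exact large4 (q : ℤ) (by exact_mod_cast hsmall 2301 (by simp)) (by simpa using hz)
  · exact large5 (q : ℤ) (by exact_mod_cast hsmall 4525 (by simp)) (by simpa using hz)
  · exact large6 (q : ℤ) (by exact_mod_cast hsmall 7786 (by simp)) (by simpa using hz)
  · exact large7 (q : ℤ) (by exact_mod_cast hsmall 12395 (by simp)) (by simpa using hz)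
  · exact large8 (q : ℤ) (by exact_mod_cast hsmall 18428 (by simp)) (by simpa using hz)

end Cfsg.Agent.Small.MinusculeDegree.E8
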