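import Cfsg.Agent.Lib.Lie.FactsE8
import Cfsg.Agent.Lib.Small.MinusculeDegree.Fast

/-!
The commutators and reflections of E₈ read off the packed tables, for speed in the kernel.
-/

set_option autoImplicit false

namespace Cfsg.Agent.Small.MinusculeDegree.E8

open Cfsg.Lie Cfsg.Agent.Lie Cfsg.Agent.Lie.Cert

/-- The commutator terms from the packed table. -/
noncomputable def cm (r s : ℕ) : List (ℕ × ℤ × ℕ × ℕ) :=
  match certE8.cE r s with
  | [] => []
  | a :: _ => [(a.1, a.2, 1, 1)]

/-- The opposite root. -/
def ng (s : ℕ) : ℕ := Nat.sub 239 s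

theorem entry_eq {s : ℕ} (hs : s < 240) (v : ℕ) :
    chevE8.chainEntry s v = certE8.cE s v ∧ (chevE8.chainEntry s v).length ≤ 1 := by
  have h2 := certE8_okChain
  simp only [okChain, Bool.and_eq_true, allIdx_iff, Nat.zero_add, Nat.beq_eq, Nat.blt_eq, Nat.ble_eq, allMem_iff,
    Bool.not_eq_true', decide_eq_true_eq] at h2
  obtain ⟨hchl, hch⟩ := h2
  have hs' : s < certE8.n := hs
  obtain ⟨⟨hinc, hK⟩, hmem⟩ := hch s (hchl ▸ hs')
  have hfind : chevE8.chainEntry s v =
      (((chevE8.chain.toList[s]'(hchl ▸ hs')).toList.find? fun e => e.1 = v).map fun e => e.2.toList).getD [] := by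
    rw [ChevalleyDatum.chainEntry, array_getD_eq _ _ _ (hchl ▸ hs')]
    cases ((chevE8.chain.toList[s]'(hchl ▸ hs')).toList.find? fun e => e.1 = v) <;> rfl
  obtain ⟨row, hrow⟩ : ∃ row, row = (chevE8.chain.toList[s]'(hchl ▸ hs')).toList := ⟨_, rfl⟩
  rw [← hrow] at hfind hmem hinc hK
  have hd := dig_packAt (w := 13 * certE8.maxlen) (f := fun e : ℕ × Array (ℕ × ℤ) => encRow e.2.toList)
    v hinc fun e he => by
      have := hmem e he
      exact encRow_lt (fun a ha => (this.1.1.2 a ha).1) this.1.1.1.2
  rw [hK] at hd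
  have hall : ∀ a ∈ chevE8.chainEntry s v, fitItem a = true := by
    intro a ha
    rw [hfind] at ha
    rcases hf : (row.find? fun e => e.1 = v) with _ | e
    · rw [hf] at ha; simp at ha
    · rw [hf] at ha
      exact ((hmem e (List.mem_of_find?_eq_some hf)).1.1.2 a (by simpa using ha)).1
  have hlen : (chevE8.chainEntry s v).length ≤ certE8.maxlen := by
    rw [hfind]
    cases hf : (row.find? fun e => e.1 = v) with
    | none => exact Nat.zero_le _
    | some e => exact (hmem e (List.mem_of_find?_eq_some hf)).1.1.1.2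
  refine ⟨?_, hlen⟩
  have hdig : dig (13 * certE8.maxlen) (nth 0 certE8.K s) v = encRow (chevE8.chainEntry s v) := by
    rw [hd, hfind]
    cases (row.find? fun e => e.1 = v) <;> rfl
  rw [cE, hdig]
  exact (decRow_encRow hall hlen).symm

theorem root_none {r s i : ℕ} (hr : r < 240) (hi : 2 ≤ i) : chevE8.chainRoot r s i = none := by
  rw [ChevalleyDatum.chainRoot, List.getElem?_eq_none ((entry_eq hr s).2.trans (by omega))]
  rfl

theorem cm_eq {r s : ℕ} (hr : r < 240) (hs : s < 240) : chevE8.commTerms r s = cm r s := by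
  obtain ⟨he, hlen⟩ := entry_eq hr s
  rw [ChevalleyDatum.commTerms]
  simp only [root_none (s := s) hr le_rfl, root_none (s := r) hs le_rfl, root_none (s := s) hr (show 2 ≤ 3 by omega),
    root_none (s := r) hs (show 2 ≤ 3 by omega), Option.bind_none]
  rw [cm, ← he, ChevalleyDatum.chainRoot, ChevalleyDatum.chainM]
  rcases h : chevE8.chainEntry r s with _ | ⟨a, l⟩ <;> simp

theorem ng_eq {s : ℕ} (hs : s < 240) : chevE8.neg s = ng s := by
  have h : (List.range 240).all (fun s => decide (chevE8.neg s = ng s)) = true := by decide +kernel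
  simp only [List.all_eq_true, decide_eq_true_eq, List.mem_range] at h
  exact h s hs

theorem spec : PackSpec chevE8 cm ng := ⟨fun _ hr _ hs => cm_eq hr hs, fun _ hs => ng_eq hs⟩

theorem simple_eq {i : ℕ} (hi : i < 8) : chevE8.simple i = certE8.cS i ∧ certE8.cS i < 240 := by
  have h : (List.range 8).all (fun i => decide (chevE8.simple i = certE8.cS i) && decide (certE8.cS i < 240)) = true := by
    decide +kernel
  simp only [List.all_eq_true, Bool.and_eq_true, decide_eq_true_eq, List.mem_range] at h
  exact h i hi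

theorem cartan_eq {i s : ℕ} (hi : i < 8) (hs : s < 240) : chevE8.cartan i s = certE8.cA i s := by
  have h : (List.range 8).all (fun i => (List.range 240).all fun s => decide (chevE8.cartan i s = certE8.cA i s)) =
      true := by
    decide +kernel
  simp only [List.all_eq_true, decide_eq_true_eq, List.mem_range] at h
  exact h i hi s hs

/-- The climb from the packed tables. -/
noncomputable def climbF (nodes : List ℕ) : ℕ → ℕ → ℕ
  | 0, r => r
  | n + 1, r => match nodes.find? fun i => decide (certE8.cA i r < 0) with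
    | some i => climbF nodes n (certE8.reflFast i r)
    | none => r

theorem refl_eq {i s : ℕ} (hi : i < 8) (hs : s < 240) : chevE8.reflectRoot i s = certE8.reflFast i s := by
  obtain ⟨he, hlt⟩ := simple_eq hi
  have hng : chevE8.neg (certE8.cS i) = certE8.negC (certE8.cS i) := (ng_eq hlt).trans rfl
  have hlt' : certE8.negC (certE8.cS i) < 240 := by
    show Nat.sub (Nat.sub 240 1) (certE8.cS i) < 240
    simp only [Nat.sub_eq]
    omega
  rw [ChevalleyDatum.reflectRoot, reflFast]
  simp only [he, hng, cartan_eq hi hs]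
  by_cases a1 : s = certE8.cS i
  · simp [a1]
  by_cases a2 : s = certE8.negC (certE8.cS i)
  · subst a2; simp [a1, nbeq]
  simp only [if_neg a1, if_neg a2, ChevalleyDatum.chainRoot, (entry_eq hlt' s).1, (entry_eq hlt s).1]
  simp [a1, a2, nbeq]

theorem climb_eq {nodes : List ℕ} (hn : ∀ i ∈ nodes, i < 8) :
    ∀ n r, r < 240 → climb chevE8 nodes n r = climbF nodes n r := by
  intro n
  induction n with
  | zero => intro r _; rfl
  | succ n ih =>
    intro r hr
    rw [climb, climbF]
    have hfind : (nodes.find? fun i => decide (chevE8.cartan i r < 0)) =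
        nodes.find? fun i => decide (certE8.cA i r < 0) := by
      clear ih
      induction nodes with
      | nil => rfl
      | cons i l ihl =>
        rw [List.find?_cons, List.find?_cons, cartan_eq (hn i List.mem_cons_self) hr,
          ihl fun j hj => hn j (List.mem_cons_of_mem _ hj)]
    rw [hfind]
    rcases hf : nodes.find? (fun i => decide (certE8.cA i r < 0)) with _ | i
    · rfl
    · have hi := hn i (List.mem_of_find?_eq_some hf)
      simp only
      rw [← refl_eq hi hr]
      exact ih _ (factsE8.refl_lt i hi r hr)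

/-- `okClimb` from the packed tables. -/
noncomputable def okClimbF (nodes R : List ℕ) (s : ℕ) : Bool :=
  nodes.all (fun i => decide (i < 8) && R.contains (certE8.cS i) && R.contains (ng (certE8.cS i))) &&
    R.all fun r => decide (r < 240) && decide (climbF nodes 240 r = s)

theorem climb_of_F {nodes R : List ℕ} {s : ℕ} (h : okClimbF nodes R s = true) : okClimb chevE8 nodes R s = true := by
  simp only [okClimbF, Bool.and_eq_true, List.all_eq_true, decide_eq_true_eq] at h
  simp only [okClimb, Bool.and_eq_true, List.all_eq_true, decide_eq_true_eq]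
  refine ⟨fun i hi => ?_, fun r hr => ⟨(h.2 r hr).1, ?_⟩⟩
  · obtain ⟨⟨hlt, h1⟩, h2⟩ := h.1 i hi
    obtain ⟨he, hlt'⟩ := simple_eq hlt
    rw [he, ng_eq hlt']
    exact ⟨⟨hlt, h1⟩, h2⟩
  · exact (climb_eq (fun i hi => (h.1 i hi).1.1) _ r (h.2 r hr).1).trans (h.2 r hr).2

end Cfsg.Agent.Small.MinusculeDegree.E8
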