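import Cfsg.Agent.Lib.Small.MinusculeDegree.E8Data
import Cfsg.Agent.Lib.Small.MinusculeDegree.E8Packed
import Cfsg.Agent.Lib.Small.MinusculeDegree.CenterFast

/-!
Kernel checks in E₈: the levels E₇ and E₆.
-/

set_option autoImplicit false
set_option maxRecDepth 100000

namespace Cfsg.Agent.Small.MinusculeDegree.E8

open Cfsg.Lie Cfsg.Agent.Lie

theorem body1 : okBodyT D1 chevE8 cm ng U1 L1 16 = true := by decide +kernel
theorem comm1 : okCommT chevE8 cm ng U1 = true := by decide +kernel
theorem trace1 : okTraceT D1 chevE8 cm ng U1 L1 204 = true := by decide +kernel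
theorem scal1 : okScalT D1 chevE8 cm ng U1 L1 204 = true := by decide +kernel
theorem body2 : okBodyT D2 chevE8 cm ng U2 L2 10 = true := by decide +kernel
theorem comm2 : okCommT chevE8 cm ng U2 = true := by decide +kernel
theorem trace2 : okTraceT D2 chevE8 cm ng U2 L2 156 = true := by decide +kernel
theorem scal2 : okScalT D2 chevE8 cm ng U2 L2 156 = true := by decide +kernel

end Cfsg.Agent.Small.MinusculeDegree.E8
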