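import Cfsg.Agent.Lib.Small.MinusculeDegree.E8Data
import Cfsg.Agent.Lib.Small.MinusculeDegree.E8Packed
import Cfsg.Agent.Lib.Small.MinusculeDegree.CenterFast

/-!
Kernel checks in E₈: the centre, the climbs and the small levels.
-/

set_option autoImplicit false
set_option maxRecDepth 100000

namespace Cfsg.Agent.Small.MinusculeDegree.E8

open Cfsg.Lie Cfsg.Agent.Lie

/-- The first root of `A`. -/
def o : Fin A.length := ⟨0, by decide⟩

theorem centerT : okCenterT DA chevE8 cm ng A LA o 226 28 22 = true := by decide +kernel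
theorem moverT : ((adjA DA A o).any fun p => decide (p.2 = 238)) = true := by decide +kernel
theorem climb0F : okClimbF [0, 1, 2, 3, 4, 5, 6] L0 226 = true := by decide +kernel
theorem climb1F : okClimbF [0, 1, 2, 3, 4, 5] L1 204 = true := by decide +kernel
theorem climb2F : okClimbF [1, 2, 3, 4, 5] L2 156 = true := by decide +kernel
theorem climbUF : U0.all (fun r => decide (r < 240) && decide (climbF [0, 1, 2, 3, 4, 5, 6] 240 r = 238)) = true := by
  decide +kernel
theorem climbTopF : [239, 238, 226].all (fun r => decide (r < 240) &&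
    decide (climbF [0, 1, 2, 3, 4, 5, 6, 7] 240 r = 239)) = true := by
  decide +kernel
theorem okScA : okScalar chevE8 A LA 226 o = true := by
  have h : 163 ∈ LA ∧ 214 ∈ LA ∧ 214 ≠ 163 ∧ 214 ≠ ng 163 ∧ okTab DA chevE8 cm ng A LA = true ∧
      movedT DA A 163 o = false ∧ movedT DA A 214 o = false ∧
      (cm 163 214 = [(226, 1, 1, 1)] ∨ cm 163 214 = [(226, -1, 1, 1)]) := by decide +kernel
  obtain ⟨h1, h2, h3, h4, htab, h5, h6, h7⟩ := h
  simp only [okScalar, List.any_eq_true, Bool.and_eq_true, decide_eq_true_eq, Bool.or_eq_true, Bool.not_eq_true']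
  refine ⟨163, h1, 214, h2, ?_⟩
  rw [cm_eq (by decide) (by decide), ng_eq (by decide)]
  have hm : ∀ α ∈ LA, movedAt chevE8 A α o = movedT DA A α o := fun α hα => by
    simp only [movedAt, movedT, tab_spec spec htab hα]
  exact ⟨⟨⟨⟨h3, h4⟩, (hm _ h1).trans h5⟩, (hm _ h2).trans h6⟩, h7⟩
theorem centre_ok : okComm chevE8 [239] = true ∧ CH.all (okAct chevE8 [239]) = true := by decide +kernel
theorem shape3 : levelShape chevE8 U3 L3 138 = [(6, false), (5, false), (4, true), (4, false), (3, true), (3, true), (2, true), (2, true), (1,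
      true), (0, true)] := by decide +kernel
theorem shape4 : levelShape chevE8 U4 L4 132 = [(3, false), (2, true), (1, true), (0, true)] := by decide +kernel
theorem shape5 : levelShape chevE8 U5 L5 127 = [(2, false), (1, true), (0, true)] := by decide +kernel
theorem shape6 : levelShape chevE8 U6 L6 123 = [(1, false), (0, true)] := by decide +kernel
theorem shape7 : levelShape chevE8 U7 [] 123 = [(0, true)] := by decide +kernel

end Cfsg.Agent.Small.MinusculeDegree.E8
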