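import Cfsg.Agent.Lib.Small.MinusculeDegree.E8Check0
import Cfsg.Agent.Lib.Small.MinusculeDegree.E8Check2
import Cfsg.Agent.Lib.Small.MinusculeDegree.E8Check3
import Cfsg.Agent.Lib.Small.MinusculeDegree.E8Arith
import Cfsg.Agent.Lib.Lie.FactsE8
import Cfsg.Agent.Lib.Lie.WeylE8
import Cfsg.Agent.Lib.Lie.GroupCard
import Cfsg.Agent.Lib.Lie.TorusCerts
import Cfsg.Agent.Lib.Lie.Perfect
import Cfsg.Agent.Lib.Lie.Simple
import Cfsg.Agent.Lib.Char.Central
import Cfsg.Agent.Lib.Char.Burnside

/-!
The minimal degree of the nontrivial complex representations of E₈(q).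
-/

set_option autoImplicit false
set_option maxRecDepth 4000
set_option linter.unusedSectionVars false

namespace Cfsg.Agent.Small.MinusculeDegree.E8

open Cfsg.Lie Cfsg.Agent.Lie Finset
open Cfsg.Agent.Small.D4Degree (wp_idem)
open scoped MatrixGroups

theorem sum_split (q : ℕ) (hq : 2 ≤ q) :
    (cellSum chevE8 U0 L0 q (fun _ => true) + q * q ^ 16 + (q - 1) * q ^ 28 =
      cellSum chevE8 U0 L0 q (fun r => !movedAt chevE8 U0 226 r) + q * q ^ 28 + (q - 1) * q ^ 22) ∧
    (cellSum chevE8 U1 L1 q (fun _ => true) + q * q ^ 10 =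
      cellSum chevE8 U1 L1 q (fun r => !movedAt chevE8 U1 204 r) + q * q ^ 16) ∧
    (cellSum chevE8 U2 L2 q (fun _ => true) + q * q ^ 6 =
      cellSum chevE8 U2 L2 q (fun r => !movedAt chevE8 U2 156 r) + q * q ^ 10) ∧
    (cellSum chevE8 U3 L3 q (fun _ => true) + q * q ^ 3 =
      cellSum chevE8 U3 L3 q (fun r => !movedAt chevE8 U3 138 r) + q * q ^ 6) ∧
    (cellSum chevE8 U4 L4 q (fun _ => true) + q * q ^ 2 =
      cellSum chevE8 U4 L4 q (fun r => !movedAt chevE8 U4 132 r) + q * q ^ 3) ∧
    (cellSum chevE8 U5 L5 q (fun _ => true) + q * q ^ 1 =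
      cellSum chevE8 U5 L5 q (fun r => !movedAt chevE8 U5 127 r) + q * q ^ 2) ∧
    (cellSum chevE8 U6 L6 q (fun _ => true) + q * q ^ 0 =
      cellSum chevE8 U6 L6 q (fun r => !movedAt chevE8 U6 123 r) + q * q ^ 1) ∧
    (((q - 1) * q ^ 28 + cellSum chevE8 U0 L0 q (fun _ => true) +
      cellSum chevE8 U1 L1 q (fun _ => true) +
      cellSum chevE8 U2 L2 q (fun _ => true) +
      cellSum chevE8 U3 L3 q (fun _ => true) +
      cellSum chevE8 U4 L4 q (fun _ => true) +
      cellSum chevE8 U5 L5 q (fun _ => true) +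
      cellSum chevE8 U6 L6 q (fun _ => true) +
      cellSum chevE8 U7 [] q (fun _ => true)) + 8 = bound q) ∧
    (q = 2 → bound q ≤ (q - 1) * q ^ 28 + cellSum chevE8 U0 L0 q (fun _ => true) +
      cellSum chevE8 U1 L1 q (fun _ => true) +
      cellSum chevE8 U2 L2 q (fun _ => true) +
      cellSum chevE8 U3 L3 q (fun _ => true) + 100) := by
  have h0 : levelShape chevE8 U0 L0 226 = [(27, false), (26, false), (25, false), (24, false), (23, false), (22, false), (22, false), (21,
      false), (21, true), (20, false), (20, true), (19, false), (19, true), (18, false), (18, true), (18,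
      true), (17, false), (17, true), (17, true), (16, true), (16, true), (16, true), (15, true), (15,
      true), (15, true), (14, true), (14, true), (14, true), (13, true), (13, true), (13, true), (12,
      true), (12, true), (12, true), (11, true), (11, true), (11, true), (10, true), (10, true), (10,
      true), (9, true), (9, true), (9, true), (8, true), (8, true), (7, true), (7, true), (6, true), (6,
      true), (5, true), (5, true), (4, true), (3, true), (2, true), (1, true), (0, true)] :=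
    (shape_of_T spec body0 (by decide)).trans (by decide +kernel)
  have h1 : levelShape chevE8 U1 L1 204 = [(16, false), (15, false), (14, false), (13, false), (12, false), (12, true), (11, false), (11,
      true), (10, true), (10, true), (9, true), (9, true), (8, true), (8, true), (8, true), (7, true), (7,
      true), (6, true), (6, true), (5, true), (5, true), (4, true), (4, true), (3, true), (2, true), (1,
      true), (0, true)] :=
    (shape_of_T spec body1 (by decide)).trans (by decide +kernel)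
  have h2 : levelShape chevE8 U2 L2 156 = [(10, false), (9, false), (8, false), (7, true), (7, false), (6, true), (6, true), (5, true), (5,
      true), (4, true), (4, true), (3, true), (3, true), (2, true), (1, true), (0, true)] :=
    (shape_of_T spec body2 (by decide)).trans (by decide +kernel)
  have h3 : levelShape chevE8 U3 L3 138 = [(6, false), (5, false), (4, true), (4, false), (3, true), (3, true), (2, true), (2, true), (1,
      true), (0, true)] := shape3
  have h4 : levelShape chevE8 U4 L4 132 = [(3, false), (2, true), (1, true), (0, true)] := shape4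
  have h5 : levelShape chevE8 U5 L5 127 = [(2, false), (1, true), (0, true)] := shape5
  have h6 : levelShape chevE8 U6 L6 123 = [(1, false), (0, true)] := shape6
  have h7 : levelShape chevE8 U7 [] 123 = [(0, true)] := shape7
  rw [(cellSum_shape (D := chevE8) (U := U0) (L := L0) (s := 226) q).1, (cellSum_shape (D := chevE8) (U := U1) (L := L1) (s := 204) q).1, (cellSum_shape (D := chevE8) (U := U2) (L := L2) (s := 156) q).1, (cellSum_shape (D := chevE8) (U := U3) (L := L3) (s := 138) q).1, (cellSum_shape (D := chevE8) (U := U4) (L := L4) (s := 132) q).1, (cellSum_shape (D := chevE8) (U := U5) (L := L5) (s := 127) q).1, (cellSum_shape (D := chevE8) (U := U6) (L := L6) (s := 123) q).1, (cellSum_shape (D := chevE8) (U := U7) (L := []) (s := 123) q).1, (cellSum_shape (D := chevE8) (U := U0) (L := L0) (s := 226) q).2, (cellSum_shape (D := chevE8) (U := U1) (L := L1) (s := 204) q).2, (cellSum_shape (D := chevE8) (U := U2) (L := L2) (s := 156) q).2, (cellSum_shape (D := chevE8) (U := U3) (L :=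 L3) (s := 138) q).2, (cellSum_shape (D := chevE8) (U := U4) (L := L4) (s := 132) q).2, (cellSum_shape (D := chevE8) (U := U5) (L := L5) (s := 127) q).2, (cellSum_shape (D := chevE8) (U := U6) (L := L6) (s := 123) q).2, h0, h1, h2, h3, h4, h5, h6, h7]
  obtain ⟨n, rfl⟩ : ∃ n, q = n + 1 := ⟨q - 1, by omega⟩
  simp only [List.map_cons, List.map_nil, List.sum_cons, List.sum_nil, List.filter_cons, List.filter_nil,
    Nat.add_sub_cancel, bound, Bool.false_eq_true, if_false, if_true]
  refine ⟨by ring, by ring, by ring, by ring, by ring, by ring, by ring, by ring, fun h => ?_⟩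
  obtain rfl : n = 1 := by omega
  norm_num

theorem mem_of {L R : List ℕ} (h : L.all (fun r => R.contains r) = true) : ∀ r ∈ L, r ∈ R := by
  simpa [List.all_eq_true] using h

theorem inL0 : (U1 ++ L1).all (fun r => L0.contains r) = true := by decide +kernel
theorem inL1 : (U2 ++ L2).all (fun r => L1.contains r) = true := by decide +kernel
theorem inL2 : (U3 ++ L3).all (fun r => L2.contains r) = true := by decide +kernel
theorem inL3 : (U4 ++ L4).all (fun r => L3.contains r) = true := by decide +kernel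
theorem inL4 : (U5 ++ L5).all (fun r => L4.contains r) = true := by decide +kernel
theorem inL5 : (U6 ++ L6).all (fun r => L5.contains r) = true := by decide +kernel
theorem inL6 : U7.all (fun r => L6.contains r) = true := by decide +kernel
theorem inCH : (U0 ++ L0).all (fun r => CH.contains r) = true := by decide +kernel
theorem sub_left {U L R : List ℕ} (h : (U ++ L).all (fun r => R.contains r) = true) : ∀ r ∈ U, r ∈ R :=
  fun r hr => mem_of h r (List.mem_append_left _ hr)
theorem sub_right {U L R : List ℕ} (h : (U ++ L).all (fun r => R.contains r) = true) : ∀ r ∈ L, r ∈ R :=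
  fun r hr => mem_of h r (List.mem_append_right _ hr)

theorem okA : okCenter chevE8 A LA o 226 28 22 = true := (center_of_T spec centerT).1

theorem mover238 : ((adj chevE8 A LA o).any fun p => decide (p.2 = 238)) = true := by
  rw [(center_of_T spec centerT).2]; exact moverT

theorem climb0 : okClimb chevE8 [0, 1, 2, 3, 4, 5, 6] L0 226 = true := climb_of_F climb0F

theorem climbU : U0.all (fun r => decide (r < 240) && decide (climb chevE8 [0, 1, 2, 3, 4, 5, 6] 240 r = 238)) = true := by
  have h := climbUF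
  simp only [List.all_eq_true, Bool.and_eq_true, decide_eq_true_eq] at h ⊢
  exact fun r hr => ⟨(h r hr).1, (climb_eq (by decide) _ r (h r hr).1).trans (h r hr).2⟩

theorem climbTop : [239, 238, 226].all (fun r => decide (climb chevE8 [0, 1, 2, 3, 4, 5, 6, 7] 240 r = 239)) = true := by
  have h := climbTopF
  simp only [List.all_eq_true, Bool.and_eq_true, decide_eq_true_eq] at h ⊢
  exact fun r hr => (climb_eq (by decide) _ r (h r hr).1).trans (h r hr).2

theorem okHeis : U0.all (fun u => U0.all fun w => decide (u = w) || (decide (u < chevE8.nroots) &&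
    decide (w < chevE8.nroots) && decide (w ≠ chevE8.neg u) &&
      (chevE8.commTerms u w).all fun c => decide (c.1 = 239))) = true := by
  have h := heis0
  simp only [List.all_eq_true, Bool.or_eq_true, Bool.and_eq_true, decide_eq_true_eq] at h ⊢
  refine fun u hu w hw => (h u hu w hw).imp id ?_
  rintro ⟨⟨⟨h1, h2⟩, h3⟩, h4⟩
  rw [cm_eq h1 h2, ng_eq h1]
  exact ⟨⟨⟨h1, h2⟩, h3⟩, h4⟩

theorem hnodes : [0, 1, 2, 3, 4, 5, 6, 7].all (fun i => decide (i < chevE8.rank) &&
    decide (chevE8.simple i < 240) && decide (chevE8.neg (chevE8.simple i) < 240)) = true := by decide +kernel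

theorem cartanTop : chevE8.cartan 7 239 = 1 ∧
    (List.range 8).all (fun j => decide (j = 7) || decide (chevE8.cartan j 239 = 0)) = true := by decide +kernel

variable {F : Type*} [Field F] [Fintype F]

theorem ord_dvd {q : ℕ} (hq : Fintype.card F = q) : Nat.card ↥(chevE8.group F) ∣ ord q := by
  have hg := factsE8.card_group (F := F) hq kerCertE8 [2, 8, 12, 14, 18, 20, 24, 30] rfl lenSumE8
  refine Dvd.intro_left (∏ a, Nat.gcd ((![] : Fin 0 → ℕ) a) (q - 1)) (hg.trans ?_)
  rw [ord, show chevE8.nroots / 2 = 120 from rfl]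
  simp only [List.map_cons, List.map_nil, List.prod_cons, List.prod_nil, mul_one, mul_assoc]

theorem bound_le_twice {q : ℕ} (hq : 2 ≤ q) : bound q ≤ 2 * ((q - 1) * (q ^ 28 + q ^ 27)) := by
  have h : (q - 1) * (q ^ 28 + q ^ 27) + q ^ 27 = q ^ 29 := by
    obtain ⟨n, rfl⟩ : ∃ n, q = n + 1 := ⟨q - 1, by omega⟩
    rw [Nat.add_sub_cancel]; ring
  have hm : ∀ a b : ℕ, a ≤ b → q ^ a ≤ q ^ b := fun a b h => Nat.pow_le_pow_right (by omega) h
  have h4 : 4 ≤ q * q := Nat.mul_le_mul hq hq
  have e27 : 4 * q ^ 27 ≤ q ^ 29 := by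
    calc 4 * q ^ 27 ≤ q * q * q ^ 27 := Nat.mul_le_mul_right _ h4
      _ = q ^ 29 := by ring
  have e25 : 4 * q ^ 25 ≤ q ^ 27 := by
    calc 4 * q ^ 25 ≤ q * q * q ^ 25 := Nat.mul_le_mul_right _ h4
      _ = q ^ 27 := by ring
  have := hm 23 25 (by omega)
  have := hm 19 25 (by omega)
  have := hm 17 25 (by omega)
  have := hm 13 25 (by omega)
  have := hm 11 25 (by omega)
  have := hm 7 25 (by omega)
  have : q ^ 1 ≤ q ^ 25 := hm 1 25 (by omega)
  rw [pow_one] at this
  rw [bound]
  linarith

theorem roots_comm {M : Type*} [AddCommGroup M] [Module ℂ M] [FiniteDimensional ℂ M]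
    {ρ : ↥(chevE8.group F) →* Module.End ℂ M} {E : Module.End ℂ M} (hidem : E * E = E)
    (hcU : ∀ u ∈ U0, ∀ t, Commute (op ρ (factsE8.xg u t)) E)
    (hZ : ∀ t, op ρ (factsE8.xg 239 t) * E = E) :
    ∀ u ∈ U0, ∀ w ∈ U0, ∀ t t' : F,
      Commute (op ρ (factsE8.xg u t) * E) (op ρ (factsE8.xg w t') * E) := by
  intro u hu w hw t t'
  have hmerge : ∀ x z a b, z ∈ U0 → op ρ (factsE8.xg x a) * E * (op ρ (factsE8.xg z b) * E) =
      op ρ (factsE8.xg x a * factsE8.xg z b) * E := fun x z a b hz => by
    rw [op_mul ρ (factsE8.xg_mem_group _ _) (factsE8.xg_mem_group _ _), mul_assoc _ E, ← mul_assoc E,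
      ← (hcU z hz b).eq, mul_assoc _ E E, hidem, ← mul_assoc]
  show _ = _
  rw [hmerge _ _ _ _ hw, hmerge _ _ _ _ hu]
  by_cases huw : u = w
  · subst huw; rw [← factsE8.xg_add, ← factsE8.xg_add, add_comm]
  have hh := okHeis
  simp only [List.all_eq_true, Bool.or_eq_true, Bool.and_eq_true, decide_eq_true_eq] at hh
  obtain ⟨⟨⟨hult, hwlt⟩, hneg⟩, hterms⟩ := (hh u hu w hw).resolve_left huw
  have key := (factsE8.tsys F).x_comm u w hult hwlt (Ne.symm huw) hneg t t'
  simp only [factsE8.tsys_x, ChevalleyDatum.commWord, List.map_map] at key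
  have hword : ∀ l : List (ℕ × ℤ × ℕ × ℕ), (∀ c ∈ l, c.1 = 239) → ∀ f : ℕ × ℤ × ℕ × ℕ → F,
      op ρ (l.map fun c => factsE8.xg c.1 (f c)).prod * E = E := by
    intro l hl f
    induction l with
    | nil => rw [List.map_nil, List.prod_nil, op_one, one_mul]
    | cons c l ih =>
      rw [List.map_cons, List.prod_cons, op_mul ρ (factsE8.xg_mem_group _ _) (Subgroup.list_prod_mem _ fun g hg => by
        obtain ⟨c', -, rfl⟩ := List.mem_map.1 hg
        exact factsE8.xg_mem_group _ _), mul_assoc, ih (fun c' hc' => hl c' (List.mem_cons_of_mem _ hc')),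
        hl c List.mem_cons_self, hZ]
  have hm : ((chevE8.commTerms u w).map fun c => factsE8.xg c.1 ((c.2.1 : F) * (-t) ^ c.2.2.1 * t' ^ c.2.2.2)).prod
      ∈ chevE8.group F := Subgroup.list_prod_mem _ fun g hg => by
    obtain ⟨c', -, rfl⟩ := List.mem_map.1 hg
    exact factsE8.xg_mem_group _ _
  simp only [Function.comp_def] at key
  rw [key, op_mul ρ (mul_mem (factsE8.xg_mem_group _ _) (factsE8.xg_mem_group _ _)) hm, mul_assoc,
    hword _ hterms]

/-- The chain from the Heisenberg quotient down. -/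
theorem chain_bound {k : ℕ} {ρ : Representation ℂ ↥(chevE8.group F) (Fin k → ℂ)} {ψ : AddChar F ℂ} (hψ : ψ ≠ 1)
    {E : Module.End ℂ (Fin k → ℂ)} (hf : Frame factsE8 ρ U0 L0 E)
    (hT : ∀ c : Fin chevE8.rank → Fˣ, Commute (op ρ (torus chevE8 F c)) E)
    (htrE : LinearMap.trace ℂ (Fin k → ℂ) E + (((Fintype.card F - 1) * Fintype.card F ^ 28 : ℕ) : ℂ) = (k : ℂ))
    (hdef : Deficit factsE8 ρ U0 E 27)
    (hdefs : ∀ v : F, v ≠ 0 → LinearMap.trace ℂ (Fin k → ℂ) (op ρ (factsE8.xg 226 v) * E) =
      LinearMap.trace ℂ (Fin k → ℂ) E - ((Fintype.card F : ℂ) * (Fintype.card F : ℂ) ^ 28 -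
        (((Fintype.card F - 1) * Fintype.card F ^ 28 : ℕ) : ℂ) +
        (((Fintype.card F - 1) * Fintype.card F ^ 22 : ℕ) : ℂ))) :
    (Fintype.card F = 2 → bound (Fintype.card F) ≤ k + 100) ∧
      (3 ≤ Fintype.card F → bound (Fintype.card F) ≤ k + 8) := by
  classical
  obtain ⟨s0, s1, s2, s3, s4, s5, s6, stot, stwo⟩ := sum_split (Fintype.card F) Fintype.one_lt_card
  have hscal0 := scal_of_T spec body0 (by decide) scal0
  have hid0 : (cellSum chevE8 U0 L0 (Fintype.card F) (fun _ => true) : ℂ) +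
      (Fintype.card F : ℂ) * ((Fintype.card F ^ 16 : ℕ) : ℂ) =
      (cellSum chevE8 U0 L0 (Fintype.card F) (fun r => !movedAt chevE8 U0 226 r) : ℂ) +
        ((Fintype.card F : ℂ) * (Fintype.card F : ℂ) ^ 28 -
        (((Fintype.card F - 1) * Fintype.card F ^ 28 : ℕ) : ℂ) +
        (((Fintype.card F - 1) * Fintype.card F ^ 22 : ℕ) : ℂ)) := by
    have h := congrArg (Nat.cast : ℕ → ℂ) s0
    push_cast at h ⊢
    linear_combination h
  obtain ⟨st1, e0⟩ := step_gen hf hψ hT (body_of_T spec body0) (trace_of_T spec body0 trace0) (climb_of_F climb0F) hdef hdefs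
    (fun r hr c _ h1 w => scal_spec hf (by decide) hscal0 (fun h => absurd h Bool.false_ne_true) hT r hr c h1 w) hid0
  have ok1 : okLevel chevE8 U1 L1 16 = true := by rw [okLevel, comm_of_T spec comm1, body_of_T spec body1]; rfl
  have ok2 : okLevel chevE8 U2 L2 10 = true := by rw [okLevel, comm_of_T spec comm2, body_of_T spec body2]; rfl
  obtain ⟨st2, e1⟩ := st1.step hψ (U := U1) (L := L1) (sub_left inL0) (sub_right inL0) ok1
    (trace_of_T spec body1 trace1) (scal_of_T spec body1 (by decide) scal1) (fun h => absurd h Bool.false_ne_true) (climb_of_F climb1F) s1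
  obtain ⟨st3, e2⟩ := st2.step hψ (U := U2) (L := L2) (sub_left inL1) (sub_right inL1) ok2
    (trace_of_T spec body2 trace2) (scal_of_T spec body2 (by decide) scal2) (fun h => absurd h Bool.false_ne_true) (climb_of_F climb2F) s2
  refine ⟨fun h2 => ?_, fun h3 => ?_⟩
  · obtain ⟨m, hm, hle⟩ := st3.last hψ (U := U3) (L := L3) (sub_left inL2) (sub_right inL2) ok3.1
    rw [e0, e1, e2, hm] at htrE
    have e : k = m + cellSum chevE8 U2 L2 (Fintype.card F) (fun _ => true) +
        cellSum chevE8 U1 L1 (Fintype.card F) (fun _ => true) +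
        cellSum chevE8 U0 L0 (Fintype.card F) (fun _ => true) + (Fintype.card F - 1) * Fintype.card F ^ 28 := by
      exact_mod_cast htrE.symm
    have := stwo h2
    omega
  obtain ⟨st4, e3⟩ := st3.step hψ (U := U3) (L := L3) (sub_left inL2) (sub_right inL2) ok3.1 ok3.2.1 ok3.2.2.1
    (fun _ => h3) ok3.2.2.2 s3
  obtain ⟨st5, e4⟩ := st4.step hψ (U := U4) (L := L4) (sub_left inL3) (sub_right inL3) ok4.1 ok4.2.1 ok4.2.2.1
    (fun _ => h3) ok4.2.2.2 s4
  obtain ⟨st6, e5⟩ := st5.step hψ (U := U5) (L := L5) (sub_left inL4) (sub_right inL4) ok5.1 ok5.2.1 ok5.2.2.1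
    (fun _ => h3) ok5.2.2.2 s5
  obtain ⟨st7, e6⟩ := st6.step hψ (U := U6) (L := L6) (sub_left inL5) (sub_right inL5) ok6.1 ok6.2.1 ok6.2.2.1
    (fun _ => h3) ok6.2.2.2 s6
  obtain ⟨m, hm, hle⟩ := st7.last hψ (U := U7) (L := []) (mem_of inL6) (fun _ h => absurd h List.not_mem_nil) ok7
  rw [e0, e1, e2, e3, e4, e5, e6, hm] at htrE
  have e : k = m + cellSum chevE8 U6 L6 (Fintype.card F) (fun _ => true) +
      cellSum chevE8 U5 L5 (Fintype.card F) (fun _ => true) +
      cellSum chevE8 U4 L4 (Fintype.card F) (fun _ => true) +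
      cellSum chevE8 U3 L3 (Fintype.card F) (fun _ => true) +
      cellSum chevE8 U2 L2 (Fintype.card F) (fun _ => true) +
      cellSum chevE8 U1 L1 (Fintype.card F) (fun _ => true) +
      cellSum chevE8 U0 L0 (Fintype.card F) (fun _ => true) + (Fintype.card F - 1) * Fintype.card F ^ 28 := by
    exact_mod_cast htrE.symm
  omega

theorem main {k : ℕ} (ρ : Representation ℂ ↥(chevE8.group F) (Fin k → ℂ)) (hirr : ρ.IsIrreducible) (hk : 2 ≤ k) :
    bound (Fintype.card F) ≤ k := by
  classical
  haveI hsimple := (factsE8.isSimple (F := F) okConnE8 (perfect_big factsE8 okPerfE8) (by decide)).1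
  have hinj : Function.Injective ρ := by
    refine (MonoidHom.ker_eq_bot_iff _).1
      ((IsSimpleGroup.eq_bot_or_eq_top_of_normal (MonoidHom.ker ρ) inferInstance).resolve_right fun htop => ?_)
    have htriv : ∀ g, ρ g = 1 := fun g => MonoidHom.mem_ker.1 (htop ▸ Subgroup.mem_top g)
    haveI : Nonempty (Fin k) := ⟨⟨0, by omega⟩⟩
    obtain ⟨v, hv⟩ := exists_ne (0 : Fin k → ℂ)
    let W : Subrepresentation ρ := ⟨Submodule.span ℂ {v}, fun g x hx => by rw [htriv]; exact hx⟩
    haveI := hirr
    rcases eq_bot_or_eq_top W with h | h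
    · have h1 : (Submodule.span ℂ {v} : Submodule ℂ (Fin k → ℂ)) = ⊥ := congrArg Subrepresentation.toSubmodule h
      exact hv (by simpa using h1)
    · have h1 : (Submodule.span ℂ {v} : Submodule ℂ (Fin k → ℂ)) = ⊤ := congrArg Subrepresentation.toSubmodule h
      have h2 := finrank_span_singleton (K := ℂ) hv
      rw [h1, finrank_top, Module.finrank_fin_fun] at h2
      omega
  obtain ⟨ψ, hψ⟩ : ∃ ψ : AddChar F ℂ, ψ ≠ 1 :=
    Fintype.exists_ne_of_one_lt_card (by rw [AddChar.card_eq]; exact Fintype.one_lt_card) 1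
  set τ := LinearMap.trace ℂ (Fin k → ℂ) (op ρ (factsE8.xg 239 (1 : F)) * 1) with hτ
  have hhn := hnodes
  simp only [List.all_eq_true, Bool.and_eq_true, decide_eq_true_eq] at hhn
  have htr : ∀ r ∈ [239, 238, 226], ∀ v : F, v ≠ 0 →
      LinearMap.trace ℂ (Fin k → ℂ) (op ρ (factsE8.xg r v) * 1) = τ := by
    intro r hr v hv
    have hclimb := climbTop
    simp only [List.all_eq_true, decide_eq_true_eq] at hclimb
    obtain ⟨v', hv', he⟩ := trace_climb (hF := factsE8) (ρ := ρ) (R := List.range 240)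
      (nodes := [0, 1, 2, 3, 4, 5, 6, 7]) (fun i hi => ⟨(hhn i hi).1.1, List.mem_range.2 (hhn i hi).1.2,
        List.mem_range.2 (hhn i hi).2⟩) (fun _ _ _ => Commute.one_right _) 240 r
      (by simp only [List.mem_cons, List.not_mem_nil, or_false] at hr; rcases hr with rfl | rfl | rfl <;> decide)
      (hclimb r hr) v hv
    rw [he, hτ]
    obtain ⟨c, hc⟩ : ∃ c : Fin chevE8.rank → Fˣ, c = Pi.mulSingle ⟨7, by decide⟩ (Units.mk0 v' hv') := ⟨_, rfl⟩
    have hc0 := cartanTop.2
    simp only [List.all_eq_true, Bool.or_eq_true, decide_eq_true_eq, List.mem_range] at hc0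
    have hchar : torChar chevE8 c 239 = Units.mk0 v' hv' := by
      rw [torChar, Finset.prod_eq_single (⟨7, by decide⟩ : Fin chevE8.rank) (fun j _ hj => ?_)
        (fun h => absurd (Finset.mem_univ _) h), hc, Pi.mulSingle_eq_same]
      · rw [show chevE8.cartan (⟨7, by decide⟩ : Fin chevE8.rank).val 239 = 1 from cartanTop.1, zpow_one]
      · rw [hc, Pi.mulSingle_eq_of_ne hj, one_zpow]
    have h := trace_conj (E := (1 : Module.End ℂ (Fin k → ℂ))) ρ (factsE8.torus_mem_group c)
      (factsE8.xg_mem_group 239 (1 : F)) (Commute.one_right _)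
    rw [factsE8.torus_conj c (by decide), hchar, Units.val_mk0, mul_one] at h
    simpa using h
  -- the frames of the centre
  have hA := okA
  simp only [okCenter, Bool.and_eq_true, List.all_eq_true] at hA
  have hf : Frame factsE8 ρ A LA (1 : Module.End ℂ (Fin k → ℂ)) :=
    ⟨one_mul _, hom_of_okComm hA.1.1.1.1.1.1.1 (one_mul _) (fun _ _ _ => Commute.one_right _),
      lt_of_okComm hA.1.1.1.1.1.1.1, hA.1.1.1.1.1.1.2, fun _ _ _ => Commute.one_right _,
      fun _ _ _ => Commute.one_right _⟩
  obtain ⟨hcomm239, hactCH⟩ := centre_ok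
  simp only [List.all_eq_true] at hactCH
  have hf' : Frame factsE8 ρ [A[o.val]] CH (1 : Module.End ℂ (Fin k → ℂ)) :=
    ⟨one_mul _, hom_of_okComm hcomm239 (one_mul _) (fun _ _ _ => Commute.one_right _), lt_of_okComm hcomm239,
      hactCH, fun _ _ _ => Commute.one_right _, fun _ _ _ => Commute.one_right _⟩
  have htrone : LinearMap.trace ℂ (Fin k → ℂ) (1 : Module.End ℂ (Fin k → ℂ)) = (k : ℂ) := by
    rw [LinearMap.trace_one, Module.finrank_fin_fun]
  -- the common multiplicity
  obtain ⟨m, hm⟩ : ∃ m, m = mu factsE8 ρ A ψ 1 (Pi.single o (1 : F)) := ⟨_, rfl⟩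
  have hmc : ∀ c : F, c ≠ 0 → mu factsE8 ρ A ψ 1 (Pi.single o c) = m ∧
      ((k : ℂ) - τ) = (Fintype.card F : ℂ) * ((Fintype.card F ^ 28 * m : ℕ) : ℂ) := by
    have hN : ∀ v : F, v ≠ 0 → LinearMap.trace ℂ (Fin k → ℂ) (op ρ (factsE8.xg A[o.val] v) * 1) =
        LinearMap.trace ℂ (Fin k → ℂ) 1 - (Fintype.card F : ℂ) * (((k : ℂ) - τ) / (Fintype.card F : ℂ)) := by
      intro v hv
      rw [show A[o.val] = 239 from rfl, htr 239 (by simp) v hv, htrone,
        mul_div_cancel₀ _ (Cfsg.Agent.Small.D4Degree.card_ne F)]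
      ring
    intro c hc
    have h1 := center_mult hf okA hψ hN (one_ne_zero (α := F))
    have h2 := center_mult hf okA hψ hN hc
    refine ⟨?_, ?_⟩
    · rw [h1, Nat.cast_inj] at h2
      rw [hm]
      exact (Nat.eq_of_mul_eq_mul_left (pow_pos Fintype.card_pos _) h2).symm
    · rw [hm, ← h1, mul_div_cancel₀ _ (Cfsg.Agent.Small.D4Degree.card_ne F)]
  obtain ⟨-, hkτ⟩ := hmc 1 one_ne_zero
  have hm0 : m ≠ 0 := by
    intro h0
    have hfib : okFib chevE8 A LA 28 o = true := (center_spec okA).1
    have hzero : ∀ y : Fin A.length → F, y o ≠ 0 → mu factsE8 ρ A ψ 1 y = 0 := by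
      intro y hy
      have h := center_fibre hf okA hy (mu factsE8 ρ A ψ 1) (adj chevE8 A LA o) (fun p hp => hp) (adj_nodup hfib)
        (fun p hp v z => mu_tau hf (adj_spec hp).1 v z)
      rw [(hmc _ hy).1, h0, smul_zero] at h
      exact Finset.sum_eq_zero_iff.1 h y (Finset.mem_filter.2 ⟨Finset.mem_univ _, rfl, trivial,
        fun p hp hn => absurd hp hn⟩)
    have h : op ρ (factsE8.xg A[o.val] (1 : F)) * (1 : Module.End ℂ (Fin k → ℂ)) = 1 := by
      rw [← R_single hf]
      conv_rhs => rw [← sum_P (ψ := ψ) hf hψ]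
      calc R factsE8 ρ A 1 (Pi.single o 1) = R factsE8 ρ A 1 (Pi.single o 1) * 1 := (mul_one _).symm
        _ = ∑ y, R factsE8 ρ A 1 (Pi.single o 1) * P factsE8 ρ A ψ 1 y := by rw [← Finset.mul_sum, sum_P hf hψ]
        _ = ∑ y, P factsE8 ρ A ψ 1 y := Finset.sum_congr rfl fun y _ => by
            rw [opE_mul_P hf, dot_single, mul_one]
            by_cases hy : y o = 0
            · rw [hy, AddChar.map_zero_eq_one, one_smul]
            · rw [P_eq_zero hf (hzero y hy), smul_zero]
    rw [mul_one, op_of_mem ρ (factsE8.xg_mem_group _ _), ← map_one ρ] at h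
    have h' := congrArg (fun g : ↥(chevE8.group F) => ((g : GL chevE8.Idx F) : Matrix chevE8.Idx chevE8.Idx F)) (hinj h)
    simp only [Facts.coe_xg, Subgroup.coe_one, Units.val_one] at h'
    exact one_ne_zero ((factsE8.x_eq_one A[o.val] (show (239 : ℕ) < 240 by omega) 1).1 h')
  -- the fixed space of the centre
  set E := P factsE8 ρ [A[o.val]] ψ (1 : Module.End ℂ (Fin k → ℂ)) 0 with hE
  have hdim : (k : ℂ) = LinearMap.trace ℂ (Fin k → ℂ) E +
      (((Fintype.card F - 1) * (Fintype.card F ^ 28 * m) : ℕ) : ℂ) := by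
    rw [← htrone, hE]
    exact center_dim hf hψ hf' okA fun c hc => (hmc c hc).1
  have hcE : ∀ r ∈ CH, ∀ t, Commute (op ρ (factsE8.xg r t)) E := fun r hr t => P0_comm_L hf' hr t
  have hidemE : E * E = E := wp_idem (R_mul hf') _
  have hTE : ∀ c : Fin chevE8.rank → Fˣ, Commute (op ρ (torus chevE8 F c)) E := fun c =>
    P0_comm_torus hf' c (Commute.one_right _)
  have hZ : ∀ t : F, op ρ (factsE8.xg 239 t) * E = E := by
    intro t
    have h := opE_mul_P (ψ := ψ) hf' (Pi.single ⟨0, by simp⟩ t) 0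
    rw [R_single hf', mul_one, dot_single, Pi.zero_apply, zero_mul, AddChar.map_zero_eq_one, one_smul] at h
    exact h
  have hbd := body_spec (body_of_T spec body0)
  have hlt0 : ∀ i : Fin U0.length, U0[i.val] < chevE8.nroots := fun i => by
    have h := climbU
    simp only [List.all_eq_true, Bool.and_eq_true, decide_eq_true_eq] at h
    exact (h _ (List.getElem_mem i.isLt)).1
  have hf1 : Frame factsE8 ρ U0 L0 E :=
    ⟨hidemE, hom_of_commute hidemE (fun u hu => hcE u (sub_left inCH u hu))
      (roots_comm hidemE (fun u hu => hcE u (sub_left inCH u hu)) hZ), hlt0, hbd.1,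
      fun u hu => hcE u (sub_left inCH u hu), fun α hα => hcE α (sub_right inCH α hα)⟩
  have hdef : ∀ r : Fin U0.length, ∀ v : F, v ≠ 0 →
      LinearMap.trace ℂ (Fin k → ℂ) (op ρ (factsE8.xg U0[r.val] v) * E) =
        LinearMap.trace ℂ (Fin k → ℂ) E - (Fintype.card F : ℂ) * ((Fintype.card F ^ 27 * m : ℕ) : ℂ) := by
    intro r v hv
    have hcl := climbU
    simp only [List.all_eq_true, Bool.and_eq_true, decide_eq_true_eq] at hcl
    obtain ⟨hn, -⟩ := climb_spec climb0
    obtain ⟨hrlt, hr238⟩ := hcl _ (List.getElem_mem r.isLt)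
    obtain ⟨v', hv', he⟩ := trace_climb (hF := factsE8) (ρ := ρ) hn
      (fun x hx => hcE x (sub_right inCH x hx)) 240 _ hrlt hr238 v hv
    obtain ⟨p, hp, hp2⟩ : ∃ p ∈ adj chevE8 A LA o, p.2 = 238 := by simpa using mover238
    have hmv := center_trace_mover hf hψ hf' hp hv'
    rw [hp2, htr 238 (by simp) v' hv', ← hE] at hmv
    rw [he, ← hmv]
    have h1 : 1 ≤ Fintype.card F := Fintype.card_pos
    push_cast [Nat.cast_sub h1] at hdim hkτ ⊢
    linear_combination -hkτ + hdim
  by_contra hlt'
  rw [not_le] at hlt'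
  -- multiplicity one
  have hm1 : m = 1 := by
    by_contra hne
    have hge : 2 ≤ m := by omega
    obtain ⟨tE, htE⟩ : ∃ tE : ℕ, tE = ∑ y, mu factsE8 ρ U0 ψ E y := ⟨_, rfl⟩
    have hsum := trace_E hf1 hψ
    rw [hsum, ← Nat.cast_sum, ← htE] at hdim
    have hk' : k = tE + (Fintype.card F - 1) * (Fintype.card F ^ 28 * m) := by exact_mod_cast hdim
    let r0 : Fin U0.length := ⟨0, by decide⟩
    have hfibre : ∀ c ∈ univ.erase (0 : F),
        ∑ y ∈ univ.filter (fun y : Fin U0.length → F => y r0 = c), mu factsE8 ρ U0 ψ E y =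
          Fintype.card F ^ 27 * m := fun c hc =>
      Nat.cast_injective (R := ℂ) (sum_fibre hf1 hψ (hdef r0) (Finset.ne_of_mem_erase hc))
    have hle : (Fintype.card F - 1) * (Fintype.card F ^ 27 * m) ≤ tE := by
      rw [htE, ← Finset.sum_fiberwise univ (fun y => y r0) (mu factsE8 ρ U0 ψ E),
        ← Finset.add_sum_erase _ _ (Finset.mem_univ (0 : F)), Finset.sum_congr rfl hfibre, Finset.sum_const,
        Finset.card_erase_of_mem (Finset.mem_univ _), Finset.card_univ, smul_eq_mul]
      exact Nat.le_add_left _ _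
    have hb := bound_le_twice (q := Fintype.card F) Fintype.one_lt_card
    have h2 : 2 * ((Fintype.card F - 1) * (Fintype.card F ^ 28 + Fintype.card F ^ 27)) ≤
        m * ((Fintype.card F - 1) * (Fintype.card F ^ 28 + Fintype.card F ^ 27)) := Nat.mul_le_mul_right _ hge
    have e : m * ((Fintype.card F - 1) * (Fintype.card F ^ 28 + Fintype.card F ^ 27)) =
        (Fintype.card F - 1) * (Fintype.card F ^ 28 * m) + (Fintype.card F - 1) * (Fintype.card F ^ 27 * m) := by ring
    omega
  subst hm1
  simp only [mul_one] at hdim hkτ hdef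
  have hdefs : ∀ v : F, v ≠ 0 → LinearMap.trace ℂ (Fin k → ℂ) (op ρ (factsE8.xg 226 v) * E) =
      LinearMap.trace ℂ (Fin k → ℂ) E - ((Fintype.card F : ℂ) * (Fintype.card F : ℂ) ^ 28 -
        (((Fintype.card F - 1) * Fintype.card F ^ 28 : ℕ) : ℂ) +
        (((Fintype.card F - 1) * Fintype.card F ^ 22 : ℕ) : ℂ)) := by
    intro v hv
    have h := center_trace_s hf hψ hf' okA okScA (fun c hc => (hmc c hc).1) hv
    rw [htr 226 (by simp) v hv, ← hE] at h
    push_cast at hdim hkτ h ⊢
    linear_combination -h - hkτ + hdim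
  have hdvd : k ∣ ord (Fintype.card F) := by
    refine dvd_trans ?_ (ord_dvd rfl)
    have h := Cfsg.Agent.Char.deg_dvd_card (Cfsg.Agent.Char.isIrrCharacter_character ρ hirr)
    rwa [Cfsg.Agent.Char.deg_character, Module.finrank_fin_fun] at h
  obtain ⟨htwo, hbig⟩ := chain_bound hψ hf1 hTE hdim.symm hdef hdefs
  rcases Nat.lt_or_ge (Fintype.card F) 3 with h2 | h3
  · have h2' : Fintype.card F = 2 := by have := Fintype.one_lt_card (α := F); omega
    have hle := htwo h2'
    rw [h2'] at hle hdvd hlt'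
    have h := two_ok
    simp only [List.all_eq_true, Bool.not_eq_true', beq_eq_false_iff_ne, List.mem_range] at h
    have h' := h (bound 2 - k - 1) (by omega)
    rw [show bound 2 - (bound 2 - k - 1 + 1) = k by omega] at h'
    exact h' (Nat.mod_eq_zero_of_dvd hdvd)
  · have hle := hbig h3
    obtain ⟨p, hp, a, ha⟩ := FiniteField.card' F
    refine not_dvd (q := Fintype.card F) ha.1 ha.2 (by omega) (k := bound (Fintype.card F) - k) (by omega) (by omega) ?_
    rwa [show bound (Fintype.card F) - (bound (Fintype.card F) - k) = k by omega]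

end Cfsg.Agent.Small.MinusculeDegree.E8
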