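import Cfsg.Agent.Lib.Small.MinusculeDegree.E8Data
import Cfsg.Agent.Lib.Small.MinusculeDegree.E8Packed
import Cfsg.Agent.Lib.Small.MinusculeDegree.CenterFast

/-!
Kernel checks in E₈: the quotient of the Heisenberg radical.
-/

set_option autoImplicit false
set_option maxRecDepth 100000

namespace Cfsg.Agent.Small.MinusculeDegree.E8

open Cfsg.Lie Cfsg.Agent.Lie

/-- The body at one position. -/
def bodyAt (r : Fin U0.length) : Bool :=
  decide (adjT D0 U0 L0 r = adjA D0 U0 r) && okFibT D0 U0 27 r && okKillT D0 U0 L0 r && okCellT D0 U0 r

theorem tab0 : okTab D0 chevE8 cm ng U0 L0 = true := by decide +kernel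
theorem bodyPart0 : (((List.finRange U0.length).drop 0).take 8).all bodyAt = true := by decide +kernel
theorem bodyPart8 : (((List.finRange U0.length).drop 8).take 8).all bodyAt = true := by decide +kernel
theorem bodyPart16 : (((List.finRange U0.length).drop 16).take 8).all bodyAt = true := by decide +kernel
theorem bodyPart24 : (((List.finRange U0.length).drop 24).take 8).all bodyAt = true := by decide +kernel
theorem bodyPart32 : (((List.finRange U0.length).drop 32).take 8).all bodyAt = true := by decide +kernel
theorem bodyPart40 : (((List.finRange U0.length).drop 40).take 8).all bodyAt = true := by decide +kernel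
theorem bodyPart48 : (((List.finRange U0.length).drop 48).take 8).all bodyAt = true := by decide +kernel
theorem body0 : okBodyT D0 chevE8 cm ng U0 L0 27 = true := by
  have hall : (List.finRange U0.length).all bodyAt = true := by
    have e : List.finRange U0.length = ((List.finRange U0.length).drop 0).take 8 ++ ((List.finRange U0.length).drop 8).take 8 ++ ((List.finRange U0.length).drop 16).take 8 ++ ((List.finRange U0.length).drop 24).take 8 ++ ((List.finRange U0.length).drop 32).take 8 ++ ((List.finRange U0.length).drop 40).take 8 ++ ((List.finRange U0.length).drop 48).take 8 := by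
      decide +kernel
    rw [e]
    simp only [List.all_append, Bool.and_eq_true]
    exact ⟨⟨⟨⟨⟨⟨bodyPart0, bodyPart8⟩, bodyPart16⟩, bodyPart24⟩, bodyPart32⟩, bodyPart40⟩, bodyPart48⟩
  rw [okBodyT, tab0, Bool.true_and]
  exact hall
theorem trace0 : okTraceT D0 chevE8 cm ng U0 L0 226 = true := by decide +kernel
theorem scal0 : okScalT D0 chevE8 cm ng U0 L0 226 = true := by decide +kernel
theorem heis0 : U0.all (fun u => U0.all fun w => decide (u = w) || (decide (u < chevE8.nroots) &&
    decide (w < chevE8.nroots) && decide (w ≠ ng u) && (cm u w).all fun c => decide (c.1 = 239))) = true := by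
  decide +kernel

end Cfsg.Agent.Small.MinusculeDegree.E8
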