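import Mathlib

/-!
The small cases of the numbers just below q(q¹² + 1)(q¹⁰ + 1)(q⁶ + 1) dividing the order of E₈(q).
-/

set_option autoImplicit false
set_option linter.unusedVariables false
set_option linter.style.longLine false
set_option maxHeartbeats 1000000

namespace Cfsg.Agent.Small.MinusculeDegree.E8

/-- The bound. -/
def bound (q : ℕ) : ℕ := q ^ 29 + q ^ 23 + q ^ 19 + q ^ 17 + q ^ 13 + q ^ 11 + q ^ 7 + q

/-- The order. -/
def ord (q : ℕ) : ℕ :=
  q ^ 120 * ((q ^ 2 - 1) * (q ^ 8 - 1) * (q ^ 12 - 1) * (q ^ 14 - 1) * (q ^ 18 - 1) * (q ^ 20 - 1) * (q ^ 24 - 1) * (q ^ 30 - 1))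

/-- The small cases. -/
def small : Bool :=
  [(1, 36), (2, 288), (3, 978), (4, 2301), (5, 4525), (6, 7786), (7, 12395), (8, 18428)].all fun (jn : ℕ × ℕ) =>
    (List.range jn.2).all fun q => decide (q < 2) || !(ord q % (bound q - jn.1) == 0)

theorem small_ok : small = true := by decide +kernel

theorem two_ok : (List.range 100).all (fun i => !(ord 2 % (bound 2 - (i + 1)) == 0)) = true := by decide +kernel

end Cfsg.Agent.Small.MinusculeDegree.E8
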