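import Cfsg.Agent.Lib.Small.MinusculeDegree.Chain
import Cfsg.Prelude.Def_ChevE8

/-!
The tables of the chain of radicals in E₈.
-/

set_option autoImplicit false
set_option maxRecDepth 100000

namespace Cfsg.Agent.Small.MinusculeDegree.E8

open Cfsg.Lie

/-- The centre and a Lagrangian subspace of the Heisenberg radical. -/
def A : List ℕ :=
  [239, 237, 236, 235, 234, 232, 227, 225, 224, 223, 222, 221, 220, 215, 211, 208, 206, 201, 198, 196,
    192, 190, 187, 160, 158, 155, 151, 140, 120]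
/-- The opposite subspace and the common stabiliser of the two. -/
def LA : List ℕ :=
  [13, 25, 29, 32, 34, 39, 42, 44, 48, 50, 53, 61, 64, 65, 68, 69, 70, 73, 74, 75, 76, 80, 82, 85, 89,
    95, 96, 97, 98, 100, 107, 108, 109, 112, 113, 116, 122, 123, 125, 126, 127, 129, 130, 131, 132, 134,
    139, 141, 142, 143, 144, 146, 150, 154, 157, 159, 161, 163, 164, 165, 166, 168, 169, 170, 171, 173,
    174, 175, 177, 178, 180, 182, 183, 186, 189, 191, 193, 195, 197, 199, 200, 202, 203, 205, 207, 209,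
    210, 212, 213, 214, 216, 217, 218, 226, 228, 229, 230, 231, 233, 238]
/-- The centre. -/
def UH : List ℕ :=
  [239]
/-- The roots commuting with the centre, outside it. -/
def CH : List ℕ :=
  [13, 20, 25, 29, 32, 34, 35, 39, 42, 44, 45, 48, 50, 51, 53, 54, 55, 58, 60, 61, 63, 64, 65, 67, 68,
    69, 70, 72, 73, 74, 75, 76, 77, 80, 82, 83, 85, 86, 87, 89, 90, 91, 92, 94, 95, 96, 97, 98, 100,
    101, 102, 103, 104, 106, 107, 108, 109, 111, 112, 113, 115, 116, 118, 120, 121, 122, 123, 124, 125,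
    126, 127, 128, 129, 130, 131, 132, 133, 134, 135, 136, 137, 138, 139, 140, 141, 142, 143, 144, 145,
    146, 147, 148, 149, 150, 151, 152, 153, 154, 155, 156, 157, 158, 159, 160, 161, 162, 163, 164, 165,
    166, 167, 168, 169, 170, 171, 172, 173, 174, 175, 176, 177, 178, 179, 180, 181, 182, 183, 184, 185,
    186, 187, 188, 189, 190, 191, 192, 193, 194, 195, 196, 197, 198, 199, 200, 201, 202, 203, 204, 205,
    206, 207, 208, 209, 210, 211, 212, 213, 214, 215, 216, 217, 218, 219, 220, 221, 222, 223, 224, 225,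
    226, 227, 228, 229, 230, 231, 232, 233, 234, 235, 236, 237, 238]
/-- The radical of the Heisenberg quotient. -/
def U0 : List ℕ :=
  [238, 237, 236, 235, 234, 233, 232, 231, 225, 230, 224, 229, 223, 228, 222, 218, 227, 221, 217, 220,
    216, 213, 215, 212, 203, 211, 209, 202, 208, 201, 199, 206, 198, 193, 196, 192, 183, 190, 182, 161,
    187, 180, 160, 177, 158, 173, 155, 168, 151, 146, 140, 134, 129, 125, 122, 120]
/-- The Levi roots of the Heisenberg quotient. -/
def L0 : List ℕ :=
  [13, 20, 25, 29, 32, 34, 35, 39, 42, 44, 45, 48, 50, 51, 53, 54, 55, 58, 60, 61, 63, 64, 65, 67, 68,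
    69, 70, 72, 73, 74, 75, 76, 77, 80, 82, 83, 85, 86, 87, 89, 90, 91, 92, 94, 95, 96, 97, 98, 100,
    101, 102, 103, 104, 106, 107, 108, 109, 111, 112, 113, 115, 116, 118, 121, 123, 124, 126, 127, 128,
    130, 131, 132, 133, 135, 136, 137, 138, 139, 141, 142, 143, 144, 145, 147, 148, 149, 150, 152, 153,
    154, 156, 157, 159, 162, 163, 164, 165, 166, 167, 169, 170, 171, 172, 174, 175, 176, 178, 179, 181,
    184, 185, 186, 188, 189, 191, 194, 195, 197, 200, 204, 205, 207, 210, 214, 219, 226]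
/-- The radical of E₇. -/
def U1 : List ℕ :=
  [226, 219, 214, 210, 207, 200, 205, 197, 195, 191, 189, 181, 186, 179, 159, 176, 157, 172, 154, 167,
    150, 145, 139, 133, 128, 124, 121]
/-- The Levi roots of E₇. -/
def L1 : List ℕ :=
  [35, 45, 51, 54, 55, 61, 64, 65, 68, 69, 70, 73, 74, 75, 76, 77, 83, 86, 87, 90, 91, 92, 95, 96, 97,
    98, 101, 102, 103, 104, 107, 108, 109, 112, 113, 116, 123, 126, 127, 130, 131, 132, 135, 136, 137,
    138, 141, 142, 143, 144, 147, 148, 149, 152, 153, 156, 162, 163, 164, 165, 166, 169, 170, 171, 174,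
    175, 178, 184, 185, 188, 194, 204]
/-- The radical of E₆. -/
def U2 : List ℕ :=
  [204, 194, 188, 185, 178, 184, 175, 174, 171, 170, 166, 169, 165, 164, 163, 162]
/-- The Levi roots of E₆. -/
def L2 : List ℕ :=
  [83, 86, 87, 90, 91, 92, 95, 96, 97, 98, 101, 102, 103, 104, 107, 108, 109, 112, 113, 116, 123, 126,
    127, 130, 131, 132, 135, 136, 137, 138, 141, 142, 143, 144, 147, 148, 149, 152, 153, 156]
/-- The radical of D₅. -/
def U3 : List ℕ :=
  [156, 153, 152, 149, 148, 144, 147, 143, 142, 141]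
/-- The Levi roots of D₅. -/
def L3 : List ℕ :=
  [101, 102, 103, 104, 107, 108, 109, 112, 113, 116, 123, 126, 127, 130, 131, 132, 135, 136, 137, 138]
/-- The radical of A₄. -/
def U4 : List ℕ :=
  [138, 137, 136, 135]
/-- The Levi roots of A₄. -/
def L4 : List ℕ :=
  [107, 108, 109, 112, 113, 116, 123, 126, 127, 130, 131, 132]
/-- The radical of A₃. -/
def U5 : List ℕ :=
  [132, 131, 130]
/-- The Levi roots of A₃. -/
def L5 : List ℕ :=
  [112, 113, 116, 123, 126, 127]
/-- The radical of A₂. -/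
def U6 : List ℕ :=
  [127, 126]
/-- The Levi roots of A₂. -/
def L6 : List ℕ :=
  [116, 123]
/-- The radical of A₁. -/
def U7 : List ℕ :=
  [123]
/-- The torus elements. -/
def ks : List (List ℤ) := [[1, 0, 0, 0, 0, 0, 0, 0], [0, 0, 0, 0, 0, 0, 1, 0]]

theorem ok3 : okLevel chevE8 U3 L3 6 = true ∧ okTrace chevE8 U3 L3 138 = true ∧
    okScal chevE8 U3 L3 138 true ks = true ∧ okClimb chevE8 [2, 3, 4, 5] L3 138 = true := by decide +kernel
theorem ok4 : okLevel chevE8 U4 L4 3 = true ∧ okTrace chevE8 U4 L4 132 = true ∧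
    okScal chevE8 U4 L4 132 true ks = true ∧ okClimb chevE8 [3, 4, 5] L4 132 = true := by decide +kernel
theorem ok5 : okLevel chevE8 U5 L5 2 = true ∧ okTrace chevE8 U5 L5 127 = true ∧
    okScal chevE8 U5 L5 127 true ks = true ∧ okClimb chevE8 [4, 5] L5 127 = true := by decide +kernel
theorem ok6 : okLevel chevE8 U6 L6 1 = true ∧ okTrace chevE8 U6 L6 123 = true ∧
    okScal chevE8 U6 L6 123 true ks = true ∧ okClimb chevE8 [5] L6 123 = true := by decide +kernel
theorem ok7 : okLevel chevE8 U7 [] 0 = true := by decide +kernel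

end Cfsg.Agent.Small.MinusculeDegree.E8
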