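import Cfsg.Agent.Lib.Small.MinusculeDegree.Table
import Cfsg.Agent.Lib.Small.D4Degree.Weights
import Cfsg.Agent.Lib.Lie.TwistOrth
import Cfsg.Agent.Lib.Lie.TorusCard

/-!
The weights of a representation on an abelian unipotent radical, and the root elements permuting them.
-/

set_option autoImplicit false
set_option linter.unusedSectionVars false

namespace Cfsg.Agent.Small.MinusculeDegree

open Cfsg.Lie Cfsg.Agent.Lie Finset
open Cfsg.Agent.Small.D4Degree (wp wm card_ne)
open scoped MatrixGroups

variable {D : ChevalleyDatum} (hF : Facts D) {F : Type*} [Field F] [Fintype F] {M : Type*} [AddCommGroup M]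
  [Module ℂ M] [FiniteDimensional ℂ M] (ρ : ↥(D.group F) →* Module.End ℂ M)

open scoped _root_.Classical in
/-- The operator of an element of the group. -/
noncomputable def op (g : GL D.Idx F) : Module.End ℂ M :=
  if h : g ∈ D.group F then ρ ⟨g, h⟩ else 0

theorem op_of_mem {g : GL D.Idx F} (h : g ∈ D.group F) : op ρ g = ρ ⟨g, h⟩ := dif_pos h

theorem op_mul {g h : GL D.Idx F} (hg : g ∈ D.group F) (hh : h ∈ D.group F) :
    op ρ (g * h) = op ρ g * op ρ h := by
  rw [op_of_mem ρ hg, op_of_mem ρ hh, op_of_mem ρ (mul_mem hg hh), ← map_mul]; rfl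

theorem op_one : op ρ (1 : GL D.Idx F) = 1 := by rw [op_of_mem ρ (one_mem _)]; exact map_one ρ

theorem op_inv_mul {g : GL D.Idx F} (hg : g ∈ D.group F) : op ρ g⁻¹ * op ρ g = 1 := by
  rw [← op_mul ρ (inv_mem hg) hg, inv_mul_cancel, op_one]

theorem op_mul_inv {g : GL D.Idx F} (hg : g ∈ D.group F) : op ρ g * op ρ g⁻¹ = 1 := by
  rw [← op_mul ρ hg (inv_mem hg), mul_inv_cancel, op_one]

theorem commute_inv {g : GL D.Idx F} (hg : g ∈ D.group F) {e : Module.End ℂ M} (h : Commute (op ρ g) e) :
    Commute (op ρ g⁻¹) e := by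
  calc op ρ g⁻¹ * e = op ρ g⁻¹ * e * (op ρ g * op ρ g⁻¹) := by rw [op_mul_inv ρ hg, mul_one]
    _ = op ρ g⁻¹ * (e * op ρ g) * op ρ g⁻¹ := by simp only [mul_assoc]
    _ = e * op ρ g⁻¹ := by rw [← h.eq, ← mul_assoc, op_inv_mul ρ hg, one_mul]

theorem commute_mul {g h : GL D.Idx F} (hg : g ∈ D.group F) (hh : h ∈ D.group F) {e : Module.End ℂ M}
    (hge : Commute (op ρ g) e) (hhe : Commute (op ρ h) e) : Commute (op ρ (g * h)) e := by
  rw [op_mul ρ hg hh]; exact hge.mul_left hhe

theorem commute_ng {r : ℕ} {t : F} {e : Module.End ℂ M} (h1 : ∀ t, Commute (op ρ (hF.xg r t)) e)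
    (h2 : ∀ t, Commute (op ρ (hF.xg (D.neg r) t)) e) : Commute (op ρ (hF.ng r t)) e := by
  rw [hF.ng_eq]
  exact commute_mul ρ (mul_mem (hF.xg_mem_group _ _) (hF.xg_mem_group _ _)) (hF.xg_mem_group _ _)
    (commute_mul ρ (hF.xg_mem_group _ _) (hF.xg_mem_group _ _) (h1 _) (h2 _)) (h1 _)

theorem trace_conj {g x : GL D.Idx F} {E : Module.End ℂ M} (hg : g ∈ D.group F) (hx : x ∈ D.group F)
    (hgE : Commute (op ρ g) E) :
    LinearMap.trace ℂ M (op ρ (g * x * g⁻¹) * E) = LinearMap.trace ℂ M (op ρ x * E) := by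
  rw [op_mul ρ (mul_mem hg hx) (inv_mem hg), op_mul ρ hg hx, mul_assoc, (commute_inv ρ hg hgE).eq,
    LinearMap.trace_mul_comm, mul_assoc, ← mul_assoc (op ρ g⁻¹), op_inv_mul ρ hg, one_mul,
    LinearMap.trace_mul_comm]

variable (U : List ℕ)

/-- The elements of the radical. -/
noncomputable def eta (x : Fin U.length → F) : GL D.Idx F :=
  ((List.finRange U.length).map fun i => hF.xg U[i.val] (x i)).prod

theorem eta_mem (x : Fin U.length → F) : eta hF U x ∈ D.group F :=
  Subgroup.list_prod_mem _ fun g hg => by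
    obtain ⟨i, -, rfl⟩ := List.mem_map.1 hg
    exact hF.xg_mem_group _ _

theorem eta_add (hU : okComm D U = true) (x y : Fin U.length → F) :
    eta hF U (x + y) = eta hF U x * eta hF U y := by
  simp only [eta, Pi.add_apply, hF.xg_add]
  exact list_prod_map_mul _ _ _ (List.pairwise_of_forall_mem_list fun i _ j _ =>
    hF.xg_commute hU (List.getElem_mem i.isLt) (List.getElem_mem j.isLt) _ _)

theorem eta_zero : eta hF U (0 : Fin U.length → F) = 1 := by
  simp only [eta, Pi.zero_apply, hF.xg_zero]
  exact List.prod_eq_one fun x hx => by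
    obtain ⟨i, -, rfl⟩ := List.mem_map.1 hx
    rfl

theorem eta_single (i : Fin U.length) (t : F) : eta hF U (Pi.single i t) = hF.xg U[i.val] t := by
  rw [eta, List.prod_map_eq_pow_single i _ (fun j hj _ => by rw [Pi.single_eq_of_ne hj, hF.xg_zero]),
    List.count_eq_one_of_mem (List.nodup_finRange _) (List.mem_finRange i), pow_one, Pi.single_eq_same]

/-- Two multiplicative families on tuples agree if they agree on the coordinate lines. -/
theorem ext_singles {G : Type*} [Monoid G] {n : ℕ} {f g : (Fin n → F) → G}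
    (hf : ∀ x y, f (x + y) = f x * f y) (hg : ∀ x y, g (x + y) = g x * g y) (h0 : f 0 = g 0)
    (h : ∀ i t, f (Pi.single i t) = g (Pi.single i t)) (x : Fin n → F) : f x = g x := by
  classical
  rw [← Finset.univ_sum_single x]
  induction (Finset.univ : Finset (Fin n)) using Finset.induction_on with
  | empty => simpa using h0
  | insert a s ha ih => rw [Finset.sum_insert ha, hf, hg, h, ih]

variable (ψ : AddChar F ℂ)

/-- The pairing. -/
def dot {n : ℕ} (y x : Fin n → F) : F := ∑ i, y i * x i

/-- The character of the weight `y`. -/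
def chi {n : ℕ} (ψ : AddChar F ℂ) (y : Fin n → F) : AddChar (Fin n → F) ℂ :=
  ψ.compAddMonoidHom (AddMonoidHom.mk' (dot y) fun a b => by
    simp only [dot, Pi.add_apply, mul_add, Finset.sum_add_distrib])

theorem chi_apply {n : ℕ} (y x : Fin n → F) : chi ψ y x = ψ (dot y x) := rfl

theorem dot_single {n : ℕ} (y : Fin n → F) (i : Fin n) (t : F) : dot y (Pi.single i t) = y i * t := by
  classical
  rw [dot, Finset.sum_eq_single i (fun j _ hj => by rw [Pi.single_eq_of_ne hj, mul_zero])
    (fun h => absurd (Finset.mem_univ i) h), Pi.single_eq_same]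

theorem chi_bijective {n : ℕ} (hψ : ψ ≠ 1) : Function.Bijective (chi (n := n) ψ) := by
  classical
  refine (Fintype.bijective_iff_injective_and_card _).2 ⟨fun y y' h => funext fun i => ?_, AddChar.card_eq.symm⟩
  have hinj : Function.Injective fun μ : F => AddChar.mulShift ψ μ :=
    AddChar.to_mulShift_inj_of_isPrimitive (AddChar.IsPrimitive.of_ne_one hψ)
  refine hinj (DFunLike.ext _ _ fun t => ?_)
  have h' := DFunLike.congr_fun h (Pi.single i t)
  rw [chi_apply, chi_apply, dot_single, dot_single] at h'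
  exact h'

variable (E : Module.End ℂ M)

/-- The operators of the radical. -/
noncomputable def R (x : Fin U.length → F) : Module.End ℂ M := op ρ (eta hF U x) * E

/-- The projection on a weight. -/
noncomputable def P (y : Fin U.length → F) : Module.End ℂ M := wp (R hF ρ U E) (chi ψ y)

/-- The multiplicity of a weight. -/
noncomputable def mu (y : Fin U.length → F) : ℕ := wm (R hF ρ U E) (chi ψ y)

/-- The shift of a position by a root. -/
def cN (α : ℕ) (i : Fin U.length) : Fin U.length → F :=
  match tgt D U α i with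
  | some (k, z) => Pi.single k (z : F)
  | none => 0

/-- The action of a root element on the weights. -/
def tau (α : ℕ) (v : F) (y : Fin U.length → F) : Fin U.length → F :=
  fun i => y i + match tgt D U α i with
    | some (k, z) => v * (z : F) * y k
    | none => 0

/-- The action on the radical. -/
def phi (α : ℕ) (v : F) : (Fin U.length → F) →+ (Fin U.length → F) :=
  AddMonoidHom.mk' (fun x => x + ∑ i, (v * x i) • cN (D := D) U α i) fun a b => by
    simp only [Pi.add_apply, mul_add, add_smul, Finset.sum_add_distrib]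
    abel

theorem dot_phi (α : ℕ) (v : F) (y x : Fin U.length → F) :
    dot y (phi (D := D) U α v x) = dot (tau (D := D) U α v y) x := by
  classical
  have hadd : ∀ a b, dot y (a + b) = dot y a + dot y b := fun a b => by
    simp only [dot, Pi.add_apply, mul_add, Finset.sum_add_distrib]
  have hsum : dot y (∑ i, (v * x i) • cN (D := D) U α i) = ∑ i, dot y ((v * x i) • cN (D := D) U α i) :=
    map_sum (AddMonoidHom.mk' (dot y) hadd) _ _
  rw [phi, AddMonoidHom.mk'_apply, hadd, hsum]
  simp only [dot, tau, add_mul, Finset.sum_add_distrib]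
  congr 1
  refine Finset.sum_congr rfl fun i _ => ?_
  unfold cN
  rcases tgt D U α i with _ | ⟨k, z⟩
  · simp
  · simp only [Pi.smul_apply, smul_eq_mul]
    rw [Finset.sum_eq_single k (fun j _ hj => by rw [Pi.single_eq_of_ne hj, mul_zero, mul_zero])
      (fun h => absurd (Finset.mem_univ k) h), Pi.single_eq_same]
    ring

variable {U}

theorem okAct_spec {α : ℕ} (h : okAct D U α = true) :
    α < D.nroots ∧ ∀ i : Fin U.length, U[i.val] < D.nroots ∧ U[i.val] ≠ α ∧ U[i.val] ≠ D.neg α ∧
      (tgt D U α i = none → D.commTerms α U[i.val] = []) ∧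
      ∀ k z, tgt D U α i = some (k, z) → D.commTerms α U[i.val] = [(U[k.val], z, 1, 1)] ∧
        (z = 1 ∨ z = -1) ∧ tgt D U α k = none := by
  simp only [okAct, Bool.and_eq_true, decide_eq_true_eq, List.all_eq_true] at h
  refine ⟨h.1, fun i => ?_⟩
  obtain ⟨⟨⟨h1, h2⟩, h3⟩, h4⟩ := h.2 i (List.mem_finRange i)
  refine ⟨h1, h2, h3, fun hn => ?_, fun k z hk => ?_⟩
  · rw [hn] at h4; simpa using h4
  · rw [hk] at h4
    simp only [Bool.and_eq_true, decide_eq_true_eq, Option.isNone_iff_eq_none] at h4
    exact ⟨h4.1.1, h4.1.2, h4.2⟩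

theorem tau_zero (α : ℕ) (y : Fin U.length → F) : tau (D := D) U α 0 y = y := by
  funext i; unfold tau; rcases tgt D U α i with _ | ⟨k, z⟩ <;> simp

theorem tau_add {α : ℕ} (h : okAct D U α = true) (v w : F) (y : Fin U.length → F) :
    tau (D := D) U α v (tau (D := D) U α w y) = tau (D := D) U α (v + w) y := by
  funext i
  unfold tau
  rcases hi : tgt D U α i with _ | ⟨k, z⟩
  · simp
  · simp only [((((okAct_spec h).2 i).2.2.2.2 k z hi).2.2)]
    ring

theorem phi_bijective {α : ℕ} (h : okAct D U α = true) (v : F) :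
    Function.Bijective (phi (D := D) U α v) := by
  classical
  refine Finite.injective_iff_bijective.1 fun a b hab => funext fun i => ?_
  have h1 : dot (tau (D := D) U α (-v) (Pi.single i 1)) (phi (D := D) U α v a) =
      dot (tau (D := D) U α (-v) (Pi.single i 1)) (phi (D := D) U α v b) := by rw [hab]
  rw [dot_phi, dot_phi, tau_add h, add_neg_cancel, tau_zero] at h1
  have h2 : ∀ c : Fin U.length → F, dot (Pi.single i 1) c = c i := fun c => by
    rw [show dot (Pi.single i 1) c = dot c (Pi.single i 1) from Finset.sum_congr rfl fun j _ => mul_comm _ _,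
      dot_single, mul_one]
  rwa [h2, h2] at h1

/-- Conjugation of a single root element of the radical. -/
theorem single_conj {α : ℕ} (h : okAct D U α = true) (v : F) (i : Fin U.length) (t : F) :
    (∃ k z, tgt D U α i = some (k, z) ∧ hF.xg α v * hF.xg U[i.val] t * (hF.xg α v)⁻¹ =
        hF.xg U[i.val] t * hF.xg U[k.val] ((z : F) * v * t) ∧
        phi (D := D) U α v (Pi.single i t) = Pi.single i t + Pi.single k ((z : F) * v * t)) ∨
      (tgt D U α i = none ∧ hF.xg α v * hF.xg U[i.val] t * (hF.xg α v)⁻¹ = hF.xg U[i.val] t ∧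
        phi (D := D) U α v (Pi.single i t) = Pi.single i t) := by
  classical
  obtain ⟨hα, hs⟩ := okAct_spec h
  obtain ⟨hi, hne, hneg, hnone, hsome⟩ := hs i
  have hphi : phi (D := D) U α v (Pi.single i t) = Pi.single i t + (v * t) • cN (D := D) U α i := by
    rw [phi, AddMonoidHom.mk'_apply]
    congr 1
    rw [Finset.sum_eq_single i (fun j _ hj => by rw [Pi.single_eq_of_ne hj, mul_zero, zero_smul])
      (fun h => absurd (Finset.mem_univ i) h), Pi.single_eq_same]
  have key := (hF.tsys F).x_comm α U[i.val] hα hi hne hneg (-v) t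
  simp only [hF.tsys_x, ChevalleyDatum.commWord, List.map_map] at key
  have hstep : hF.xg α v * hF.xg U[i.val] t * (hF.xg α v)⁻¹ = hF.xg U[i.val] t *
      ((D.commTerms α U[i.val]).map fun c => hF.xg c.1 ((c.2.1 : F) * v ^ c.2.2.1 * t ^ c.2.2.2)).prod := by
    rw [← hF.xg_neg, mul_assoc, key, ← mul_assoc, ← mul_assoc, ← hF.xg_add, add_neg_cancel, hF.xg_zero, one_mul]
    congr 2
    simp [Function.comp_def]
  rcases hi' : tgt D U α i with _ | ⟨k, z⟩
  · exact Or.inr ⟨rfl, by rw [hstep, hnone hi', List.map_nil, List.prod_nil, mul_one],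
      by rw [hphi, cN, hi']; simp⟩
  · refine Or.inl ⟨k, z, rfl, ?_, ?_⟩
    · rw [hstep, (hsome k z hi').1]
      simp only [List.map_cons, List.map_nil, List.prod_cons, List.prod_nil, mul_one, pow_one]
    · rw [hphi, cN, hi']
      simp only
      rw [← Pi.single_smul, smul_eq_mul]
      congr 2
      ring

/-- Conjugation by a root element. -/
theorem eta_conj (hU : okComm D U = true) {α : ℕ} (h : okAct D U α = true) (v : F) (x : Fin U.length → F) :
    hF.xg α v * eta hF U x * (hF.xg α v)⁻¹ = eta hF U (phi (D := D) U α v x) := by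
  classical
  refine ext_singles (f := fun x => hF.xg α v * eta hF U x * (hF.xg α v)⁻¹)
    (g := fun x => eta hF U (phi (D := D) U α v x)) (fun a b => ?_) (fun a b => ?_) ?_ (fun i t => ?_) x
  · rw [eta_add hF U hU]; group
  · rw [map_add, eta_add hF U hU]
  · simp only [map_zero, eta_zero, mul_one, mul_inv_cancel]
  rcases single_conj hF h v i t with ⟨k, z, -, e, e'⟩ | ⟨-, e, e'⟩ <;>
    simp only [eta_single, e, e', eta_add hF U hU]

end Cfsg.Agent.Small.MinusculeDegree
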