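import Cfsg.Agent.Lib.Small.MinusculeDegree.Count

/-!
One level: the fixed space of the radical, its dimension and the trace of a root element on it.
-/

set_option autoImplicit false
set_option linter.unusedSectionVars false

namespace Cfsg.Agent.Small.MinusculeDegree

open Cfsg.Lie Cfsg.Agent.Lie Finset
open Cfsg.Agent.Small.D4Degree (wp wm card_ne wp_idem)
open scoped MatrixGroups

/-- The checks of a level on the moves. -/
def okBody (D : ChevalleyDatum) (U L : List ℕ) (a : ℕ) : Bool :=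
  L.all (okAct D U) && (List.finRange U.length).all fun r => okFib D U L a r && okKill D U L r && okCell D U L r

/-- The checks of a level. -/
def okLevel (D : ChevalleyDatum) (U L : List ℕ) (a : ℕ) : Bool :=
  okComm D U && okBody D U L a

/-- The roots of the top element meet each cell well. -/
def okTrace (D : ChevalleyDatum) (U L : List ℕ) (s : ℕ) : Bool :=
  decide (s ∈ L) && (List.finRange U.length).all fun r => movedAt D U s r || okTop D U L s r

/-- The total of the cells in a set of positions. -/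
def cellSum (D : ChevalleyDatum) (U L : List ℕ) (q : ℕ) (keep : Fin U.length → Bool) : ℕ :=
  (((List.finRange U.length).filter keep).map fun r => (q - 1) * q ^ later D U L r).sum

/-- Exponents of a torus element fixing the position r and scaling s. -/
def okTorus (D : ChevalleyDatum) (U : List ℕ) (s : ℕ) (r : Fin U.length) (k : List ℤ) : Bool :=
  decide (((List.finRange D.rank).map fun i => k.getD i.val 0 * D.cartan i.val U[r.val]).sum = 0) &&
    decide (((List.finRange D.rank).map fun i => k.getD i.val 0 * D.cartan i.val s).sum = 1 ∨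
      ((List.finRange D.rank).map fun i => k.getD i.val 0 * D.cartan i.val s).sum = -1)

variable {D : ChevalleyDatum} {hF : Facts D} {F : Type*} [Field F] [Fintype F] {M : Type*} [AddCommGroup M]
  [Module ℂ M] [FiniteDimensional ℂ M] {ρ : ↥(D.group F) →* Module.End ℂ M} {U L : List ℕ}
  {E : Module.End ℂ M} {ψ : AddChar F ℂ} {a : ℕ}

theorem body_spec (h : okBody D U L a = true) :
    (∀ α ∈ L, okAct D U α = true) ∧
      ∀ r, okFib D U L a r = true ∧ okKill D U L r = true ∧ okCell D U L r = true := by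
  simp only [okBody, Bool.and_eq_true, List.all_eq_true] at h
  exact ⟨h.1, fun r => ⟨(h.2 r (List.mem_finRange r)).1.1, (h.2 r (List.mem_finRange r)).1.2,
    (h.2 r (List.mem_finRange r)).2⟩⟩

theorem level_spec (h : okLevel D U L a = true) :
    okComm D U = true ∧ (∀ α ∈ L, okAct D U α = true) ∧
      ∀ r, okFib D U L a r = true ∧ okKill D U L r = true ∧ okCell D U L r = true := by
  simp only [okLevel, Bool.and_eq_true] at h
  exact ⟨h.1, body_spec h.2⟩

theorem level_body (h : okLevel D U L a = true) : okBody D U L a = true := by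
  simp only [okLevel, Bool.and_eq_true] at h
  exact h.2

variable (D) in
/-- The later moves of a position. -/
def laterL (U L : List ℕ) (r : Fin U.length) : List (Fin U.length × ℕ) :=
  (adj D U L r).filter fun p => !decide (p.1 < r)

theorem adj_nodup {r : Fin U.length} (h : okFib D U L a r = true) : (adj D U L r).Nodup :=
  List.Nodup.of_map _ (fib_spec h).2.1

variable [DecidableEq F]

/-- The weights whose first nonzero coordinate is c, at r. -/
def cellSet (r : Fin U.length) (c : F) : Finset (Fin U.length → F) :=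
  univ.filter fun y => y r = c ∧ ∀ i, i < r → y i = 0

theorem cell_eq (r : Fin U.length) (c : F) :
    zs D L r c (fun y => ∀ i, i < r → y i = 0) (laterL D U L r) = cellSet r c := by
  ext y
  simp only [zs, cellSet, Finset.mem_filter, Finset.mem_univ, true_and]
  refine ⟨fun h => ⟨h.1, h.2.1⟩, fun h => ⟨h.1, h.2, fun p hp hn => h.2 p.1 ?_⟩⟩
  by_contra hlt
  exact hn (List.mem_filter.2 ⟨hp, by simpa using hlt⟩)

theorem cell_Q {r : Fin U.length} (hok : okBody D U L a = true) (p : Fin U.length × ℕ)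
    (hp : p ∈ laterL D U L r) (v : F) (y : Fin U.length → F) :
    (∀ i, i < r → tau (D := D) U p.2 v y i = 0) ↔ ∀ i, i < r → y i = 0 := by
  obtain ⟨hpm, hlater⟩ := List.mem_filter.1 hp
  have hc := ((body_spec hok).2 r).2.2
  simp only [okCell, Bool.or_eq_true, List.all_eq_true, decide_eq_true_eq, Option.all_eq_true] at hc
  have hc' := (hc p hpm).resolve_left (by simpa using hlater)
  have key : ∀ (w : F) (z : Fin U.length → F), (∀ i, i < r → z i = 0) → ∀ i, i < r →
      tau (D := D) U p.2 w z i = 0 := by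
    intro w z hz i hi
    rcases ht : tgt D U p.2 i with _ | ⟨k, x⟩
    · rw [tau_of_none ht, hz i hi]
    · have hk : k < r := ((hc' i (List.mem_finRange i)).resolve_left (not_not.2 hi)) (k, x) ht
      rw [tau_of_some ht, hz i hi, hz k hk, mul_zero, zero_add]
  refine ⟨fun h i hi => ?_, key v y⟩
  have := key (-v) _ h i hi
  rwa [tau_add ((body_spec hok).1 _ (adj_spec hpm).1), neg_add_cancel, tau_zero] at this

theorem sum_cells {A : Type*} [AddCommMonoid A] (f : (Fin U.length → F) → A) :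
    ∑ y, f y = f 0 + ∑ r : Fin U.length, ∑ c ∈ univ.erase (0 : F), ∑ y ∈ cellSet r c, f y := by
  classical
  rw [← Finset.add_sum_erase _ _ (Finset.mem_univ (0 : Fin U.length → F))]
  congr 1
  rw [Finset.sum_sigma' univ (fun _ => univ.erase (0 : F)) (fun r c => ∑ y ∈ cellSet r c, f y),
    Finset.sum_sigma' (univ.sigma fun _ => univ.erase (0 : F)) (fun p => cellSet p.1 p.2) fun _ y => f y]
  symm
  refine Finset.sum_bij (fun p _ => p.2) (fun p hp => ?_) (fun p hp p' hp' e => ?_) (fun y hy => ?_)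
    fun p _ => rfl
  · simp only [cellSet, Finset.mem_sigma, Finset.mem_erase, Finset.mem_filter, Finset.mem_univ, true_and,
      and_true] at hp ⊢
    exact fun h => hp.1 (by rw [← hp.2.1, h]; rfl)
  · obtain ⟨⟨r, c⟩, y⟩ := p
    obtain ⟨⟨r', c'⟩, y'⟩ := p'
    simp only [cellSet, Finset.mem_sigma, Finset.mem_erase, Finset.mem_filter, Finset.mem_univ, true_and,
      and_true] at hp hp' e
    subst e
    obtain ⟨hc, hyr, hlt⟩ := hp
    obtain ⟨hc', hyr', hlt'⟩ := hp'
    rcases lt_trichotomy r r' with h | h | h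
    · exact absurd ((hlt' r h).symm.trans hyr).symm hc
    · subst h; subst hyr; subst hyr'; rfl
    · exact absurd ((hlt r' h).symm.trans hyr').symm hc'
  · have hne : (univ.filter fun i => y i ≠ 0).Nonempty := by
      obtain ⟨i, hi⟩ := Function.ne_iff.1 (Finset.ne_of_mem_erase hy)
      exact ⟨i, Finset.mem_filter.2 ⟨Finset.mem_univ _, hi⟩⟩
    refine ⟨⟨⟨(univ.filter fun i => y i ≠ 0).min' hne, y ((univ.filter fun i => y i ≠ 0).min' hne)⟩, y⟩, ?_, rfl⟩
    simp only [cellSet, Finset.mem_sigma, Finset.mem_erase, Finset.mem_filter, Finset.mem_univ, true_and,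
      and_true]
    refine ⟨(Finset.mem_filter.1 (Finset.min'_mem _ hne)).2, fun i hi => ?_⟩
    by_contra h
    exact absurd hi (not_lt.2 (Finset.min'_le _ i (Finset.mem_filter.2 ⟨Finset.mem_univ _, h⟩)))

theorem base_eq {r : Fin U.length} (hf : Frame hF ρ U L E) (hok : okBody D U L a = true) (hψ : ψ ≠ 1)
    (hdef : ∀ v : F, v ≠ 0 → LinearMap.trace ℂ M (op ρ (hF.xg U[r.val] v) * E) =
      LinearMap.trace ℂ M E - (Fintype.card F : ℂ) * ((Fintype.card F ^ a : ℕ) : ℂ))
    {c : F} (hc : c ≠ 0) :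
    mu hF ρ U ψ E (Pi.single r c) = 1 ∧
      ∀ y ∈ zs D L r c (fun _ => True) [], y ≠ Pi.single r c → mu hF ρ U ψ E y = 0 := by
  classical
  obtain ⟨hfib, hkill, -⟩ := (body_spec hok).2 r
  obtain ⟨hlen, -, hsp⟩ := fib_spec hfib
  have h1 := sum_zs hf.act hfib hc (fun _ => True) (mu hF ρ U ψ E) (adj D U L r) (fun p hp => hp)
    (adj_nodup hfib) (fun _ _ _ _ => Iff.rfl) (fun p hp v y => mu_tau hf (adj_spec hp).1 v y)
  have hfull : zs D L r c (fun _ => True) (adj D U L r) = univ.filter fun y : Fin U.length → F => y r = c := by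
    ext y
    simp only [zs, Finset.mem_filter, Finset.mem_univ, true_and]
    exact ⟨fun h => h.1, fun h => ⟨h, fun p hp hn => absurd hp hn⟩⟩
  have h2 := sum_fibre hf hψ hdef hc
  rw [← hfull, h1, hlen, Nat.cast_inj, smul_eq_mul] at h2
  have hsum : ∑ y ∈ zs D L r c (fun _ => True) [], mu hF ρ U ψ E y = 1 :=
    Nat.eq_of_mul_eq_mul_left (pow_pos Fintype.card_pos a) (h2.trans (mul_one _).symm)
  obtain ⟨y0, hy0, hy0m⟩ := Finset.exists_ne_zero_of_sum_ne_zero (by rw [hsum]; exact one_ne_zero)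
  have honly : ∀ y ∈ zs D L r c (fun _ => True) [], mu hF ρ U ψ E y ≠ 0 → y = y0 := by
    intro y hy hm
    by_contra hne
    have := Finset.add_le_sum (fun x _ => Nat.zero_le (mu hF ρ U ψ E x)) hy hy0 hne
    omega
  have hle := Finset.single_le_sum (fun x _ => Nat.zero_le (mu hF ρ U ψ E x)) hy0
  obtain ⟨hy0r, -, hy0adj⟩ := (Finset.mem_filter.1 hy0).2
  have hadj0 : ∀ t ∈ (adj D U L r).map Prod.fst, y0 t = 0 := fun t ht => by
    obtain ⟨p, hp, rfl⟩ := List.mem_map.1 ht
    exact hy0adj p hp List.not_mem_nil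
  have hmove : ∀ β ∈ L, ∀ t i : Fin U.length, ∀ z : ℤ, tgt D U β i = some (t, z) →
      (∀ k z, tgt D U β r = some (k, z) → y0 k = 0) →
      (∀ p ∈ adj D U L r, ∀ k z, tgt D U β p.1 = some (k, z) → y0 k = 0) → y0 t = 0 := by
    intro β hβ t i z hi hβr hβadj
    have hfix : ∀ x : Fin U.length, (∀ k z, tgt D U β x = some (k, z) → y0 k = 0) →
        tau (D := D) U β 1 y0 x = y0 x := fun x hx => by
      rcases ht : tgt D U β x with _ | ⟨k', z'⟩
      · rw [tau_of_none ht]
      · rw [tau_of_some ht, hx k' z' ht, mul_zero, add_zero]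
    have hmem : tau (D := D) U β 1 y0 ∈ zs D L r c (fun _ => True) [] := by
      refine Finset.mem_filter.2 ⟨Finset.mem_univ _, (hfix r hβr).trans hy0r, trivial, fun p hp _ => ?_⟩
      rw [hfix p.1 (hβadj p hp)]
      exact hy0adj p hp List.not_mem_nil
    have heq := congrFun (honly _ hmem (by rw [mu_tau hf hβ]; exact hy0m)) i
    rw [tau_of_some hi, add_eq_left, one_mul] at heq
    exact (mul_eq_zero.1 heq).resolve_left (z_ne (hf.act β hβ) hi)
  have hkill1 : ∀ t, okKill1 D U L r t = true → y0 t = 0 := by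
    intro t ht
    simp only [okKill1, List.any_eq_true, Bool.and_eq_true, Option.isNone_iff_eq_none, Option.any_eq_true,
      List.all_eq_true, Option.all_eq_true, List.contains_iff_mem, decide_eq_true_eq] at ht
    obtain ⟨β, hβ, ⟨hβr, i, -, ⟨k, z⟩, hi, hk⟩, hβadj⟩ := ht
    simp only at hk
    subst hk
    exact hmove β hβ k i z hi (fun k' z' h => by rw [hβr] at h; exact absurd h (by simp))
      fun p hp k' z' h => hadj0 _ (hβadj p hp (k', z') h)
  have hy : y0 = Pi.single r c := by
    funext t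
    by_cases htr : t = r
    · subst htr; rw [Pi.single_eq_same]; exact hy0r
    rw [Pi.single_eq_of_ne htr]
    by_cases hta : t ∈ (adj D U L r).map Prod.fst
    · exact hadj0 t hta
    simp only [okKill, List.all_eq_true, Bool.or_eq_true, decide_eq_true_eq, List.any_eq_true,
      Bool.and_eq_true, Option.any_eq_true, Option.all_eq_true, List.contains_iff_mem] at hkill
    rcases hkill t (List.mem_finRange t) with ((h | h) | h) | ⟨β, hβ, ⟨i, -, ⟨k, z⟩, hi, hk⟩, hall⟩
    · exact absurd h htr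
    · exact absurd h hta
    · exact hkill1 t h
    simp only at hk
    subst hk
    have hz : ∀ x ∈ r :: (adj D U L r).map Prod.fst, ∀ k' z', tgt D U β x = some (k', z') → y0 k' = 0 :=
      fun x hx k' z' h => (hall x hx (k', z') h).elim (hadj0 k') fun hh => hkill1 k' hh.2
    exact hmove β hβ k i z hi (hz r List.mem_cons_self)
      fun p hp => hz p.1 (List.mem_cons_of_mem _ (List.mem_map_of_mem hp))
  subst hy
  exact ⟨by omega, fun y hy hne => by_contra fun hm => hne (honly y hy hm)⟩

/-- The deficit hypothesis. -/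
def Deficit (hF : Facts D) (ρ : ↥(D.group F) →* Module.End ℂ M) (U : List ℕ) (E : Module.End ℂ M) (a : ℕ) :
    Prop :=
  ∀ r : Fin U.length, ∀ v : F, v ≠ 0 → LinearMap.trace ℂ M (op ρ (hF.xg U[r.val] v) * E) =
    LinearMap.trace ℂ M E - (Fintype.card F : ℂ) * ((Fintype.card F ^ a : ℕ) : ℂ)

theorem sum_cell (hf : Frame hF ρ U L E) (hok : okBody D U L a = true) (hψ : ψ ≠ 1)
    (hdef : Deficit hF ρ U E a) (r : Fin U.length) {c : F} (hc : c ≠ 0) {A : Type*} [AddCommMonoid A]
    (f : (Fin U.length → F) → A) (hf0 : ∀ y, mu hF ρ U ψ E y = 0 → f y = 0)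
    (hinv : ∀ p ∈ laterL D U L r, ∀ v y, f (tau (D := D) U p.2 v y) = f y) :
    ∑ y ∈ cellSet r c, f y = (Fintype.card F ^ later D U L r) • f (Pi.single r c) := by
  classical
  obtain ⟨hfib, -, -⟩ := (body_spec hok).2 r
  rw [← cell_eq (D := D) (L := L) r c, sum_zs hf.act hfib hc (fun y => ∀ i, i < r → y i = 0) f (laterL D U L r)
    (fun p hp => (List.mem_filter.1 hp).1) ((adj_nodup hfib).filter _) (fun p hp v y => cell_Q hok p hp v y) hinv]
  congr 1
  refine Finset.sum_eq_single _ (fun y hy hne => hf0 y ?_) fun h => absurd ?_ h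
  · refine (base_eq hf hok hψ (hdef r) hc).2 y (Finset.mem_filter.2 ⟨Finset.mem_univ _, ?_⟩) hne
    exact ⟨(Finset.mem_filter.1 hy).2.1, trivial, (Finset.mem_filter.1 hy).2.2.2⟩
  · refine Finset.mem_filter.2 ⟨Finset.mem_univ _, Pi.single_eq_same _ _,
      fun i hi => Pi.single_eq_of_ne hi.ne _, fun p hp _ => Pi.single_eq_of_ne ((fib_spec hfib).2.2 p hp).1 _⟩

theorem cellSum_eq (q : ℕ) (keep : Fin U.length → Bool) :
    cellSum D U L q keep = ∑ r : Fin U.length, if keep r then (q - 1) * q ^ later D U L r else 0 := by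
  rw [← Finset.sum_filter, cellSum]
  rw [← List.sum_toFinset _ ((List.nodup_finRange _).filter _)]
  refine Finset.sum_congr ?_ fun _ _ => rfl
  ext r
  simp

/-- The dimension splits. -/
theorem trace_split (hf : Frame hF ρ U L E) (hok : okBody D U L a = true) (hψ : ψ ≠ 1)
    (hdef : Deficit hF ρ U E a) :
    LinearMap.trace ℂ M E = LinearMap.trace ℂ M (P hF ρ U ψ E 0) +
      (cellSum D U L (Fintype.card F) (fun _ => true) : ℂ) := by
  rw [trace_E hf hψ, sum_cells, trace_P hf, cellSum_eq, Nat.cast_sum]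
  congr 1
  refine Finset.sum_congr rfl fun r _ => ?_
  rw [if_pos rfl, Finset.sum_congr rfl fun c hc => sum_cell hf hok hψ hdef r (Finset.ne_of_mem_erase hc)
    (fun y => (mu hF ρ U ψ E y : ℂ)) (fun y h => by simp [h])
    (fun p hp v y => by simp only [mu_tau hf (adj_spec (List.mem_filter.1 hp).1).1])]
  rw [Finset.sum_congr rfl fun c hc => by
    rw [(base_eq hf hok hψ (hdef r) (Finset.ne_of_mem_erase hc)).1, Nat.cast_one, nsmul_one],
    Finset.sum_const, Finset.card_erase_of_mem (Finset.mem_univ _), Finset.card_univ, nsmul_eq_mul, Nat.cast_mul]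

theorem exists_scalar (hf : Frame hF ρ U L E) {y : Fin U.length → F} (h1 : mu hF ρ U ψ E y = 1)
    {x : Module.End ℂ M} (hx : Commute x (P hF ρ U ψ E y)) :
    ∃ l : ℂ, x * P hF ρ U ψ E y = l • P hF ρ U ψ E y := by
  obtain ⟨v, hv0, hspan⟩ := finrank_eq_one_iff'.1 (show Module.finrank ℂ (LinearMap.range (P hF ρ U ψ E y)) = 1 from h1)
  have hidem : ∀ z, P hF ρ U ψ E y (P hF ρ U ψ E y z) = P hF ρ U ψ E y z := fun z =>
    LinearMap.congr_fun (wp_idem (R_mul hf) _) z
  have hv : P hF ρ U ψ E y v.1 = v.1 := by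
    obtain ⟨z, hz⟩ := v.2
    rw [← hz, hidem]
  obtain ⟨l, hl⟩ := hspan ⟨x v.1, ⟨x v.1, by
    rw [← Module.End.mul_apply, ← hx.eq, Module.End.mul_apply, hv]⟩⟩
  refine ⟨l, LinearMap.ext fun z => ?_⟩
  obtain ⟨k, hk⟩ := hspan ⟨_, LinearMap.mem_range_self (P hF ρ U ψ E y) z⟩
  have hk' : k • v.1 = P hF ρ U ψ E y z := congrArg Subtype.val hk
  have hl' : l • v.1 = x v.1 := congrArg Subtype.val hl
  rw [Module.End.mul_apply, LinearMap.smul_apply, ← hk', map_smul, ← hl', smul_comm]

theorem tau_unmoved {α : ℕ} {r : Fin U.length} (h : movedAt D U α r = false) (v c : F) :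
    tau (D := D) U α v (Pi.single r c) = Pi.single r c := by
  funext i
  rcases ht : tgt D U α i with _ | ⟨k, z⟩
  · rw [tau_of_none ht]
  · have hk : k ≠ r := fun e => by
      have : movedAt D U α r = true := by
        simp only [movedAt, List.any_eq_true, Option.any_eq_true, decide_eq_true_eq]
        exact ⟨i, List.mem_finRange i, (k, z), ht, e⟩
      rw [h] at this; exact Bool.false_ne_true this
    rw [tau_of_some ht, Pi.single_eq_of_ne hk, mul_zero, add_zero]

theorem commute_unmoved (hf : Frame hF ρ U L E) {α : ℕ} (hα : α ∈ L) {r : Fin U.length}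
    (h : movedAt D U α r = false) (v c : F) :
    Commute (op ρ (hF.xg α v)) (P hF ρ U ψ E (Pi.single r c)) := by
  have h' := op_P_tau (ψ := ψ) hf hα v (Pi.single r c)
  rwa [tau_unmoved h] at h'

theorem scalar_comm (hf : Frame hF ρ U L E) {s : ℕ} {r : Fin U.length}
    (hs : okScalar D U L s r = true) {c : F} (h1 : mu hF ρ U ψ E (Pi.single r c) = 1) (w : F) :
    op ρ (hF.xg s w) * P hF ρ U ψ E (Pi.single r c) = P hF ρ U ψ E (Pi.single r c) := by
  simp only [okScalar, List.any_eq_true, Bool.and_eq_true, decide_eq_true_eq, Bool.or_eq_true,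
    Bool.not_eq_true'] at hs
  obtain ⟨x, hx, y, hy, ⟨⟨⟨hne, hneg⟩, hxr⟩, hyr⟩, hc⟩ := hs
  obtain ⟨σ, hσ, hterm⟩ : ∃ σ : ℤ, (σ = 1 ∨ σ = -1) ∧ D.commTerms x y = [(s, σ, 1, 1)] := by
    rcases hc with h | h
    · exact ⟨1, Or.inl rfl, h⟩
    · exact ⟨-1, Or.inr rfl, h⟩
  obtain ⟨t, ht⟩ : ∃ t : F, (σ : F) * -t = w := by
    rcases hσ with rfl | rfl
    · exact ⟨-w, by simp⟩
    · exact ⟨w, by simp⟩
  have key := (hF.tsys F).x_comm x y (okAct_spec (hf.act x hx)).1 (okAct_spec (hf.act y hy)).1 hne hneg t 1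
  simp only [hF.tsys_x, ChevalleyDatum.commWord, hterm, List.map_cons, List.map_nil, List.prod_cons,
    List.prod_nil, mul_one, pow_one, ht] at key
  set T := P hF ρ U ψ E (Pi.single r c)
  obtain ⟨lx, hlx⟩ := exists_scalar hf h1 (commute_unmoved (ψ := ψ) hf hx hxr t c)
  obtain ⟨ly, hly⟩ := exists_scalar hf h1 (commute_unmoved (ψ := ψ) hf hy hyr 1 c)
  have e := congrArg (fun g => op ρ g * T) key
  simp only [op_mul ρ (mul_mem (hF.xg_mem_group _ _) (hF.xg_mem_group _ _)) (hF.xg_mem_group _ _),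
    op_mul ρ (hF.xg_mem_group _ _) (hF.xg_mem_group _ _)] at e
  -- cancel the two commuting scalars
  have hinv : ∀ g ∈ D.group F, op ρ g⁻¹ * op ρ g = 1 := fun g hg => op_inv_mul ρ hg
  have e1 : op ρ (hF.xg y 1) * op ρ (hF.xg x t) * T = op ρ (hF.xg x t) * op ρ (hF.xg y 1) * T := by
    rw [mul_assoc, hlx, mul_assoc, hly, mul_smul_comm, mul_smul_comm, hlx, hly, smul_smul, smul_smul, mul_comm]
  rw [e1] at e
  have e2 := congrArg (fun g => op ρ (hF.xg y 1)⁻¹ * (op ρ (hF.xg x t)⁻¹ * g)) e
  simp only [← mul_assoc] at e2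
  simp only [mul_assoc (op ρ (hF.xg y 1)⁻¹), op_inv_mul ρ (hF.xg_mem_group x t), mul_one,
    op_inv_mul ρ (hF.xg_mem_group y 1), one_mul] at e2
  exact e2.symm

theorem conj_R_torus (hf : Frame hF ρ U L E) (t : Fin D.rank → Fˣ) (hT : Commute (op ρ (torus D F t)) E)
    (x : Fin U.length → F) : op ρ (torus D F t * eta hF U x * (torus D F t)⁻¹) * E =
      R hF ρ U E (fun i => (torChar D t U[i.val] : F) * x i) := by
  classical
  refine conj_R hf (hF.torus_mem_group t) hT
    (AddMonoidHom.mk' (fun (x : Fin U.length → F) i => (torChar D t U[i.val] : F) * x i)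
      fun a b => funext fun i => by simp [mul_add]) (fun i u => ?_) x
  rw [hF.torus_conj t (hf.lt i), AddMonoidHom.mk'_apply, ← R_single hf]
  congr 1
  funext j
  by_cases hj : j = i
  · subst hj; simp
  · simp [Pi.single_eq_of_ne hj]

theorem scalar_torus (hf : Frame hF ρ U L E) {s : ℕ} (hs : s ∈ L) {r : Fin U.length}
    (hsr : movedAt D U s r = false) {k : List ℤ} (hk : okTorus D U s r k = true) (hq : 3 ≤ Fintype.card F)
    (hT : ∀ t : Fin D.rank → Fˣ, Commute (op ρ (torus D F t)) E)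
    {c : F} (h1 : mu hF ρ U ψ E (Pi.single r c) = 1) (w : F) :
    op ρ (hF.xg s w) * P hF ρ U ψ E (Pi.single r c) = P hF ρ U ψ E (Pi.single r c) := by
  classical
  simp only [okTorus, Bool.and_eq_true, decide_eq_true_eq] at hk
  obtain ⟨v, hv⟩ : ∃ v : Fˣ, v ≠ 1 := by
    refine Fintype.exists_ne_of_one_lt_card ?_ 1
    rw [Fintype.card_units]; omega
  obtain ⟨t, ht⟩ : ∃ t : Fin D.rank → Fˣ, ∀ i, t i = v ^ k.getD i.val 0 := ⟨_, fun _ => rfl⟩
  have hchar : ∀ u : ℕ, torChar D t u = v ^ ((List.finRange D.rank).map fun i => k.getD i.val 0 * D.cartan i.val u).sum := by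
    intro u
    rw [torChar, ← Fin.sum_univ_def]
    induction (Finset.univ : Finset (Fin D.rank)) using Finset.induction_on with
    | empty => simp
    | insert i S hi ih => rw [Finset.prod_insert hi, Finset.sum_insert hi, ih, _root_.zpow_add, ht, _root_.zpow_mul]
  set μ : Fˣ := torChar D t s with hμ
  have hμ1 : μ ≠ 1 := by
    rw [hμ, hchar]
    rcases hk.2 with h | h <;> rw [h] <;> simpa using hv
  have hg : torus D F t ∈ D.group F := hF.torus_mem_group t
  have hr1 : torChar D t U[r.val] = 1 := by rw [hchar, hk.1, zpow_zero]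
  -- the torus element fixes the weight
  have hηconj : ∀ x : Fin U.length → F, op ρ (torus D F t * eta hF U x * (torus D F t)⁻¹) * E =
      R hF ρ U E (fun i => (torChar D t U[i.val] : F) * x i) :=
    conj_R_torus hf t (hT t)
  set T := P hF ρ U ψ E (Pi.single r c) with hTdef
  have hb : Function.Bijective fun x : Fin U.length → F => fun i => (torChar D t U[i.val] : F) * x i :=
    Finite.injective_iff_bijective.1 fun a b h => funext fun i =>
      mul_left_cancel₀ (Units.ne_zero _) (congrFun h i)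
  have hTc : Commute (op ρ (torus D F t)) T := by
    show op ρ (torus D F t) * T = T * op ρ (torus D F t)
    simp only [hTdef, P, wp, mul_smul_comm, smul_mul_assoc, Finset.mul_sum, Finset.sum_mul]
    congr 1
    refine Fintype.sum_equiv (Equiv.ofBijective _ hb) _ _ fun x => ?_
    rw [Equiv.ofBijective_apply, ← hηconj, R, op_mul ρ (mul_mem hg (eta_mem hF U x)) (inv_mem hg),
      op_mul ρ hg (eta_mem hF U x)]
    congr 1
    · simp only [chi_apply, dot, Pi.neg_apply]
      congr 1
      refine Finset.sum_congr rfl fun i _ => ?_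
      by_cases hi : i = r
      · subst hi; rw [hr1, Units.val_one, one_mul]
      · rw [Pi.single_eq_of_ne hi, zero_mul, zero_mul]
    · rw [mul_assoc _ E, ← (hT t).eq, ← mul_assoc (op ρ (torus D F t) * _ * _),
        mul_assoc (op ρ (torus D F t) * _), op_inv_mul ρ hg, mul_one]
      simp only [mul_assoc]
  obtain ⟨u, hu⟩ : ∃ u : F, u = w / ((μ : F) - 1) := ⟨_, rfl⟩
  have hμd : (μ : F) - 1 ≠ 0 := sub_ne_zero.2 fun e => hμ1 (Units.ext (by simpa using e))
  have hw : hF.xg s w = torus D F t * hF.xg s u * (torus D F t)⁻¹ * (hF.xg s u)⁻¹ := by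
    rw [hF.torus_conj t (okAct_spec (hf.act s hs)).1, ← hμ, ← hF.xg_neg, ← hF.xg_add]
    congr 1
    rw [hu]; field_simp; ring
  obtain ⟨l, hl⟩ := exists_scalar hf h1 (commute_unmoved (ψ := ψ) hf hs hsr u c)
  have hli := commute_inv ρ (hF.xg_mem_group s u) (commute_unmoved (ψ := ψ) hf hs hsr u c)
  rw [hw, op_mul ρ (mul_mem (mul_mem hg (hF.xg_mem_group _ _)) (inv_mem hg)) (inv_mem (hF.xg_mem_group _ _)),
    op_mul ρ (mul_mem hg (hF.xg_mem_group _ _)) (inv_mem hg), op_mul ρ hg (hF.xg_mem_group _ _), mul_assoc, hli.eq,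
    ← mul_assoc, mul_assoc _ (op ρ (torus D F t)⁻¹), (commute_inv ρ hg hTc).eq, ← mul_assoc,
    mul_assoc (op ρ (torus D F t)) (op ρ (hF.xg s u)), hl, mul_smul_comm, hTc.eq, smul_mul_assoc,
    mul_assoc T (op ρ (torus D F t)), op_mul_inv ρ hg, mul_one, ← hl,
    (commute_unmoved (ψ := ψ) hf hs hsr u c).eq, mul_assoc, op_mul_inv ρ (hF.xg_mem_group s u), mul_one]

/-- The trace of the top root element splits. -/
theorem trace_top_split (hf : Frame hF ρ U L E) (hok : okBody D U L a = true) (hψ : ψ ≠ 1)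
    (hdef : Deficit hF ρ U E a) {s : ℕ} (hs : okTrace D U L s = true)
    (hsc : ∀ r, movedAt D U s r = false → ∀ c : F, c ≠ 0 → mu hF ρ U ψ E (Pi.single r c) = 1 → ∀ w : F,
      op ρ (hF.xg s w) * P hF ρ U ψ E (Pi.single r c) = P hF ρ U ψ E (Pi.single r c))
    {v : F} (hv : v ≠ 0) :
    LinearMap.trace ℂ M (op ρ (hF.xg s v) * E) = LinearMap.trace ℂ M (op ρ (hF.xg s v) * P hF ρ U ψ E 0) +
      (cellSum D U L (Fintype.card F) (fun r => !movedAt D U s r) : ℂ) := by
  classical
  simp only [okTrace, Bool.and_eq_true, decide_eq_true_eq, List.all_eq_true, Bool.or_eq_true] at hs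
  obtain ⟨hsL, hstop⟩ := hs
  conv_lhs => rw [← sum_P (ψ := ψ) hf hψ, Finset.mul_sum, map_sum]
  rw [sum_cells, cellSum_eq, Nat.cast_sum]
  congr 1
  refine Finset.sum_congr rfl fun r _ => ?_
  cases hm : movedAt D U s r
  · have htop := (hstop r (List.mem_finRange r)).resolve_left (by rw [hm]; exact Bool.false_ne_true)
    rw [Bool.not_false, if_pos rfl]
    have hsum : ∀ c ∈ univ.erase (0 : F), ∑ y ∈ cellSet r c,
        LinearMap.trace ℂ M (op ρ (hF.xg s v) * P hF ρ U ψ E y) = ((Fintype.card F ^ later D U L r : ℕ) : ℂ) := by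
      intro c hc
      have hc0 := Finset.ne_of_mem_erase hc
      rw [sum_cell hf hok hψ hdef r hc0 _ (fun y h => by rw [P_eq_zero hf h, mul_zero, map_zero]) ?_,
        hsc r hm c hc0 (base_eq hf hok hψ (hdef r) hc0).1 v, trace_P hf, (base_eq hf hok hψ (hdef r) hc0).1,
        Nat.cast_one, nsmul_one]
      intro p hp w y
      obtain ⟨hpm, hpl⟩ := List.mem_filter.1 hp
      obtain ⟨hpL, -⟩ := adj_spec hpm
      simp only [okTop, List.all_eq_true, Bool.or_eq_true, decide_eq_true_eq, Bool.and_eq_true] at htop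
      obtain ⟨⟨hne, hneg⟩, hterm⟩ := (htop p hpm).resolve_left (by simpa using hpl)
      have key := (hF.tsys F).x_comm p.2 s (okAct_spec (hf.act _ hpL)).1 (okAct_spec (hf.act _ hsL)).1 hne hneg w v
      simp only [hF.tsys_x, ChevalleyDatum.commWord, hterm, List.map_nil, List.prod_nil, mul_one] at key
      have hg := hF.xg_mem_group (F := F) p.2 w
      have hc1 : Commute (op ρ (hF.xg s v)) (op ρ (hF.xg p.2 w)) := by
        show _ = _
        rw [← op_mul ρ (hF.xg_mem_group _ _) hg, ← op_mul ρ hg (hF.xg_mem_group _ _), key]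
      have hPc := op_P_tau (ψ := ψ) hf hpL w y
      calc LinearMap.trace ℂ M (op ρ (hF.xg s v) * P hF ρ U ψ E (tau (D := D) U p.2 w y))
          = LinearMap.trace ℂ M (op ρ (hF.xg s v) * (op ρ (hF.xg p.2 w)⁻¹ * (op ρ (hF.xg p.2 w) *
              P hF ρ U ψ E (tau (D := D) U p.2 w y)))) := by
            rw [← mul_assoc (op ρ (hF.xg p.2 w)⁻¹), op_inv_mul ρ hg, one_mul]
        _ = LinearMap.trace ℂ M (op ρ (hF.xg s v) * P hF ρ U ψ E y) := by
            rw [hPc, ← mul_assoc, ← mul_assoc, LinearMap.trace_mul_comm, ← mul_assoc, ← mul_assoc,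
              ← hc1.eq, mul_assoc (op ρ (hF.xg s v)), op_mul_inv ρ hg, mul_one]
    rw [Finset.sum_congr rfl hsum, Finset.sum_const, Finset.card_erase_of_mem (Finset.mem_univ _),
      Finset.card_univ, nsmul_eq_mul, Nat.cast_mul]
  · rw [Bool.not_true, if_neg Bool.false_ne_true, Nat.cast_zero]
    refine Finset.sum_eq_zero fun c hc => Finset.sum_eq_zero fun y hy => ?_
    obtain ⟨i, z, hi⟩ : ∃ i z, tgt D U s i = some (r, z) := by
      simp only [movedAt, List.any_eq_true, Option.any_eq_true, decide_eq_true_eq] at hm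
      obtain ⟨i, -, ⟨k, z⟩, hi, hk⟩ := hm
      exact ⟨i, z, by simp only at hk; rw [hi, hk]⟩
    have hmv : tau (D := D) U s (-v) y ≠ y := by
      intro e
      have h := congrFun e i
      rw [tau_of_some hi, (Finset.mem_filter.1 hy).2.1, add_eq_left] at h
      exact mul_ne_zero (mul_ne_zero (neg_ne_zero.2 hv) (z_ne (hf.act s hsL) hi)) (Finset.ne_of_mem_erase hc) h
    have hP := op_P_tau (ψ := ψ) hf hsL v (tau (D := D) U s (-v) y)
    rw [tau_add (hf.act s hsL), add_neg_cancel, tau_zero] at hP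
    conv_lhs => rw [show P hF ρ U ψ E y = P hF ρ U ψ E y * P hF ρ U ψ E y from (wp_idem (R_mul hf) _).symm,
      ← mul_assoc, hP, LinearMap.trace_mul_comm, ← mul_assoc, P_orth hf hψ (Ne.symm hmv), zero_mul, map_zero]

end Cfsg.Agent.Small.MinusculeDegree
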