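import Cfsg.Agent.Lib.Lie.Facts

/-!
Tables for the characters of an abelian unipotent radical under the root elements of its Levi subgroup.
Positions refer to the list `U` of the roots of the radical.
-/

set_option autoImplicit false

namespace Cfsg.Agent.Small.MinusculeDegree

open Cfsg.Lie

variable (D : ChevalleyDatum) (U : List ℕ)

/-- Where the root `α` moves the position `i`, with the sign. -/
def tgt (α : ℕ) (i : Fin U.length) : Option (Fin U.length × ℤ) :=
  match D.commTerms α U[i.val] with
  | [c] => if h : U.idxOf c.1 < U.length then some (⟨U.idxOf c.1, h⟩, c.2.1) else none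
  | _ => none

/-- The root `α` normalises the radical, acting through `tgt`. -/
def okAct (α : ℕ) : Bool :=
  decide (α < D.nroots) && (List.finRange U.length).all fun i =>
    decide (U[i.val] < D.nroots) && decide (U[i.val] ≠ α) && decide (U[i.val] ≠ D.neg α) &&
      (match tgt D U α i with
        | none => decide (D.commTerms α U[i.val] = [])
        | some (k, z) => decide (D.commTerms α U[i.val] = [(U[k.val], z, 1, 1)]) &&
            decide (z = 1 ∨ z = -1) && (tgt D U α k).isNone)

variable (L : List ℕ)

/-- The positions moved onto `r`, with their roots. -/
def adj (r : Fin U.length) : List (Fin U.length × ℕ) :=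
  (List.finRange U.length).flatMap fun i =>
    (L.filter fun α => (tgt D U α i).any fun p => decide (p.1 = r)).map fun α => (i, α)

/-- The moves onto `r` are independent translations of `a` coordinates. -/
def okFib (a : ℕ) (r : Fin U.length) : Bool :=
  decide ((adj D U L r).length = a) && decide ((adj D U L r).map Prod.fst).Nodup &&
    (adj D U L r).all fun p => decide (p.1 ≠ r) && (tgt D U p.2 r).isNone &&
      (adj D U L r).all fun p' => decide (p'.1 = p.1) || (tgt D U p.2 p'.1).isNone

/-- The position `t` is killed by a root fixing `r`. -/
def okKill1 (r t : Fin U.length) : Bool :=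
  L.any fun β => (tgt D U β r).isNone &&
    ((List.finRange U.length).any fun i => (tgt D U β i).any fun p => decide (p.1 = t)) &&
    (adj D U L r).all fun p =>
      (tgt D U β p.1).all fun p' => ((adj D U L r).map Prod.fst).contains p'.1

/-- The other positions are killed by the stabiliser, some of them only once others are. -/
def okKill (r : Fin U.length) : Bool :=
  (List.finRange U.length).all fun t => decide (t = r) || ((adj D U L r).map Prod.fst).contains t ||
    okKill1 D U L r t || L.any fun β =>
      ((List.finRange U.length).any fun i => (tgt D U β i).any fun p => decide (p.1 = t)) &&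
      (r :: (adj D U L r).map Prod.fst).all fun i => (tgt D U β i).all fun p' =>
        ((adj D U L r).map Prod.fst).contains p'.1 || (decide (p'.1 ≠ r) && okKill1 D U L r p'.1)

/-- The later moves keep the earlier positions zero. -/
def okCell (r : Fin U.length) : Bool :=
  (adj D U L r).all fun p => decide (p.1 < r) || (List.finRange U.length).all fun i =>
    decide (¬ i < r) || (tgt D U p.2 i).all fun p' => decide (p'.1 < r)

/-- The number of later moves. -/
def later (r : Fin U.length) : ℕ := ((adj D U L r).filter fun p => !decide (p.1 < r)).length

/-- The root `s` commutes with the later moves. -/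
def okTop (s : ℕ) (r : Fin U.length) : Bool :=
  (adj D U L r).all fun p => decide (p.1 < r) ||
    (decide (s ≠ p.2) && decide (s ≠ D.neg p.2) && decide (D.commTerms p.2 s = []))

/-- The root `s` moves the character at `r`. -/
def movedAt (s : ℕ) (r : Fin U.length) : Bool :=
  (List.finRange U.length).any fun i => (tgt D U s i).any fun p => decide (p.1 = r)

/-- The root `s` is a commutator of roots fixing the character at `r`. -/
def okScalar (s : ℕ) (r : Fin U.length) : Bool :=
  L.any fun x => L.any fun y => decide (y ≠ x) && decide (y ≠ D.neg x) && !movedAt D U x r && !movedAt D U y r &&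
    (decide (D.commTerms x y = [(s, 1, 1, 1)]) || decide (D.commTerms x y = [(s, -1, 1, 1)]))

end Cfsg.Agent.Small.MinusculeDegree
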